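import Mathlib.GroupTheory.SpecificGroups.Cyclic
import Mathlib.GroupTheory.NoncommCoprod
import Mathlib.Tactic.Ring
import Mathlib.GroupTheory.Index
import Mathlib.GroupTheory.Sylow

set_option autoImplicit false

namespace Cfsg.Agent.H41

variable {G : Type*} [Group G]

theorem exists_ne_one {H : Subgroup G} (h : H ≠ ⊥) : ∃ x ∈ H, x ≠ 1 :=
  (H.bot_or_exists_ne_one).resolve_left h

theorem card_sup_of_commute [Finite G] (A B : Subgroup G)
    (hc : ∀ a ∈ A, ∀ b ∈ B, a * b = b * a) (hd : A ⊓ B = ⊥) :
    Nat.card (A ⊔ B : Subgroup G) = Nat.card A * Nat.card B := by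
  have hcomm : ∀ (a : A) (b : B), Commute (A.subtype a) (B.subtype b) := fun a b => hc _ a.2 _ b.2
  let f : A × B →* G := MonoidHom.noncommCoprod A.subtype B.subtype hcomm
  have hr : f.range = A ⊔ B := by
    refine (MonoidHom.noncommCoprod_range A.subtype B.subtype hcomm).trans ?_
    rw [Subgroup.range_subtype, Subgroup.range_subtype]
  have hi : Function.Injective f := by
    rw [injective_iff_map_eq_one]
    rintro ⟨a, b⟩ h
    have h' : (a : G) * b = 1 := h
    have hab : (a : G) = (b : G)⁻¹ := eq_inv_of_mul_eq_one_left h'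
    have ha : (a : G) ∈ A ⊓ B := ⟨a.2, by rw [hab]; exact B.inv_mem b.2⟩
    rw [hd, Subgroup.mem_bot] at ha
    have hb : (b : G) = 1 := by rw [ha] at h'; simpa using h'
    exact Prod.ext (Subtype.ext ha) (Subtype.ext hb)
  rw [← hr, ← Nat.card_congr (MonoidHom.ofInjective hi).toEquiv, Nat.card_prod]

/-- In a finite cyclic subgroup there is at most one subgroup of each order. -/
theorem eq_of_card_eq_of_le_cyclic [Finite G] {C A B : Subgroup G} (hC : IsCyclic C)
    (hA : A ≤ C) (hB : B ≤ C) (h : Nat.card A = Nat.card B) : A = B := by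
  classical
  haveI : Fintype C := Fintype.ofFinite C
  set n := Nat.card A with hn
  have key : ∀ D : Subgroup G, D ≤ C → Nat.card D = n →
      ((D.subgroupOf C : Set C).toFinset = {x : C | x ^ n = 1}.toFinset) := by
    intro D hD hcD
    apply Finset.eq_of_subset_of_card_le
    · intro x hx
      simp only [Set.mem_toFinset, Set.mem_setOf_eq, SetLike.mem_coe, Subgroup.mem_subgroupOf] at hx ⊢
      have : (⟨(x : G), hx⟩ : D) ^ n = 1 := by rw [← hcD]; exact pow_card_eq_one'
      exact Subtype.ext (by simpa using congrArg (Subtype.val : D → G) this)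
    · have h1 := IsCyclic.card_pow_eq_one_le (α := C) (n := n) Nat.card_pos
      rw [Set.toFinset_card, ← Nat.card_eq_fintype_card]
      have h2 : Nat.card (D.subgroupOf C : Set C) = n :=
        (Nat.card_congr (Subgroup.subgroupOfEquivOfLe hD).toEquiv).trans hcD
      calc _ = (Finset.univ.filter fun a : C => a ^ n = 1).card := by
            rw [Nat.card_eq_fintype_card, ← Set.toFinset_card]
            congr 1
            ext x
            simp
        _ ≤ n := h1
        _ = Nat.card (D.subgroupOf C : Set C) := h2.symm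
        _ = _ := by rw [Nat.card_eq_fintype_card, Set.toFinset_card]
  have e := (key A hA rfl).trans (key B hB h.symm).symm
  rw [Set.toFinset_inj] at e
  have e' : A.subgroupOf C = B.subgroupOf C := SetLike.coe_injective e
  have := congrArg (Subgroup.map C.subtype) e'
  rwa [Subgroup.map_subgroupOf_eq_of_le hA, Subgroup.map_subgroupOf_eq_of_le hB] at this

/-- For `N` normal, a Sylow subgroup meets `N` in a Sylow subgroup of `N`. -/
theorem not_dvd_relIndex_sylow [Finite G] {p : ℕ} [Fact p.Prime] (S : Sylow p G) (N : Subgroup G)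
    [N.Normal] : ¬ p ∣ (S : Subgroup G).relIndex N := by
  intro hdvd
  have e1 := Subgroup.relIndex_mul_relIndex (⊥ : Subgroup G) ((S : Subgroup G) ⊓ N) N bot_le inf_le_right
  rw [Subgroup.relIndex_bot_left, Subgroup.relIndex_bot_left, Subgroup.inf_relIndex_right] at e1
  have e2 := Subgroup.relIndex_mul_relIndex (⊥ : Subgroup G) (S : Subgroup G) ((S : Subgroup G) ⊔ N)
    bot_le le_sup_left
  rw [Subgroup.relIndex_bot_left, Subgroup.relIndex_bot_left] at e2
  have e3 := Subgroup.relIndex_mul_relIndex (⊥ : Subgroup G) N ((S : Subgroup G) ⊔ N) bot_le le_sup_right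
  rw [Subgroup.relIndex_bot_left, Subgroup.relIndex_bot_left, Subgroup.relIndex_sup_right] at e3
  have e4 := Subgroup.relIndex_mul_relIndex (⊥ : Subgroup G) ((S : Subgroup G) ⊓ N) (S : Subgroup G)
    bot_le inf_le_left
  rw [Subgroup.relIndex_bot_left, Subgroup.relIndex_bot_left, Subgroup.inf_relIndex_left] at e4
  have hpos : 0 < Nat.card S := Nat.card_pos
  have e5 : (S : Subgroup G).relIndex N = (S : Subgroup G).relIndex ((S : Subgroup G) ⊔ N) := by
    apply Nat.eq_of_mul_eq_mul_left hpos
    rw [e2, ← e3, ← e1, ← e4]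
    ring
  rw [e5] at hdvd
  exact S.not_dvd_index (hdvd.trans
    (Dvd.intro _ (Subgroup.relIndex_mul_index (le_sup_left : (S : Subgroup G) ≤ (S : Subgroup G) ⊔ N))))

/-- For `N` normal, `S ⊓ N` is (the image of) a Sylow subgroup of `N`. -/
theorem exists_sylow_map_eq_inf [Finite G] {p : ℕ} [Fact p.Prime] (S : Sylow p G) (N : Subgroup G)
    [N.Normal] : ∃ T : Sylow p N, (T : Subgroup N).map N.subtype = (S : Subgroup G) ⊓ N := by
  have h1 : IsPGroup p ((S : Subgroup G).subgroupOf N) := S.isPGroup'.comap_subtype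
  refine ⟨h1.toSylow (not_dvd_relIndex_sylow S N), ?_⟩
  exact Subgroup.subgroupOf_map_subtype _ _

end Cfsg.Agent.H41
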