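import Cfsg.Agent.H41.UMaximal
import Cfsg.Agent.S1894

/-!
A `p`-group of rank at least 3, `p` odd, has a self-centralizing normal abelian subgroup of rank at
least 3.
-/

set_option autoImplicit false

namespace Cfsg.Agent.H41

open Subgroup

variable {G : Type*} [Group G] [Finite G] {p : ℕ} [Fact p.Prime]

omit [Finite G] in
theorem isMulCommutative_of_isSCN {P C : Subgroup G} (h : Cfsg.IsSCN P C) : IsMulCommutative C :=
  PGroups.isMulCommutative_of_comm fun _ ha b hb => ((h.2.2.ge ha).2 b hb).symm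

theorem exists_isSCN_of_not_pRankLE (hp : p ≠ 2) {P : Subgroup G} (hP : IsPGroup p P)
    (h : ¬ Cfsg.PRankLE p 2 P) :
    ∃ C : Subgroup G, Cfsg.IsSCN P C ∧ IsMulCommutative C ∧ IsPGroup p C ∧ ¬ Cfsg.PRankLE p 2 C ∧
      ∃ E : Subgroup G, E ≤ C ∧ IsMulCommutative E ∧ (∀ a ∈ E, a ^ p = 1) ∧ Nat.card E = p ^ 3 := by
  have hpr : p.Prime := Fact.out
  obtain ⟨B, hBn, hBc, hBe, hB⟩ : ∃ B : Subgroup P, B.Normal ∧ IsMulCommutative B ∧
      (∀ a ∈ B, a ^ p = 1) ∧ p ^ 3 ≤ Nat.card B := by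
    by_contra hcon
    push Not at hcon
    obtain ⟨E, hEP, hEc, hEe, hE⟩ := exists_elementary_of_not_pRankLE h
    have h1 := card_le_sq_of_no_normal hp hP hcon (E.subgroupOf P)
      (PGroups.isMulCommutative_of_comm fun a ha b hb =>
        Subtype.ext (PGroups.comm_of_isMulCommutative hEc ha hb))
      (fun a ha => Subtype.ext (by simpa using hEe (a : G) ha))
    rw [Nat.card_congr (subgroupOfEquivOfLe hEP).toEquiv, hE] at h1
    exact absurd h1 (not_le.mpr (Nat.pow_lt_pow_right hpr.one_lt (by norm_num)))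
  haveI := hBn
  obtain ⟨C, hCn, hBC, hC⟩ := Cfsg.Agent.S1894.result hP (⊤ : Subgroup P) B le_top hBc
  have hCP : C.map P.subtype ≤ P := map_subtype_le _
  have hS : Cfsg.IsSCN P (C.map P.subtype) := by
    refine ⟨hCP, ?_, le_antisymm ?_ (le_inf hCP ?_)⟩
    · rw [le_normalizer_iff]
      rintro a ha _ ⟨z, hz, rfl⟩
      exact ⟨⟨a, ha⟩ * z * ⟨a, ha⟩⁻¹, hCn.conj_mem z hz _, rfl⟩
    · rintro x ⟨hxP, hxc⟩
      refine ⟨⟨x, hxP⟩, hC.2.2.le ⟨mem_top _, fun y hy => Subtype.ext (hxc (y : G) ⟨y, hy, rfl⟩)⟩, rfl⟩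
    · rintro _ ⟨y, hy, rfl⟩ _ ⟨z, hz, rfl⟩
      rw [← map_mul, ← map_mul, (hC.2.2.ge hy).2 z hz]
  refine ⟨_, hS, isMulCommutative_of_isSCN hS, hP.to_le hCP, ?_⟩
  have hc : Nat.card (B.map P.subtype) = Nat.card B :=
    (Nat.card_congr (B.equivMapOfInjective P.subtype P.subtype_injective).toEquiv).symm
  have hEc : IsMulCommutative (B.map P.subtype) := PGroups.isMulCommutative_of_comm (by
    rintro _ ⟨a, ha, rfl⟩ _ ⟨b, hb, rfl⟩
    rw [← map_mul, ← map_mul, PGroups.comm_of_isMulCommutative hBc ha hb])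
  have hEe : ∀ a ∈ B.map P.subtype, a ^ p = 1 := by
    rintro _ ⟨a, ha, rfl⟩
    rw [← map_pow, hBe a ha, map_one]
  have hEle : B.map P.subtype ≤ C.map P.subtype := Subgroup.map_mono hBC
  have hnot := not_pRankLE (k := 2) hpr.one_lt hEle hEc hEe (hc ▸ hB)
  refine ⟨hnot, ?_⟩
  obtain ⟨E, hE1, hE2, hE3, hE4⟩ := exists_elementary_of_not_pRankLE hnot
  exact ⟨E, hE1, hE2, hE3, hE4⟩

end Cfsg.Agent.H41
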