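import Cfsg.Prelude.Def_OddOrderLocal
import Cfsg.Agent.H24.FPF
import Cfsg.Agent.H41.Basic
import Cfsg.Agent.Coprime.Basic

/-!
Noncyclic groups of order `p²` acting on `q`-groups; elementary abelian subgroups from ranks.
-/

set_option autoImplicit false

namespace Cfsg.Agent.H41

open Subgroup

variable {G : Type*} [Group G]

theorem conj_mem_centralizer_of_normalizer {N : Subgroup G} {g z : G}
    (hg : g ∈ normalizer (N : Set G)) (hz : z ∈ centralizer (N : Set G)) :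
    g * z * g⁻¹ ∈ centralizer (N : Set G) := by
  rw [mem_centralizer_iff] at hz ⊢
  intro v hv
  have hv' := hz _ ((mem_normalizer_iff''.1 hg v).1 hv)
  calc v * (g * z * g⁻¹) = g * ((g⁻¹ * v * g) * z) * g⁻¹ := by group
    _ = g * (z * (g⁻¹ * v * g)) * g⁻¹ := by rw [hv']
    _ = g * z * g⁻¹ * v := by group

/-- A noncyclic group of order `p ^ 2` acting on a nontrivial `q`-group has a non-identity element
with a nontrivial fixed point. -/
theorem exists_centralizer_inf_ne_bot [Finite G] {p q : ℕ} [Fact p.Prime] [Fact q.Prime]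
    {B Q : Subgroup G} (hB : Nat.card B = p ^ 2) (hnc : ¬ IsCyclic B) (hQ : IsPGroup q Q)
    (hne : Q ≠ ⊥) (hBQ : B ≤ normalizer (Q : Set G)) :
    ∃ b ∈ B, b ≠ 1 ∧ Q ⊓ centralizer ({b} : Set G) ≠ ⊥ := by
  by_contra hcon
  push Not at hcon
  set Z := Q ⊓ centralizer (Q : Set G) with hZ
  have hZne : Z ≠ ⊥ := by
    haveI : Nontrivial Q := (Subgroup.nontrivial_iff_ne_bot Q).2 hne
    haveI := hQ.center_nontrivial
    obtain ⟨⟨z, hz⟩, hz1⟩ := exists_ne (1 : center Q)
    intro h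
    have hmem : (z : G) ∈ Z := ⟨z.2, mem_centralizer_iff.2 fun y hy =>
      congrArg Subtype.val (Subgroup.mem_center_iff.1 hz ⟨y, hy⟩)⟩
    rw [h, Subgroup.mem_bot] at hmem
    exact hz1 (Subtype.ext (Subtype.ext hmem))
  letI : CommGroup Z :=
    { (inferInstance : Group Z) with
      mul_comm := fun x y => Subtype.ext (mem_centralizer_iff.1 y.2.2 _ x.2.1) }
  haveI : Nontrivial Z := (Subgroup.nontrivial_iff_ne_bot Z).2 hZne
  have hmem : ∀ b ∈ B, ∀ z ∈ Z, b * z * b⁻¹ ∈ Z := fun b hb z hz =>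
    ⟨(mem_normalizer_iff.1 (hBQ hb) z).1 hz.1, conj_mem_centralizer_of_normalizer (hBQ hb) hz.2⟩
  let φ : B →* MulAut Z :=
    { toFun := fun b =>
        { toFun := fun z => ⟨b * z * (b : G)⁻¹, hmem b b.2 z z.2⟩
          invFun := fun z => ⟨(b : G)⁻¹ * z * b, by
            have := hmem _ (B.inv_mem b.2) z z.2
            rwa [inv_inv] at this⟩
          left_inv := fun z => Subtype.ext (by simp [mul_assoc])
          right_inv := fun z => Subtype.ext (by simp [mul_assoc])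
          map_mul' := fun y z => Subtype.ext (by simp [mul_assoc]) }
      map_one' := by ext z; simp
      map_mul' := fun a b => by ext z; simp [mul_assoc] }
  refine hnc (H24.isCyclic_of_card_mul_prime φ ?_ Fact.out Fact.out le_rfl (by rw [hB, pow_two]))
  intro b hb z hfix
  have h1 : (b : G) * z * (b : G)⁻¹ = z := congrArg Subtype.val hfix
  have h2 : (z : G) ∈ Q ⊓ centralizer ({(b : G)} : Set G) :=
    ⟨z.2.1, mem_centralizer_singleton_iff.2 (mul_inv_eq_iff_eq_mul.1 h1).symm⟩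
  rw [hcon b b.2 (fun h => hb (Subtype.ext h)), mem_bot] at h2
  exact Subtype.ext h2

theorem not_isCyclic_of_card_sq [Finite G] {p : ℕ} [hp : Fact p.Prime] {B : Subgroup G}
    (hB : Nat.card B = p ^ 2) (he : ∀ b ∈ B, b ^ p = 1) : ¬ IsCyclic B := by
  intro h
  obtain ⟨g, hg⟩ := h.exists_generator
  have h1 : orderOf g = p ^ 2 := by rw [orderOf_eq_card_of_forall_mem_zpowers hg, hB]
  have h2 : orderOf g ∣ p := orderOf_dvd_of_pow_eq_one (Subtype.ext (by simpa using he g g.2))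
  have h3 := Nat.le_of_dvd hp.out.pos h2
  have := hp.out.one_lt
  rw [h1, pow_two] at h3
  nlinarith

/-- Subgroups of prescribed order inside an elementary abelian subgroup. -/
theorem exists_le_card_eq [Finite G] {p : ℕ} [hp : Fact p.Prime] {E : Subgroup G}
    (he : ∀ b ∈ E, b ^ p = 1) {k : ℕ} (hk : p ^ k ≤ Nat.card E) :
    ∃ F : Subgroup G, F ≤ E ∧ Nat.card F = p ^ k := by
  have hE : IsPGroup p E := fun x => ⟨1, Subtype.ext (by simpa using he x x.2)⟩
  obtain ⟨n, hn⟩ := IsPGroup.iff_card.1 hE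
  rw [hn] at hk
  obtain ⟨K, hK⟩ := Sylow.exists_subgroup_card_pow_prime p
    (hn ▸ pow_dvd_pow p ((Nat.pow_le_pow_iff_right hp.out.one_lt).1 hk) : p ^ k ∣ Nat.card E)
  exact ⟨K.map E.subtype, map_subtype_le K,
    by rw [Nat.card_congr (K.equivMapOfInjective _ E.subtype_injective).symm.toEquiv, hK]⟩

/-- Failure of `RankLE k` yields an elementary abelian subgroup of order `p ^ (k+1)`. -/
theorem exists_elementary_of_not_rankLE [Finite G] {H : Subgroup G} {k : ℕ}
    (h : ¬ Cfsg.RankLE k H) :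
    ∃ p : ℕ, p.Prime ∧ ∃ E : Subgroup G, E ≤ H ∧ (∀ a ∈ E, ∀ b ∈ E, a * b = b * a) ∧
      (∀ a ∈ E, a ^ p = 1) ∧ Nat.card E = p ^ (k + 1) := by
  simp only [Cfsg.RankLE, Cfsg.PRankLE] at h
  push Not at h
  obtain ⟨p, hp, E₀, hc, he, hcard⟩ := h
  haveI := Fact.mk hp
  have hE : IsPGroup p E₀ := fun x => ⟨1, Subtype.ext (by simpa using he x x.2)⟩
  obtain ⟨n, hn⟩ := IsPGroup.iff_card.1 hE
  rw [hn] at hcard
  have hkn : p ^ (k + 1) ≤ Nat.card E₀ := by
    rw [hn]
    exact Nat.pow_le_pow_right hp.pos ((Nat.pow_lt_pow_iff_right hp.one_lt).1 hcard)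
  obtain ⟨F, hF, hFc⟩ := exists_le_card_eq (p := p) he hkn
  refine ⟨p, hp, F.map H.subtype, map_subtype_le F, ?_, ?_, ?_⟩
  · rintro _ ⟨a, ha, rfl⟩ _ ⟨b, hb, rfl⟩
    have := congrArg Subtype.val (hc.is_comm.comm ⟨a, hF ha⟩ ⟨b, hF hb⟩)
    exact congrArg Subtype.val this
  · rintro _ ⟨a, ha, rfl⟩
    exact congrArg Subtype.val (he a (hF ha))
  · rw [Nat.card_congr (F.equivMapOfInjective _ H.subtype_injective).symm.toEquiv, hFc]

/-- A rank three elementary group acting on two `q`-groups: a common element with fixed points. -/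
theorem exists_common_centralizer [Finite G] {p q : ℕ} [hp : Fact p.Prime] [Fact q.Prime]
    {E Q₁ Q₂ : Subgroup G} (hEc : ∀ a ∈ E, ∀ b ∈ E, a * b = b * a) (hEe : ∀ a ∈ E, a ^ p = 1)
    (hE : p ^ 3 ≤ Nat.card E) (hQ₁ : IsPGroup q Q₁) (hQ₂ : IsPGroup q Q₂) (h1 : Q₁ ≠ ⊥)
    (h2 : Q₂ ≠ ⊥) (hn1 : E ≤ normalizer (Q₁ : Set G)) (hn2 : E ≤ normalizer (Q₂ : Set G)) :
    ∃ e ∈ E, e ≠ 1 ∧ Q₁ ⊓ centralizer ({e} : Set G) ≠ ⊥ ∧ Q₂ ⊓ centralizer ({e} : Set G) ≠ ⊥ := by
  classical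
  have hp1 := hp.out.one_lt
  obtain ⟨B, hBE, hB⟩ := exists_le_card_eq (p := p) (k := 2) hEe
    (le_trans (Nat.pow_le_pow_right hp.out.pos (by norm_num)) hE)
  obtain ⟨e₁, he₁, he₁1, hne⟩ := exists_centralizer_inf_ne_bot hB
    (not_isCyclic_of_card_sq hB fun b hb => hEe b (hBE hb)) hQ₁ h1 (hBE.trans hn1)
  -- a subgroup of order p² avoiding `e₁`
  obtain ⟨E', hE'E, hE'⟩ := exists_le_card_eq (p := p) (k := 3) hEe hE
  have key : ∃ C : Subgroup G, C ≤ E ∧ Nat.card C = p ^ 2 ∧ e₁ ∉ C := by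
    by_cases h : e₁ ∈ E'
    · -- complement to ⟨e₁⟩ in E' of order p²
      have hmax := (Set.toFinite {C : Subgroup G | C ≤ E' ∧ e₁ ∉ C}).exists_maximal
        ⟨⊥, bot_le, by simpa using he₁1⟩
      obtain ⟨C, ⟨hC, hC1⟩, hCmax⟩ := hmax
      refine ⟨C, hC.trans hE'E, ?_, hC1⟩
      have hsup : Subgroup.zpowers e₁ ⊔ C = E' := by
        refine le_antisymm (sup_le (zpowers_le.2 h) hC) fun x hx => ?_
        by_contra hxn
        set D := C ⊔ zpowers x with hD
        have hD1 : e₁ ∈ D := by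
          by_contra hn
          exact hxn (mem_sup_right ((hCmax ⟨sup_le hC (zpowers_le.2 hx), hn⟩ le_sup_left)
            (mem_sup_right (mem_zpowers x))))
        have hcomm : C ≤ normalizer ((zpowers x : Subgroup G) : Set G) := by
          intro c hc
          rw [Subgroup.mem_normalizer_iff_map_conj_eq, MonoidHom.map_zpowers]
          congr 1
          show c * x * c⁻¹ = x
          rw [hEc c (hE'E (hC hc)) x (hE'E hx), mul_inv_cancel_right]
        rw [hD, sup_comm] at hD1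
        obtain ⟨y, hy, c, hc, hyc⟩ := (Coprime.mem_sup_iff hcomm).1 hD1
        obtain ⟨k, rfl⟩ := mem_zpowers_iff.1 hy
        have hxk : x ^ k ∈ zpowers e₁ ⊔ C := by
          rw [eq_mul_inv_of_mul_eq hyc]
          exact mul_mem_sup (mem_zpowers e₁) (C.inv_mem hc)
        have hcop : Int.gcd k p = 1 := by
          by_contra hg
          have hdiv : (p : ℤ) ∣ k := by
            rw [← Int.natAbs_dvd_natAbs, Int.natAbs_natCast]
            by_contra hnd
            exact hg ((Nat.Prime.coprime_iff_not_dvd hp.out).2 hnd).symm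
          obtain ⟨j, rfl⟩ := hdiv
          rw [zpow_mul, zpow_natCast, hEe x (hE'E hx), one_zpow, one_mul] at hyc
          exact hC1 (hyc ▸ hc)
        apply hxn
        have hb : x = (x ^ k) ^ (Int.gcdA k p) * (x ^ (p : ℤ)) ^ (Int.gcdB k p) := by
          rw [← zpow_mul, ← zpow_mul, ← zpow_add, ← Int.gcd_eq_gcd_ab, hcop]
          simp
        rw [hb, zpow_natCast, hEe x (hE'E hx), one_zpow, mul_one]
        exact zpow_mem hxk _
      have hd : Subgroup.zpowers e₁ ⊓ C = ⊥ := by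
        have hpr : (Nat.card (zpowers e₁)).Prime := by
          rw [Nat.card_zpowers, orderOf_eq_prime (hEe e₁ (hBE he₁)) he₁1]; exact hp.out
        haveI := Fact.mk hpr
        rcases ((C.subgroupOf (zpowers e₁)).eq_bot_or_eq_top_of_prime_card) with h0 | h0
        · rw [subgroupOf_eq_bot, disjoint_iff, inf_comm] at h0; exact h0
        · exact absurd (Subgroup.subgroupOf_eq_top.1 h0 (mem_zpowers e₁)) hC1
      have hc := card_sup_of_commute (zpowers e₁) C
        (fun a ha b hb => hEc a (hE'E (zpowers_le.2 h ha)) b (hE'E (hC hb))) hd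
      rw [hsup, hE', Nat.card_zpowers, orderOf_eq_prime (hEe e₁ (hBE he₁)) he₁1] at hc
      exact Nat.eq_of_mul_eq_mul_left hp.out.pos (hc.symm.trans (by ring))
    · obtain ⟨C, hC, hCc⟩ := exists_le_card_eq (p := p) (k := 2)
        (fun b hb => hEe b (hE'E hb)) (by rw [hE']; exact Nat.pow_le_pow_right hp.out.pos (by norm_num))
      exact ⟨C, hC.trans hE'E, hCc, fun hc => h (hC hc)⟩
  obtain ⟨C, hCE, hC, hC1⟩ := key
  set Q₁' := Q₁ ⊓ centralizer ({e₁} : Set G) with hQ₁'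
  have hCn : C ≤ normalizer (Q₁' : Set G) := by
    refine Subgroup.le_normalizer_iff.2 fun c hc z hz => ⟨(mem_normalizer_iff.1 (hn1 (hCE hc)) z).1 hz.1, ?_⟩
    show c * z * c⁻¹ ∈ centralizer ({e₁} : Set G)
    rw [mem_centralizer_singleton_iff]
    have e2 := mem_centralizer_singleton_iff.1 hz.2
    have e3 := hEc c (hCE hc) e₁ (hBE he₁)
    have e4 : c⁻¹ * e₁ = e₁ * c⁻¹ := hEc _ (E.inv_mem (hCE hc)) e₁ (hBE he₁)
    calc c * z * c⁻¹ * e₁ = c * (z * e₁) * c⁻¹ := by
          rw [mul_assoc _ c⁻¹, e4]; group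
      _ = c * (e₁ * z) * c⁻¹ := by rw [e2]
      _ = e₁ * (c * z * c⁻¹) := by rw [← mul_assoc c e₁, e3]; group
  obtain ⟨c, hc, hc1, hne'⟩ := exists_centralizer_inf_ne_bot hC
    (not_isCyclic_of_card_sq hC fun b hb => hEe b (hCE hb))
    (hQ₁.to_le inf_le_left) hne hCn
  -- `⟨e₁, c⟩` has order p² and fixes a nontrivial element of `Q₁`
  set D := zpowers e₁ ⊔ zpowers c with hD
  have hDE : D ≤ E := sup_le (zpowers_le.2 (hBE he₁)) (zpowers_le.2 (hCE hc))
  have hDcard : Nat.card D = p ^ 2 := by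
    have hcc : orderOf c = p := orderOf_eq_prime (hEe c (hCE hc)) hc1
    have hee : orderOf e₁ = p := orderOf_eq_prime (hEe e₁ (hBE he₁)) he₁1
    rw [hD, card_sup_of_commute _ _
      (fun a ha b hb => hEc a (zpowers_le.2 (hBE he₁) ha) b (zpowers_le.2 (hCE hc) hb)),
      Nat.card_zpowers, Nat.card_zpowers, hcc, hee, pow_two]
    haveI : Fact (Nat.card (zpowers e₁)).Prime := ⟨by rw [Nat.card_zpowers, hee]; exact hp.out⟩
    rcases (((zpowers c).subgroupOf (zpowers e₁)).eq_bot_or_eq_top_of_prime_card) with h0 | h0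
    · rw [subgroupOf_eq_bot, disjoint_iff, inf_comm] at h0; exact h0
    · exact absurd ((zpowers_le.2 hc) (Subgroup.subgroupOf_eq_top.1 h0 (mem_zpowers e₁))) hC1
  obtain ⟨d, hd, hd1, hne2⟩ := exists_centralizer_inf_ne_bot hDcard
    (not_isCyclic_of_card_sq hDcard fun b hb => hEe b (hDE hb)) hQ₂ h2 (hDE.trans hn2)
  refine ⟨d, hDE hd, hd1, fun h => hne' ?_, hne2⟩
  rw [eq_bot_iff] at h ⊢
  rintro z ⟨⟨hz, hz1⟩, hz2⟩
  refine h ⟨hz, mem_centralizer_singleton_iff.2 ?_⟩
  have hle : D ≤ centralizer ({z} : Set G) :=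
    sup_le (zpowers_le.2 (mem_centralizer_singleton_iff.2 (mem_centralizer_singleton_iff.1 hz1).symm))
      (zpowers_le.2 (mem_centralizer_singleton_iff.2 (mem_centralizer_singleton_iff.1 hz2).symm))
  exact (mem_centralizer_singleton_iff.1 (hle hd)).symm

end Cfsg.Agent.H41
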