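import Cfsg.Agent.H41.OddStable
import Cfsg.Agent.Cores.Constrained
import Cfsg.Agent.Cores.PSolvable
import Cfsg.Agent.Coprime.Centralize
import Cfsg.Agent.Fusion.PResidual
import Cfsg.Agent.PGroups.Critical
import Cfsg.Agent.PGroups.MaxAbelian
import Cfsg.Agent.S1894
import Cfsg.Agent.S0120
import Cfsg.Agent.S0096
import Cfsg.Agent.H42.FixedLift

/-!
A solvable group of odd order whose Sylow `p`-subgroup has no normal elementary abelian subgroup of
order `p ^ 3` has `p`-length at most one.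
-/

set_option autoImplicit false

namespace Cfsg.Agent.H41

open Subgroup
open scoped commutatorElement

variable {X : Type*} [Group X] [Finite X] {p : ℕ} [Fact p.Prime]

theorem mem_of_centralizes {P : Subgroup X} (hPC : centralizer (P : Set X) ≤ P) (hP : IsPGroup p P)
    {z : X} (ho : (orderOf z).Coprime p) (hz : z ∈ centralizer (P : Set X)) : z = 1 := by
  obtain ⟨k, hk⟩ := hP ⟨z, hPC hz⟩
  have h1 : orderOf z ∣ p ^ k := orderOf_dvd_of_pow_eq_one (by simpa using congrArg Subtype.val hk)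
  exact orderOf_eq_one_iff.mp (Nat.eq_one_of_dvd_coprimes (ho.pow_right k) dvd_rfl h1)

/-- Case of trivial `p'`-core. -/
theorem sylow_le_pCore (hp : p ≠ 2) (hodd : Odd (Nat.card X)) [Group.IsSolvable X]
    (hO : pPrimeCore p X = ⊥) (S : Sylow p X)
    (hE : ∀ E : Subgroup X, E ≤ (S : Subgroup X) → (S : Subgroup X) ≤ normalizer (E : Set X) →
      IsMulCommutative E → (∀ e ∈ E, e ^ p = 1) → Nat.card E < p ^ 3) :
    (S : Subgroup X) ≤ pCore p X := by
  classical
  have hpr : p.Prime := Fact.out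
  set P := pCore p X with hP
  haveI hPn : P.Normal := pCore_normal p X
  have hPC : centralizer (P : Set X) ≤ P :=
    Cores.centralizer_pCore_le Cores.isPSolvable_of_isSolvable hO
  have hPp : IsPGroup p P := Cores.pCore_isPGroup
  obtain ⟨H0, hH0, -, hH0G, hH0C⟩ := PGroups.exists_critical (p := p) hPp
  haveI := hH0
  set H := H0.map P.subtype with hH
  haveI hHn : H.Normal := inferInstance
  have hHP : H ≤ P := map_subtype_le _
  have hHp : IsPGroup p H := hPp.to_le hHP
  have hHcl : ⁅commutator H, (⊤ : Subgroup H)⁆ = ⊥ := by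
    rw [commutator_eq_bot_iff_le_centralizer, commutator_def, commutator_le]
    intro a _ b _ c _
    obtain ⟨a', ha', hae⟩ := a.2
    obtain ⟨b', hb', hbe⟩ := b.2
    obtain ⟨c', hc', hce⟩ := c.2
    have h1 := (hH0G (commutator_mem_commutator ha' (mem_top b'))).2 c' hc'
    have h2 : (P.subtype ⁅a', b'⁆) = ((⁅a, b⁆ : H) : X) := by
      rw [map_commutatorElement, hae, hbe]
      exact (map_commutatorElement H.subtype a b).symm
    refine Subtype.ext ?_
    show (c : X) * ((⁅a, b⁆ : H) : X) = ((⁅a, b⁆ : H) : X) * (c : X)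
    rw [← h2, ← hce, ← map_mul, ← map_mul, h1]
  have hmul : ∀ x y : H, x ^ p = 1 → y ^ p = 1 → (x * y) ^ p = 1 := fun x y hx hy =>
    Cfsg.Agent.S0096.result hp hHp hHcl (x * y)
      (mul_mem (subset_closure hx) (subset_closure hy))
  let Ω : Subgroup X :=
    { carrier := {x | x ∈ H ∧ x ^ p = 1}
      one_mem' := ⟨one_mem _, one_pow p⟩
      mul_mem' := fun {a b} ha hb => ⟨mul_mem ha.1 hb.1, by
        simpa using congrArg Subtype.val
          (hmul ⟨a, ha.1⟩ ⟨b, hb.1⟩ (Subtype.ext ha.2) (Subtype.ext hb.2))⟩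
      inv_mem' := fun {a} ha => ⟨inv_mem ha.1, by rw [inv_pow, ha.2, inv_one]⟩ }
  haveI hΩn : Ω.Normal := ⟨fun x hx g => ⟨hHn.conj_mem x hx.1 g, by
    rw [conj_pow, hx.2, mul_one, mul_inv_cancel]⟩⟩
  have hΩH : Ω ≤ H := fun x hx => hx.1
  have hΩp : IsPGroup p Ω := hHp.to_le hΩH
  have hΩS : Ω ≤ (S : Subgroup X) := (hΩH.trans hHP).trans (Cores.pCore_le_sylow S)
  -- `|Ω| ≤ p ^ 3`
  have hΩcard : Nat.card Ω ≤ p ^ 3 := by
    have hSp : IsPGroup p (S : Subgroup X) := S.isPGroup'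
    obtain ⟨C, hCn, -, hCA, hCN, hCC⟩ := Cfsg.Agent.S1894.result hSp (Ω.subgroupOf (S : Subgroup X))
      ⊥ bot_le (PGroups.isMulCommutative_of_comm fun x hx y hy => by
        rw [mem_bot.mp hx, mem_bot.mp hy])
    set C' := C.map (S : Subgroup X).subtype with hC'
    have hC'Ω : C' ≤ Ω := by
      rintro _ ⟨x, hx, rfl⟩
      exact hCA hx
    have hC'com : IsMulCommutative C' := PGroups.isMulCommutative_of_comm fun x hx y hy => by
      obtain ⟨x', hx', rfl⟩ := hx
      obtain ⟨y', hy', rfl⟩ := hy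
      rw [← map_mul, ← map_mul]
      exact congrArg _ (((hCC.ge hx' : x' ∈ _).2) y' hy').symm
    have hSC' : (S : Subgroup X) ≤ normalizer (C' : Set X) := by
      rw [le_normalizer_iff]
      rintro s hs _ ⟨x, hx, rfl⟩
      exact ⟨⟨s, hs⟩ * x * ⟨s, hs⟩⁻¹, hCn.conj_mem x hx _, rfl⟩
    have hlt := hE C' (map_subtype_le _) hSC' hC'com fun e he => (hC'Ω he).2
    obtain ⟨a, ha⟩ := IsPGroup.iff_card.mp (hΩp.to_le hC'Ω)
    have ha2 : a ≤ 2 := by
      rw [ha] at hlt
      exact Nat.le_of_lt_succ ((Nat.pow_lt_pow_iff_right hpr.one_lt).mp hlt)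
    haveI : (C'.subgroupOf Ω).Normal := by
      rw [normal_subgroupOf_iff_le_normalizer hC'Ω]
      exact hΩS.trans hSC'
    have hc1 : Nat.card (C'.subgroupOf Ω) = p ^ a := by
      rw [Nat.card_congr (subgroupOfEquivOfLe hC'Ω).toEquiv, ha]
    have h1 := PGroups.index_centralizer_le hΩp a (C'.subgroupOf Ω) hc1
    have h2 : centralizer ((C'.subgroupOf Ω : Subgroup Ω) : Set Ω) ≤ C'.subgroupOf Ω := by
      intro z hz
      refine ⟨⟨(z : X), hΩS z.2⟩, hCC.le ⟨z.2, fun c hc => ?_⟩, rfl⟩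
      have hcΩ : (c : X) ∈ Ω := hCA hc
      have h3 := hz ⟨(c : X), hcΩ⟩ (show (c : X) ∈ C' from ⟨c, hc, rfl⟩)
      exact Subtype.ext (congrArg (fun w : Ω => (w : X)) h3)
    calc Nat.card Ω = Nat.card (centralizer ((C'.subgroupOf Ω : Subgroup Ω) : Set Ω)) *
          (centralizer ((C'.subgroupOf Ω : Subgroup Ω) : Set Ω)).index := (Subgroup.card_mul_index _).symm
      _ ≤ Nat.card (C'.subgroupOf Ω) * p ^ a.choose 2 :=
          Nat.mul_le_mul (Nat.le_of_dvd Nat.card_pos (card_dvd_of_le h2)) h1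
      _ ≤ p ^ 3 := by
          rw [hc1, ← pow_add]
          refine Nat.pow_le_pow_right hpr.pos ?_
          interval_cases a <;> decide
  -- `Ω / Φ(Ω)` has order at most `p ^ 2`
  set Φ := (frattini Ω).map Ω.subtype with hΦ
  haveI : (frattini Ω).Characteristic := frattini_characteristic
  haveI hΦn : Φ.Normal := inferInstance
  set π := QuotientGroup.mk' Φ with hπ
  set V := Ω.map π with hV
  haveI hVn : V.Normal := hΩn.map π (QuotientGroup.mk'_surjective _)
  have hVp : IsPGroup p V := hΩp.map π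
  have hVcard : Nat.card V ≤ p ^ 2 := by
    obtain ⟨a, ha⟩ := IsPGroup.iff_card.mp hΩp
    have ha3 : a ≤ 3 := (Nat.pow_le_pow_iff_right hpr.one_lt).mp (ha ▸ hΩcard)
    rcases Nat.lt_or_eq_of_le ha3 with ha3 | rfl
    · exact (Nat.le_of_dvd Nat.card_pos (card_map_dvd Ω π)).trans
        (ha ▸ Nat.pow_le_pow_right hpr.pos (Nat.le_of_lt_succ ha3))
    have hΦΩ : Φ ≤ Ω := map_subtype_le _
    have hΦ1 : Φ ≠ ⊥ := by
      intro h
      have hbot : frattini Ω = ⊥ := (map_eq_bot_iff_of_injective _ Ω.subtype_injective).mp h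
      refine absurd ha (ne_of_lt (hE Ω hΩS ((normalizer_eq_top (H := Ω)).symm ▸ le_top)
        (PGroups.isMulCommutative_of_comm fun x hx y hy => ?_) fun e he => he.2))
      have h1 : ⁅(⟨x, hx⟩ : Ω), (⟨y, hy⟩ : Ω)⁆ = 1 := mem_bot.mp (hbot ▸
        PGroups.commutator_le_frattini hΩp (commutator_mem_commutator (mem_top _) (mem_top _)))
      exact congrArg Subtype.val (commutatorElement_eq_one_iff_mul_comm.mp h1)
    have hmul : Nat.card V * Nat.card Φ = p ^ 3 := by
      rw [← ha, ← Subgroup.card_mul_index (π.comp Ω.subtype).ker, Subgroup.index_ker,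
        mul_comm (Nat.card V)]
      congr 1
      · rw [← MonoidHom.comap_ker, hπ, QuotientGroup.ker_mk']
        exact (Nat.card_congr (subgroupOfEquivOfLe hΦΩ).toEquiv).symm
      · rw [MonoidHom.range_comp, range_subtype]
    obtain ⟨b, hb⟩ := IsPGroup.iff_card.mp (hΩp.to_le hΦΩ)
    have hb0 : b ≠ 0 := fun h => hΦ1 (card_eq_one.mp (by rw [hb, h, pow_zero]))
    rw [hb, show (3 : ℕ) = 2 + 1 from rfl, pow_succ] at hmul
    obtain ⟨b', rfl⟩ := Nat.exists_eq_succ_of_ne_zero hb0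
    rw [pow_succ, ← mul_assoc] at hmul
    exact (Nat.le_mul_of_pos_right _ (pow_pos hpr.pos b')).trans
      (Nat.eq_of_mul_eq_mul_right hpr.pos hmul).le
  -- a `p'`-element centralizing `V` is trivial
  have hker : ∀ z : X, (orderOf z).Coprime p → π z ∈ centralizer (V : Set (X ⧸ Φ)) → z = 1 := by
    intro z hzo hz
    refine mem_of_centralizes hPC hPp hzo ?_
    have hZ : zpowers z ≤ centralizer (Ω : Set X) := by
      refine Coprime.le_centralizer_of_frattini ((normalizer_eq_top (H := Ω)).symm ▸ le_top) ?_ ?_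
      · obtain ⟨j, hj⟩ := IsPGroup.iff_card.mp (hΩp.to_subgroup (frattini Ω))
        rw [hj, Nat.card_zpowers]
        exact hzo.pow_right j
      · intro a ha x hx
        obtain ⟨i, rfl⟩ := mem_zpowers_iff.mp ha
        refine (QuotientGroup.eq_one_iff (N := Φ) _).mp ?_
        show π _ = 1
        have h1 := zpow_mem hz i (π x) ⟨x, hx, rfl⟩
        rw [← map_zpow, ← map_mul, ← map_mul] at h1
        rw [map_mul, map_mul, map_mul, map_inv, map_inv, mul_inv_eq_one, mul_inv_eq_iff_eq_mul,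
          ← map_mul, ← map_mul]
        exact h1.symm
    let aH : MulAut H := MulAut.conjNormal z
    have haH : aH = 1 := by
      refine Cfsg.Agent.S0120.result hp hHp aH (hzo.coprime_dvd_left (orderOf_map_dvd _ z))
        fun x hx => Subtype.ext ?_
      show z * (x : X) * z⁻¹ = x
      rw [mul_inv_eq_iff_eq_mul]
      exact (hZ (mem_zpowers z) x ⟨x.2, by simpa using congrArg Subtype.val hx⟩).symm
    let aP : MulAut P := MulAut.conjNormal z
    have haP : aP = 1 := by
      refine PGroups.mulAut_eq_one_of_fixed hPp H0 hH0C aP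
        (hzo.coprime_dvd_left (orderOf_map_dvd _ z)) fun x hx => ?_
      apply Subtype.ext
      show z * (x : X) * z⁻¹ = x
      exact congrArg Subtype.val (DFunLike.congr_fun haH ⟨(x : X), x, hx, rfl⟩)
    intro x hx
    have h1 : z * x * z⁻¹ = x := congrArg Subtype.val (DFunLike.congr_fun haP (⟨x, hx⟩ : P))
    exact (mul_inv_eq_iff_eq_mul.mp h1).symm
  -- the Sylow subgroup acts quadratically
  have hodd' : Odd (Nat.card (X ⧸ Φ)) := hodd.of_dvd_nat (card_quotient_dvd_card Φ)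
  have hst := stableOnNormal_of_odd hp hodd' V hVp
  set D := (Thompson.stabPre p V).comap π with hD
  haveI : D.Normal := Normal.comap inferInstance π
  have hDp : IsPGroup p D := by
    rintro ⟨d, hd⟩
    obtain ⟨i, hi⟩ := Cores.pCore_isPGroup (p := p) ⟨_, hd⟩
    have hdi : π (d ^ p ^ i) ∈ centralizer (V : Set (X ⧸ Φ)) := by
      rw [map_pow]
      exact (QuotientGroup.eq_one_iff _).mp (congrArg Subtype.val hi)
    obtain ⟨k, hk⟩ := Cfsg.Agent.Fusion.exists_pow_coprime (p := p) (d ^ p ^ i)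
    refine ⟨i + k, Subtype.ext ?_⟩
    show d ^ p ^ (i + k) = 1
    rw [pow_add, pow_mul]
    exact hker _ hk (by rw [map_pow]; exact pow_mem hdi _)
  refine le_trans (fun s hs => ?_) (Cores.le_pCore hDp)
  refine hst (π s) ?_
  have hsp : IsPGroup p (zpowers (π s)) := by
    rw [← MonoidHom.map_zpowers]
    exact (S.isPGroup'.to_le (zpowers_le.mpr hs)).map π
  have hn : ∀ W : Subgroup (X ⧸ Φ), zpowers (π s) ≤ normalizer (W : Set (X ⧸ Φ)) →
      zpowers (π s) ≤ normalizer ((⁅W, zpowers (π s)⁆ : Subgroup (X ⧸ Φ)) : Set (X ⧸ Φ)) :=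
    fun W hW => Cfsg.Agent.H42.le_normalizer_commutator hW le_normalizer
  have hVn' : zpowers (π s) ≤ normalizer (V : Set (X ⧸ Φ)) :=
    (normalizer_eq_top (H := V)).symm ▸ le_top
  set V1 := ⁅V, zpowers (π s)⁆ with hV1
  have hV1le : V1 ≤ V := Coprime.commutator_le_left_of_normalizer hVn'
  by_contra hV2
  have hV1ne : V1 ≠ ⊥ := fun h => hV2 (by rw [h, commutator_bot_left])
  have hVne : V ≠ ⊥ := fun h => hV1ne (le_bot_iff.mp (h ▸ hV1le))
  have hl1 : V1 < V := Coprime.commutator_lt_of_isPGroup hVp hsp hVn' hVne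
  have hl2 : ⁅V1, zpowers (π s)⁆ < V1 :=
    Coprime.commutator_lt_of_isPGroup (hVp.to_le hV1le) hsp (hn V hVn') hV1ne
  have hc : ∀ A B : Subgroup (X ⧸ Φ), IsPGroup p B → A < B → p * Nat.card A ≤ Nat.card B := by
    intro A B hB hAB
    obtain ⟨i, hi⟩ := IsPGroup.iff_card.mp hB
    obtain ⟨j, hj⟩ := IsPGroup.iff_card.mp (hB.to_le hAB.le)
    have hlt : j < i := by
      by_contra hij
      exact hAB.ne (eq_of_le_of_card_ge hAB.le (by rw [hi, hj]; exact Nat.pow_le_pow_right hpr.pos (not_lt.mp hij)))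
    rw [hi, hj, ← pow_succ']
    exact Nat.pow_le_pow_right hpr.pos hlt
  have h3 := hc _ _ hVp hl1
  have h4 := hc _ _ (hVp.to_le hV1le) hl2
  have h5 : 1 < Nat.card ↥⁅V1, zpowers (π s)⁆ := (Subgroup.one_lt_card_iff_ne_bot _).mpr hV2
  nlinarith [hpr.one_lt, hVcard, Nat.mul_le_mul_left p h4]

/-- General form: `X = O_{p'}(X) N_X(S)`. -/
theorem sup_normalizer_sylow_eq_top (hp : p ≠ 2) (hodd : Odd (Nat.card X)) [Group.IsSolvable X]
    (S : Sylow p X)
    (hE : ∀ E : Subgroup X, E ≤ (S : Subgroup X) → (S : Subgroup X) ≤ normalizer (E : Set X) →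
      IsMulCommutative E → (∀ e ∈ E, e ^ p = 1) → Nat.card E < p ^ 3) :
    pPrimeCore p X ⊔ normalizer ((S : Subgroup X) : Set X) = ⊤ := by
  set N := pPrimeCore p X with hN
  set q := QuotientGroup.mk' N with hq
  set S' : Sylow p (X ⧸ N) := S.mapSurjective (QuotientGroup.mk'_surjective N) with hS'
  have hSN : (S : Subgroup X) ⊓ N = ⊥ :=
    Cores.disjoint_of_isPGroup_of_coprime S.isPGroup' Cores.coprime_card_pPrimeCore
  have hinj : Function.Injective (q.comp (S : Subgroup X).subtype) := by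
    rw [injective_iff_map_eq_one]
    intro x hx
    have h1 : (x : X) ∈ (S : Subgroup X) ⊓ N := ⟨x.2, (QuotientGroup.eq_one_iff _).mp hx⟩
    rw [hSN, mem_bot] at h1
    exact Subtype.ext h1
  have hodd' : Odd (Nat.card (X ⧸ N)) := hodd.of_dvd_nat (card_quotient_dvd_card N)
  have hle : (S' : Subgroup (X ⧸ N)) ≤ pCore p (X ⧸ N) := by
    refine sylow_le_pCore hp hodd' Cores.pPrimeCore_quotient_pPrimeCore S' fun E hES hSE hEc hEp => ?_
    rw [hS', Sylow.coe_mapSurjective] at hES hSE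
    set E₀ := (S : Subgroup X) ⊓ E.comap q with hE₀
    have hsub : ∀ a b : X, a ∈ (S : Subgroup X) → b ∈ (S : Subgroup X) → q a = q b → a = b := by
      intro a b ha hb hab
      exact congrArg Subtype.val (hinj (a₁ := ⟨a, ha⟩) (a₂ := ⟨b, hb⟩) hab)
    have hmap : E₀.map q = E := le_antisymm (by rintro _ ⟨x, hx, rfl⟩; exact hx.2) (by
      intro e he
      obtain ⟨x, hx, rfl⟩ := hES he
      exact ⟨x, ⟨hx, he⟩, rfl⟩)
    rw [← hmap]
    refine lt_of_le_of_lt (Nat.le_of_dvd Nat.card_pos (card_map_dvd E₀ q)) (hE E₀ inf_le_left ?_ ?_ ?_)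
    · rw [le_normalizer_iff]
      intro s hs x hx
      refine ⟨(S : Subgroup X).mul_mem ((S : Subgroup X).mul_mem hs hx.1) ((S : Subgroup X).inv_mem hs), ?_⟩
      show q (s * x * s⁻¹) ∈ E
      rw [map_mul, map_mul, map_inv]
      exact Coprime.conj_mem (hSE ⟨s, hs, rfl⟩) hx.2
    · exact PGroups.isMulCommutative_of_comm fun x hx y hy =>
        hsub _ _ (mul_mem hx.1 hy.1) (mul_mem hy.1 hx.1) (by
          rw [map_mul, map_mul]
          exact PGroups.comm_of_isMulCommutative hEc hx.2 hy.2)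
    · exact fun e he => hsub _ _ (pow_mem he.1 p) (one_mem _) (by
        rw [map_pow, map_one]; exact hEp _ he.2)
  have heq : (S' : Subgroup (X ⧸ N)) = pCore p (X ⧸ N) :=
    le_antisymm hle (Cores.pCore_le_sylow S')
  haveI : (S' : Subgroup (X ⧸ N)).Normal := heq ▸ pCore_normal p _
  haveI : ((S : Subgroup X) ⊔ N).Normal := by
    have h1 : ((S' : Subgroup (X ⧸ N)).comap q).Normal := Normal.comap inferInstance q
    rwa [hS', Sylow.coe_mapSurjective, Subgroup.comap_map_eq, hq, QuotientGroup.ker_mk'] at h1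
  have hfr := Sylow.normalizer_sup_eq_top' S (le_sup_left : (S : Subgroup X) ≤ (S : Subgroup X) ⊔ N)
  rw [eq_top_iff, ← hfr]
  exact sup_le le_sup_right (sup_le (le_normalizer.trans le_sup_right) le_sup_left)

end Cfsg.Agent.H41
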