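import Cfsg.Prelude.Def_OddOrderLocal
import Cfsg.Agent.Cores.PCore
import Cfsg.Agent.Coprime.Action
import Cfsg.Agent.PGroups.Basic

/-!
The transitivity lemmas (maximal `A`-invariant `q`-subgroups) in a minimal simple group.
-/

set_option autoImplicit false

namespace Cfsg.Agent.H41

open Subgroup

variable {G : Type*} [Group G]

/-- `O_{π(A)'}(C_G(A))`. -/
def transK (A : Subgroup G) : Subgroup G :=
  Cfsg.piCoreOf (Cfsg.primesNotDvd (Nat.card A)) (Subgroup.centralizer (A : Set G))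

theorem piCoreOf_le (π : Set ℕ) (X : Subgroup G) : Cfsg.piCoreOf π X ≤ X :=
  Subgroup.map_subtype_le _

theorem piCoreOf_isPiNumber [Finite G] (π : Set ℕ) (X : Subgroup G) :
    Cores.IsPiNumber π (Nat.card (Cfsg.piCoreOf π X)) := by
  rw [Cfsg.piCoreOf, Cores.card_map_eq _ X.subtype_injective]
  exact Cores.piCore_isPiNumber π

theorem normalizer_le_normalizer_piCoreOf (π : Set ℕ) (X : Subgroup G) :
    normalizer (X : Set G) ≤ normalizer (Cfsg.piCoreOf π X : Set G) := by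
  intro g hg
  rw [Subgroup.mem_normalizer_iff_map_conj_eq]
  have h1 : X.map (MulAut.conj g).toMonoidHom = X := Subgroup.mem_normalizer_iff_map_conj_eq.1 hg
  let e : X ≃* X := ((Subgroup.equivMapOfInjective X (MulAut.conj g).toMonoidHom
    (MulAut.conj g).injective).trans (MulEquiv.subgroupCongr h1))
  have h2 := Cores.piCore_map_mulEquiv π e
  rw [Cfsg.piCoreOf]
  conv_rhs => rw [← h2]
  rw [Subgroup.map_map, Subgroup.map_map]
  rfl

theorem le_piCoreOf [Finite G] {π : Set ℕ} {X N : Subgroup G} (hN : N ≤ X)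
    (hn : X ≤ normalizer (N : Set G)) (h : Cores.IsPiNumber π (Nat.card N)) :
    N ≤ Cfsg.piCoreOf π X := by
  haveI : (N.subgroupOf X).Normal := (normal_subgroupOf_iff_le_normalizer hN).2 hn
  rw [Cfsg.piCoreOf, ← map_subgroupOf_eq_of_le hN]
  refine Subgroup.map_mono (Cores.le_piCore ?_)
  rwa [Nat.card_congr (subgroupOfEquivOfLe hN).toEquiv]

theorem isPGroup_of_invSubgroups [Finite G] {A X Q : Subgroup G} {q : ℕ} (hq : q.Prime)
    (h : Q ∈ Cfsg.invSubgroups X A {q}) : IsPGroup q Q :=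
  (Cores.isPGroup_iff_isPiNumber hq).2 h.2.1

theorem invSubgroups_singleton_subset {A X : Subgroup G} {q : ℕ} (hq : q.Prime)
    (hqA : ¬ q ∣ Nat.card A) :
    Cfsg.invSubgroups X A {q} ⊆ Cfsg.invSubgroups X A (Cfsg.primesNotDvd (Nat.card A)) := by
  rintro Q ⟨h1, h2, h3⟩
  exact ⟨h1, fun p hp hd => by rw [Set.mem_singleton_iff.1 (h2 p hp hd)]; exact ⟨hq, hqA⟩, h3⟩

theorem exists_maxInvSubgroups_ge [Finite G] {X A : Subgroup G} {π : Set ℕ} {Q : Subgroup G}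
    (hQ : Q ∈ Cfsg.invSubgroups X A π) : ∃ R ∈ Cfsg.maxInvSubgroups X A π, Q ≤ R := by
  obtain ⟨R, hR⟩ := (Set.toFinite {R | R ∈ Cfsg.invSubgroups X A π ∧ Q ≤ R}).exists_maximal
    ⟨Q, hQ, le_rfl⟩
  exact ⟨R, ⟨hR.1.1, fun S hS hle => le_antisymm (hR.2 ⟨hS, hR.1.2.trans hle⟩ hle) hle⟩, hR.1.2⟩

theorem invSubgroups_map_conj [Finite G] {A : Subgroup G} {π : Set ℕ} {Q : Subgroup G} {c : G}
    (hc : c ∈ normalizer (A : Set G)) (hQ : Q ∈ Cfsg.invSubgroups ⊤ A π) :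
    Q.map (MulAut.conj c).toMonoidHom ∈ Cfsg.invSubgroups ⊤ A π := by
  obtain ⟨_, h2, h3⟩ := hQ
  refine ⟨le_top, ?_, ?_⟩
  · rwa [Coprime.card_map_conj]
  · intro a ha
    refine Coprime.mem_normalizer_of_map_conj ?_
    have ha' : c⁻¹ * a * c ∈ normalizer (Q : Set G) := h3 ((mem_normalizer_iff''.1 hc a).1 ha)
    rw [Coprime.map_conj_map_conj, show a * c = c * (c⁻¹ * a * c) by group,
      ← Coprime.map_conj_map_conj, Coprime.map_conj_eq ha']

theorem maxInvSubgroups_map_conj [Finite G] {A : Subgroup G} {π : Set ℕ} {Q : Subgroup G} {c : G}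
    (hc : c ∈ normalizer (A : Set G)) (hQ : Q ∈ Cfsg.maxInvSubgroups ⊤ A π) :
    Q.map (MulAut.conj c).toMonoidHom ∈ Cfsg.maxInvSubgroups ⊤ A π := by
  refine ⟨invSubgroups_map_conj hc hQ.1, fun R hR hle => ?_⟩
  have h1 := hQ.2 _ (invSubgroups_map_conj (inv_mem hc) hR) (by
    have := Subgroup.map_mono (f := (MulAut.conj c⁻¹).toMonoidHom) hle
    rwa [Coprime.map_conj_map_conj, inv_mul_cancel, Coprime.map_conj_one] at this)
  rw [← h1, Coprime.map_conj_map_conj, mul_inv_cancel, Coprime.map_conj_one]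

theorem centralizer_le_normalizer (A : Subgroup G) :
    centralizer (A : Set G) ≤ normalizer (A : Set G) := by
  intro c hc
  rw [mem_normalizer_iff]
  intro h
  have key : ∀ d ∈ centralizer (A : Set G), ∀ x ∈ A, d * x * d⁻¹ = x := fun d hd x hx => by
    rw [← mem_centralizer_iff.1 hd x hx, mul_inv_cancel_right]
  refine ⟨fun hh => (key c hc h hh).symm ▸ hh, fun hh => ?_⟩
  have := key c⁻¹ (inv_mem hc) _ hh
  rw [show c⁻¹ * (c * h * c⁻¹) * c⁻¹⁻¹ = h by group] at this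
  rwa [this]

theorem exists_mem_notMem_normalizer' [Finite G] {q : ℕ} {H P : Subgroup G} [Fact q.Prime]
    (hP : IsPGroup q P) (hlt : H < P) : ∃ x ∈ P, x ∉ H ∧ x ∈ normalizer (H : Set G) := by
  have hne : H.subgroupOf P ≠ ⊤ := fun h => not_le_of_gt hlt (Subgroup.subgroupOf_eq_top.mp h)
  obtain ⟨x, hx, hxn⟩ := SetLike.exists_of_lt (PGroups.lt_normalizer hP hne)
  refine ⟨x, x.2, hxn, ?_⟩
  rw [← subgroupOf_normalizer_eq hlt.le] at hx
  exact hx

variable [Finite G] {A : Subgroup G}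

theorem isSolvable_of_ne_top (hG : Cfsg.IsMinimalSimple G) {H : Subgroup G} (h : H ≠ ⊤) :
    Group.IsSolvable H := hG.2.2 H h

theorem normalizer_ne_top (hG : Cfsg.IsMinimalSimple G) {H : Subgroup G} (h0 : H ≠ ⊥) (h1 : H ≠ ⊤) :
    normalizer (H : Set G) ≠ ⊤ := by
  haveI := hG.1
  intro h
  exact ((normalizer_eq_top_iff.1 h).eq_bot_or_eq_top).elim h0 h1

theorem sup_centralizer_ne_top (hG : Cfsg.IsMinimalSimple G) (hA : Cfsg.TransitivityHypothesis A) :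
    A ⊔ centralizer (A : Set G) ≠ ⊤ := fun h =>
  normalizer_ne_top hG hA.1 hA.2.1
    (top_le_iff.1 (h ▸ sup_le le_normalizer (centralizer_le_normalizer A)))

/-- The invariant `π(A)'`-subgroups inside a proper overgroup meet `C_G(A)` inside `K`. -/
theorem piCoreOf_inf_centralizer_le (hG : Cfsg.IsMinimalSimple G) (hA : Cfsg.TransitivityHypothesis A)
    {H : Subgroup G} (hAH : A ≤ H) :
    Cfsg.piCoreOf (Cfsg.primesNotDvd (Nat.card A)) H ⊓ centralizer (A : Set G) ≤ transK A := by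
  set π := Cfsg.primesNotDvd (Nat.card A)
  set X := A ⊔ centralizer (A : Set G) with hX
  set Y := Cfsg.piCoreOf π H with hY
  have hZn : A ≤ normalizer ((Y ⊓ centralizer (A : Set G) : Subgroup G) : Set G) := by
    refine Subgroup.le_normalizer_iff.2 fun a ha z hz => ?_
    have : a * z * a⁻¹ = z := by
      rw [mem_centralizer_iff.1 hz.2 a ha, mul_inv_cancel_right]
    rw [this]; exact hz
  have hmem : (Y ⊓ centralizer (A : Set G) : Subgroup G) ∈ Cfsg.invSubgroups X A π :=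
    ⟨inf_le_right.trans le_sup_right,
      (piCoreOf_isPiNumber π H).of_dvd (card_dvd_of_le inf_le_left), hZn⟩
  have hW : Y ⊓ centralizer (A : Set G) ≤ Cfsg.piCoreOf π X :=
    (le_sSup hmem).trans (hA.2.2 X (sup_centralizer_ne_top hG hA) le_sup_left).le
  refine le_trans (le_inf hW inf_le_right) ?_
  refine le_piCoreOf inf_le_right ?_ ((piCoreOf_isPiNumber π X).of_dvd (card_dvd_of_le inf_le_left))
  intro c hc
  have h1 : c ∈ normalizer (Cfsg.piCoreOf π X : Set G) :=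
    normalizer_le_normalizer_piCoreOf π X (le_normalizer (mem_sup_right hc))
  rw [mem_normalizer_iff]
  intro z
  constructor
  · rintro ⟨h2, h3⟩
    exact ⟨(mem_normalizer_iff.1 h1 z).1 h2, (centralizer (A : Set G)).mul_mem ((centralizer (A : Set G)).mul_mem hc h3) ((centralizer (A : Set G)).inv_mem hc)⟩
  · rintro ⟨h2, h3⟩
    refine ⟨(mem_normalizer_iff.1 h1 z).2 h2, ?_⟩
    have := mul_mem (mul_mem (inv_mem hc) h3) hc
    rwa [show c⁻¹ * (c * z * c⁻¹) * c = z by group] at this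

/-- Conjugacy of two maximal invariant `q`-subgroups met nontrivially by a common proper
overgroup of `A`. -/
theorem transitivity_of_common (hG : Cfsg.IsMinimalSimple G) (hA : Cfsg.TransitivityHypothesis A)
    {q : ℕ} (hq : q.Prime) (hqA : ¬ q ∣ Nat.card A) {Q₁ Q₂ : Subgroup G}
    (h₁ : Q₁ ∈ Cfsg.maxInvSubgroups ⊤ A {q}) (h₂ : Q₂ ∈ Cfsg.maxInvSubgroups ⊤ A {q})
    {H : Subgroup G} (hH : H ≠ ⊤) (hAH : A ≤ H) (hH₁ : H ⊓ Q₁ ≠ ⊥) (hH₂ : H ⊓ Q₂ ≠ ⊥) :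
    ∃ k ∈ transK A, Q₂ = Q₁.map (MulAut.conj k).toMonoidHom := by
  classical
  haveI := Fact.mk hq
  suffices main : ∀ n, ∀ Q₁ Q₂ : Subgroup G, Q₁ ∈ Cfsg.maxInvSubgroups ⊤ A {q} →
      Q₂ ∈ Cfsg.maxInvSubgroups ⊤ A {q} → Nat.card G < Nat.card ↥(Q₁ ⊓ Q₂) + n →
      (∃ H : Subgroup G, H ≠ ⊤ ∧ A ≤ H ∧ H ⊓ Q₁ ≠ ⊥ ∧ H ⊓ Q₂ ≠ ⊥) →
      ∃ k ∈ transK A, Q₂ = Q₁.map (MulAut.conj k).toMonoidHom from
    main (Nat.card G) Q₁ Q₂ h₁ h₂
      (by have : 0 < Nat.card ↥(Q₁ ⊓ Q₂) := Nat.card_pos; omega) ⟨H, hH, hAH, hH₁, hH₂⟩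
  intro n
  induction n with
  | zero =>
    intro Q₁ Q₂ _ _ h
    have := Subgroup.card_le_card_group (Q₁ ⊓ Q₂)
    omega
  | succ n ih =>
    intro Q₁ Q₂ h₁ h₂ hn ⟨H, hH, hAH, hH₁, hH₂⟩
    by_cases heq : Q₁ = Q₂
    · exact ⟨1, one_mem _, by rw [Coprime.map_conj_one, heq]⟩
    set Q := Q₁ ⊓ Q₂ with hQ
    have hlt1 : Q < Q₁ := lt_of_le_of_ne inf_le_left fun h =>
      heq (h₁.2 Q₂ h₂.1 (h ▸ (inf_le_right : Q ≤ Q₂))).symm
    have hlt2 : Q < Q₂ := lt_of_le_of_ne inf_le_right fun h =>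
      heq (h₂.2 Q₁ h₁.1 (h ▸ (inf_le_left : Q ≤ Q₁)))
    -- a proper subgroup containing `A` meeting both in more than `Q`
    obtain ⟨H', hH', hAH', hT₁, hT₂⟩ : ∃ H' : Subgroup G, H' ≠ ⊤ ∧ A ≤ H' ∧
        Q < H' ⊓ Q₁ ∧ Q < H' ⊓ Q₂ := by
      by_cases hQ0 : Q = ⊥
      · exact ⟨H, hH, hAH, hQ0 ▸ bot_lt_iff_ne_bot.2 hH₁, hQ0 ▸ bot_lt_iff_ne_bot.2 hH₂⟩
      refine ⟨normalizer (Q : Set G), normalizer_ne_top hG hQ0 (ne_top_of_lt hlt1),
        Subgroup.le_normalizer_iff.2 fun a ha x hx =>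
          ⟨Coprime.conj_mem (h₁.1.2.2 ha) hx.1, Coprime.conj_mem (h₂.1.2.2 ha) hx.2⟩, ?_, ?_⟩
      · refine lt_of_le_of_ne (le_inf le_normalizer inf_le_left) fun h => ?_
        obtain ⟨x, hx, hx', hxn⟩ :=
          exists_mem_notMem_normalizer' (isPGroup_of_invSubgroups hq h₁.1) hlt1
        exact hx' (h ▸ (⟨hxn, hx⟩ : x ∈ normalizer (Q : Set G) ⊓ Q₁))
      · refine lt_of_le_of_ne (le_inf le_normalizer inf_le_right) fun h => ?_
        obtain ⟨x, hx, hx', hxn⟩ :=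
          exists_mem_notMem_normalizer' (isPGroup_of_invSubgroups hq h₂.1) hlt2
        exact hx' (h ▸ (⟨hxn, hx⟩ : x ∈ normalizer (Q : Set G) ⊓ Q₂))
    set π := Cfsg.primesNotDvd (Nat.card A)
    set Y := Cfsg.piCoreOf π H' with hY
    have hTinv : ∀ R : Subgroup G, R ∈ Cfsg.maxInvSubgroups ⊤ A {q} →
        H' ⊓ R ∈ Cfsg.invSubgroups H' A {q} := fun R hR =>
      ⟨inf_le_left, fun p hp hd => hR.1.2.1 p hp (hd.trans (card_dvd_of_le inf_le_right)),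
        Subgroup.le_normalizer_iff.2 fun a ha x hx =>
          ⟨H'.mul_mem (H'.mul_mem (hAH' ha) hx.1) (H'.inv_mem (hAH' ha)), Coprime.conj_mem (hR.1.2.2 ha) hx.2⟩⟩
    have hTY : ∀ R : Subgroup G, R ∈ Cfsg.maxInvSubgroups ⊤ A {q} → H' ⊓ R ≤ Y := fun R hR =>
      (le_sSup (invSubgroups_singleton_subset hq hqA (hTinv R hR))).trans (hA.2.2 H' hH' hAH').le
    have hAY : A ≤ normalizer (Y : Set G) :=
      (hAH'.trans le_normalizer).trans (normalizer_le_normalizer_piCoreOf π H')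
    have hcop : (Nat.card A).Coprime (Nat.card Y) :=
      Nat.coprime_of_dvd fun p hp h1 h2 => (piCoreOf_isPiNumber π H' p hp h2).2 h1
    have hsol : Group.IsSolvable A ∨ Group.IsSolvable Y := Or.inl (isSolvable_of_ne_top hG hA.2.1)
    obtain ⟨P₁, hP₁, hP₁A⟩ := Coprime.exists_invariant_sylow_ge hAY hcop hsol q (hTY Q₁ h₁)
      ((isPGroup_of_invSubgroups hq h₁.1).to_le inf_le_right) (hTinv Q₁ h₁).2.2
    obtain ⟨P₂, hP₂, hP₂A⟩ := Coprime.exists_invariant_sylow_ge hAY hcop hsol q (hTY Q₂ h₂)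
      ((isPGroup_of_invSubgroups hq h₂.1).to_le inf_le_right) (hTinv Q₂ h₂).2.2
    obtain ⟨c, hc, hcP⟩ := Coprime.exists_conj_invariant_sylow hAY hcop hsol q P₁ P₂ hP₁A hP₂A
    have hcK : (c : G) ∈ transK A := piCoreOf_inf_centralizer_le hG hA hAH' ⟨c.2, hc⟩
    have hcN : (c : G) ∈ normalizer (A : Set G) := centralizer_le_normalizer A hc
    obtain ⟨Q₃, hQ₃, hle3⟩ := exists_maxInvSubgroups_ge (Q := (P₁ : Subgroup Y).map Y.subtype)
      (X := ⊤) (A := A) (π := {q})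
      ⟨le_top, (Cores.isPGroup_iff_isPiNumber hq).1 (P₁.isPGroup'.map _), hP₁A⟩
    have hlt3 : Q < Q₁ ⊓ Q₃ := lt_of_lt_of_le hT₁ (le_inf inf_le_right (hP₁.trans hle3))
    have hcard : ∀ R : Subgroup G, Q < R → Nat.card Q < Nat.card R := fun R hR =>
      lt_of_le_of_ne (Nat.le_of_dvd Nat.card_pos (card_dvd_of_le hR.le))
        fun h => hR.ne (eq_of_le_of_card_ge hR.le h.ge)
    obtain ⟨k₁, hk₁, e₁⟩ := ih Q₁ Q₃ h₁ hQ₃ (by have := hcard _ hlt3; omega)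
      ⟨H', hH', hAH', ne_bot_of_gt hT₁,
        ne_bot_of_gt (lt_of_lt_of_le hT₁ (le_inf inf_le_left (hP₁.trans hle3)))⟩
    set Q₃' := Q₃.map (MulAut.conj (c : G)).toMonoidHom with hQ₃'
    have hQ₃'m := maxInvSubgroups_map_conj hcN hQ₃
    have hle3' : H' ⊓ Q₂ ≤ Q₃' := by
      refine hP₂.trans (le_trans (le_of_eq ?_) (Subgroup.map_mono hle3))
      rw [← hcP, Subgroup.map_map]
      show ((P₁ : Subgroup Y).map (MulAut.conj c).toMonoidHom).map Y.subtype = _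
      rw [Subgroup.map_map]
      rfl
    have hlt4 : Q < Q₃' ⊓ Q₂ := lt_of_lt_of_le hT₂ (le_inf hle3' inf_le_right)
    obtain ⟨k₂, hk₂, e₂⟩ := ih Q₃' Q₂ hQ₃'m h₂ (by have := hcard _ hlt4; omega)
      ⟨H', hH', hAH', ne_bot_of_gt (lt_of_lt_of_le hT₂ (le_inf inf_le_left hle3')),
        ne_bot_of_gt hT₂⟩
    refine ⟨k₂ * ((c : G) * k₁), mul_mem hk₂ (mul_mem hcK hk₁), ?_⟩
    rw [e₂, hQ₃', e₁, Coprime.map_conj_map_conj, Coprime.map_conj_map_conj, mul_assoc]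

/-- A nontrivial subgroup normalised by an abelian non-cyclic group of `p`-power order, coprime. -/
theorem exists_inf_centralizer_ne_bot_of_generated {Q : Subgroup G} {B : Subgroup G}
    (hgen : Q ≤ ⨆ b : {b : G // b ∈ B ∧ b ≠ 1}, Q ⊓ centralizer ({(b : G)} : Set G))
    (hQ : Q ≠ ⊥) : ∃ b ∈ B, b ≠ 1 ∧ Q ⊓ centralizer ({b} : Set G) ≠ ⊥ := by
  by_contra hcon
  push Not at hcon
  refine hQ (le_bot_iff.1 (hgen.trans (iSup_le fun b => ?_)))
  exact (hcon b b.2.1 b.2.2).le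

end Cfsg.Agent.H41
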