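import Cfsg.Agent.H41.Transitivity
import Cfsg.Agent.H41.RankTwo
import Mathlib.GroupTheory.Abelianization.Defs
import Mathlib.GroupTheory.IsSubnormal

/-!
Passing transitivity from `A` to an overgroup `P` in which `A` is subnormal.
-/

set_option autoImplicit false

namespace Cfsg.Agent.H41

open Subgroup

variable {G : Type*} [Group G] [Finite G] {A : Subgroup G}

theorem le_transK (hG : Cfsg.IsMinimalSimple G) (hA : Cfsg.TransitivityHypothesis A)
    {Z : Subgroup G} (hZ : Z ≤ centralizer (A : Set G))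
    (hπ : Cores.IsPiNumber (Cfsg.primesNotDvd (Nat.card A)) (Nat.card Z)) : Z ≤ transK A := by
  set π := Cfsg.primesNotDvd (Nat.card A)
  set X := A ⊔ centralizer (A : Set G) with hX
  have hmem : Z ∈ Cfsg.invSubgroups X A π := ⟨hZ.trans le_sup_right, hπ,
    Subgroup.le_normalizer_iff.2 fun a ha z hz => by
      rw [mem_centralizer_iff.1 (hZ hz) a ha, mul_inv_cancel_right]; exact hz⟩
  have hW : Z ≤ Cfsg.piCoreOf π X :=
    (le_sSup hmem).trans (hA.2.2 X (sup_centralizer_ne_top hG hA) le_sup_left).le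
  refine le_trans (le_inf hW hZ) ?_
  refine le_piCoreOf inf_le_right ?_ ((piCoreOf_isPiNumber π X).of_dvd (card_dvd_of_le inf_le_left))
  refine Subgroup.le_normalizer_iff.2 fun c hc z hz => ⟨?_, ?_⟩
  · exact Coprime.conj_mem (normalizer_le_normalizer_piCoreOf π X (le_normalizer (mem_sup_right hc))) hz.1
  · exact (centralizer (A : Set G)).mul_mem ((centralizer (A : Set G)).mul_mem hc hz.2)
      ((centralizer (A : Set G)).inv_mem hc)

/-- `K ∩ C_G(B) = O_{π'}(C_G(B))` for `B ≥ A`. -/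
theorem transK_inf_centralizer (hG : Cfsg.IsMinimalSimple G) (hA : Cfsg.TransitivityHypothesis A)
    {B : Subgroup G} (hAB : A ≤ B) :
    transK A ⊓ centralizer (B : Set G) =
      Cfsg.piCoreOf (Cfsg.primesNotDvd (Nat.card A)) (centralizer (B : Set G)) := by
  have hC : centralizer (B : Set G) ≤ centralizer (A : Set G) := centralizer_le hAB
  refine le_antisymm ?_ (le_inf ?_ (piCoreOf_le _ _))
  · refine le_piCoreOf inf_le_right ?_
      ((piCoreOf_isPiNumber _ _).of_dvd (card_dvd_of_le (inf_le_left : _ ≤ transK A)))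
    refine Subgroup.le_normalizer_iff.2 fun c hc z hz => ⟨?_, ?_⟩
    · exact Coprime.conj_mem (normalizer_le_normalizer_piCoreOf _ _ (le_normalizer (hC hc))) hz.1
    · exact (centralizer (B : Set G)).mul_mem ((centralizer (B : Set G)).mul_mem hc hz.2)
        ((centralizer (B : Set G)).inv_mem hc)
  · exact le_transK hG hA ((piCoreOf_le _ _).trans hC) (piCoreOf_isPiNumber _ _)

theorem coprime_of_primes_dvd {B Y : Subgroup G}
    (hB : ∀ r : ℕ, r.Prime → r ∣ Nat.card B → r ∣ Nat.card A)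
    (hY : Cores.IsPiNumber (Cfsg.primesNotDvd (Nat.card A)) (Nat.card Y)) :
    (Nat.card B).Coprime (Nat.card Y) :=
  Nat.coprime_of_dvd fun p hp h1 h2 => (hY p hp h2).2 (hB p hp h1)

/-- A nontrivial maximal `B`-invariant `q`-subgroup is a maximal `A`-invariant one. -/
theorem mem_maxInv_of_ne_bot (hG : Cfsg.IsMinimalSimple G) (hA : Cfsg.TransitivityHypothesis A)
    {q : ℕ} (hq : q.Prime) (hqA : ¬ q ∣ Nat.card A) {B : Subgroup G} (hAB : A ≤ B) (hBtop : B ≠ ⊤)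
    (hB : ∀ r : ℕ, r.Prime → r ∣ Nat.card B → r ∣ Nat.card A) {Q : Subgroup G}
    (hQ : Q ∈ Cfsg.maxInvSubgroups ⊤ B {q}) (hQ0 : Q ≠ ⊥) :
    Q ∈ Cfsg.maxInvSubgroups ⊤ A {q} := by
  haveI := Fact.mk hq
  have hQA : Q ∈ Cfsg.invSubgroups ⊤ A {q} := ⟨le_top, hQ.1.2.1, hAB.trans hQ.1.2.2⟩
  refine ⟨hQA, fun R hR hle => ?_⟩
  have hBN : ∀ {X : Subgroup G}, B ≤ normalizer (X : Set G) →
      B ≤ normalizer (Cfsg.piCoreOf (Cfsg.primesNotDvd (Nat.card A)) X : Set G) :=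
    fun h => h.trans (normalizer_le_normalizer_piCoreOf _ _)
  set N := normalizer (Q : Set G) with hN
  have hQtop : Q ≠ ⊤ := by
    intro h
    have hp := isPGroup_of_invSubgroups hq hQ.1
    haveI := hG.1
    haveI : Group.IsNilpotent Q := hp.isNilpotent
    haveI : Group.IsSolvable G := Group.isSolvable_of_surjective (f := Q.subtype) (fun x => ⟨⟨x, h ▸ mem_top x⟩, rfl⟩)
    exact hG.2.1 ⟨⟨fun a b => IsSimpleGroup.comm_iff_isSolvable.2 inferInstance a b⟩⟩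
  have hNtop : N ≠ ⊤ := normalizer_ne_top hG hQ0 hQtop
  have hBQ : B ≤ N := hQ.1.2.2
  set Y := Cfsg.piCoreOf (Cfsg.primesNotDvd (Nat.card A)) N with hY
  have hY' := (le_sSup : ∀ {a : Subgroup G},
    a ∈ Cfsg.invSubgroups N A (Cfsg.primesNotDvd (Nat.card A)) → _)
  have hinY : ∀ {S : Subgroup G}, S ∈ Cfsg.invSubgroups N A {q} → S ≤ Y := fun hS =>
    (hY' (invSubgroups_singleton_subset hq hqA hS)).trans (hA.2.2 N hNtop (hAB.trans hBQ)).le
  have hQY : Q ≤ Y := hinY ⟨le_normalizer, hQA.2.1, hQA.2.2⟩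
  have hcop := coprime_of_primes_dvd hB (piCoreOf_isPiNumber _ N)
  obtain ⟨S, hQS, hSB⟩ := Coprime.exists_invariant_sylow_ge (hBN (hBQ.trans le_normalizer)) hcop
    (Or.inl (isSolvable_of_ne_top hG hBtop)) q hQY (isPGroup_of_invSubgroups hq hQ.1) hBQ
  have hSQ : (S : Subgroup Y).map Y.subtype = Q :=
    hQ.2 _ ⟨le_top, (Cores.isPGroup_iff_isPiNumber hq).1 (S.isPGroup'.map _), hSB⟩ hQS
  by_contra hne
  obtain ⟨x, hx, hxQ, hxn⟩ := exists_mem_notMem_normalizer' (isPGroup_of_invSubgroups hq hR)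
    (lt_of_le_of_ne hle (Ne.symm hne))
  set T := N ⊓ R with hT
  have hTY : T ≤ Y := hinY ⟨inf_le_left,
    fun p hp hd => hR.2.1 p hp (hd.trans (card_dvd_of_le inf_le_right)),
    Subgroup.le_normalizer_iff.2 fun a ha z hz =>
      ⟨N.mul_mem (N.mul_mem (hBQ (hAB ha)) hz.1) (N.inv_mem (hBQ (hAB ha))),
        Coprime.conj_mem (hR.2.2 ha) hz.2⟩⟩
  have hQT : Q ≤ T := le_inf le_normalizer hle
  have hsub : (S : Subgroup Y) ≤ T.subgroupOf Y := by
    intro y hy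
    exact hQT (hSQ ▸ (mem_map_of_mem _ hy))
  have hTp : IsPGroup q (T.subgroupOf Y) :=
    ((isPGroup_of_invSubgroups hq hR).to_le inf_le_right).comap_subtype
  have heq := S.is_maximal' hTp hsub
  refine hxQ (hSQ ▸ ?_)
  exact ⟨⟨x, hTY ⟨hxn, hx⟩⟩, heq.le (show x ∈ T from ⟨hxn, hx⟩), rfl⟩

/-- `K ∩ C(B)` is transitive on the maximal `B`-invariant `q`-subgroups. -/
def IsTransOn (A B : Subgroup G) (q : ℕ) : Prop :=
  ∀ Q₁ ∈ Cfsg.maxInvSubgroups ⊤ B {q}, ∀ Q₂ ∈ Cfsg.maxInvSubgroups ⊤ B {q},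
    ∃ k ∈ transK A ⊓ centralizer (B : Set G), Q₂ = Q₁.map (MulAut.conj k).toMonoidHom

theorem conj_mem_inf_centralizer_base (hG : Cfsg.IsMinimalSimple G)
    (hA : Cfsg.TransitivityHypothesis A) {B : Subgroup G} (hAB : A ≤ B) :
    normalizer (B : Set G) ≤
      normalizer ((transK A ⊓ centralizer (B : Set G) : Subgroup G) : Set G) := by
  rw [transK_inf_centralizer hG hA hAB]
  refine le_trans ?_ (normalizer_le_normalizer_piCoreOf _ _)
  intro g hg
  rw [mem_normalizer_iff]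
  refine fun z => ⟨fun hz => conj_mem_centralizer_of_normalizer hg hz, fun hz => ?_⟩
  have := conj_mem_centralizer_of_normalizer (inv_mem hg) hz
  rwa [show g⁻¹ * (g * z * g⁻¹) * g⁻¹⁻¹ = z by group] at this

/-- One step along a subnormal series. -/
theorem isTransOn_step (hG : Cfsg.IsMinimalSimple G) (hA : Cfsg.TransitivityHypothesis A)
    {q : ℕ} (hq : q.Prime) (hqA : ¬ q ∣ Nat.card A) {B C : Subgroup G} (hAB : A ≤ B) (hBC : B ≤ C)
    (hn : C ≤ normalizer (B : Set G)) (hCtop : C ≠ ⊤)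
    (hC : ∀ r : ℕ, r.Prime → r ∣ Nat.card C → r ∣ Nat.card A)
    (hT : IsTransOn A B q) (hsub : Cfsg.maxInvSubgroups ⊤ B {q} ⊆ Cfsg.maxInvSubgroups ⊤ A {q}) :
    IsTransOn A C q ∧ Cfsg.maxInvSubgroups ⊤ C {q} ⊆ Cfsg.maxInvSubgroups ⊤ A {q} := by
  set K := transK A ⊓ centralizer (B : Set G) with hK
  have hCK : C ≤ normalizer (K : Set G) := hn.trans (conj_mem_inf_centralizer_base hG hA hAB)
  have hcop : (Nat.card C).Coprime (Nat.card K) := coprime_of_primes_dvd hC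
    ((piCoreOf_isPiNumber _ _).of_dvd (card_dvd_of_le (inf_le_left : K ≤ transK A)))
  have hsol : Group.IsSolvable C ∨ Group.IsSolvable K := Or.inl (isSolvable_of_ne_top hG hCtop)
  have hkB : ∀ k ∈ K, k ∈ normalizer (B : Set G) := fun k hk => centralizer_le_normalizer B hk.2
  have hsubC : Cfsg.maxInvSubgroups ⊤ C {q} ⊆ Cfsg.maxInvSubgroups ⊤ A {q} := by
    intro Q hQ
    by_cases hQ0 : Q = ⊥
    · letI := Coprime.conjAction G
      obtain ⟨Q', hQ'⟩ := exists_maxInvSubgroups_ge (X := ⊤) (A := B) (π := {q}) (Q := ⊥)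
        ⟨bot_le, fun p hp h => absurd (Nat.dvd_one.1 (by rwa [Subgroup.card_bot] at h)) hp.ne_one,
          le_top.trans (normalizer_eq_top (H := (⊥ : Subgroup G))).ge⟩
      obtain ⟨R, hR, hfix⟩ := Coprime.exists_fixed_point hCK hcop hsol
        (S := Cfsg.maxInvSubgroups ⊤ B {q}) ⟨Q', hQ'.1⟩
        (fun c hc x hx => maxInvSubgroups_map_conj (hn hc) hx)
        (fun x hx y hy => (hT x hx y hy).elim fun k hk => ⟨k, hk.1, hk.2.symm⟩)
        (fun k hk x hx => maxInvSubgroups_map_conj (hkB k hk) hx)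
      have hRC : R ∈ Cfsg.invSubgroups ⊤ C {q} :=
        ⟨le_top, hR.1.2.1, fun c hc => Coprime.mem_normalizer_of_map_conj (hfix c hc)⟩
      have : R = Q := hQ.2 R hRC (hQ0 ▸ bot_le)
      exact this ▸ hsub hR
    · exact mem_maxInv_of_ne_bot hG hA hq hqA (hAB.trans hBC) hCtop hC hQ hQ0
  refine ⟨?_, hsubC⟩
  intro Q₁ h₁ Q₂ h₂
  have hB' : ∀ Q ∈ Cfsg.maxInvSubgroups ⊤ C {q}, Q ∈ Cfsg.maxInvSubgroups ⊤ B {q} := fun Q hQ =>
    ⟨⟨le_top, hQ.1.2.1, hBC.trans hQ.1.2.2⟩,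
      fun R hR hle => (hsubC hQ).2 R ⟨le_top, hR.2.1, hAB.trans hR.2.2⟩ hle⟩
  obtain ⟨k, hk, e⟩ := hT Q₁ (hB' Q₁ h₁) Q₂ (hB' Q₂ h₂)
  obtain ⟨c, hc, e'⟩ := Coprime.exists_centralizer_conj hCK hcop hsol h₁.1.2.2 h₂.1.2.2 hk e.symm
  exact ⟨c, ⟨hc.1.1, hc.2⟩, e'.symm⟩

/-- Transitivity passes to subnormal overgroups whose primes divide `|A|`. -/
theorem isTransOn_of_subnormal (hG : Cfsg.IsMinimalSimple G) (hA : Cfsg.TransitivityHypothesis A)
    {q : ℕ} (hq : q.Prime) (hqA : ¬ q ∣ Nat.card A) {P : Subgroup G} (hP : P ≠ ⊤)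
    (hPπ : ∀ r : ℕ, r.Prime → r ∣ Nat.card P → r ∣ Nat.card A) (hAP : A ≤ P)
    (hsn : (A.subgroupOf P).IsSubnormal)
    (htr : ∀ Q₁ ∈ Cfsg.maxInvSubgroups ⊤ A {q}, ∀ Q₂ ∈ Cfsg.maxInvSubgroups ⊤ A {q},
      ∃ k ∈ transK A, Q₂ = Q₁.map (MulAut.conj k).toMonoidHom) :
    IsTransOn A P q ∧ Cfsg.maxInvSubgroups ⊤ P {q} ⊆ Cfsg.maxInvSubgroups ⊤ A {q} := by
  suffices h : ∀ B : Subgroup P, B.IsSubnormal → A ≤ B.map P.subtype →
      IsTransOn A (B.map P.subtype) q →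
      Cfsg.maxInvSubgroups ⊤ (B.map P.subtype) {q} ⊆ Cfsg.maxInvSubgroups ⊤ A {q} →
      IsTransOn A P q ∧ Cfsg.maxInvSubgroups ⊤ P {q} ⊆ Cfsg.maxInvSubgroups ⊤ A {q} by
    have e := map_subgroupOf_eq_of_le hAP
    refine h _ hsn e.ge ?_ ?_
    · rw [e]
      intro Q₁ h₁ Q₂ h₂
      obtain ⟨k, hk, he⟩ := htr Q₁ h₁ Q₂ h₂
      exact ⟨k, ⟨hk, piCoreOf_le _ _ hk⟩, he⟩
    · rw [e]
  intro B hB
  induction hB with
  | top =>
    intro _ h1 h2
    rw [← MonoidHom.range_eq_map, range_subtype] at h1 h2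
    exact ⟨h1, h2⟩
  | step B C hBC hC hN ih =>
    intro hAB h1 h2
    have hBC' := Subgroup.map_mono (f := P.subtype) hBC
    have hn : C.map P.subtype ≤ normalizer ((B.map P.subtype : Subgroup G) : Set G) :=
      (Subgroup.map_mono ((normal_subgroupOf_iff_le_normalizer hBC).1 hN)).trans
        (le_normalizer_map _)
    have hCle : C.map P.subtype ≤ P := map_subtype_le C
    obtain ⟨h3, h4⟩ := isTransOn_step hG hA hq hqA hAB hBC' hn
      (fun h => hP (top_le_iff.1 (h ▸ hCle)))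
      (fun r hr hd => hPπ r hr (hd.trans (card_dvd_of_le hCle))) h1 h2
    exact ih (hAB.trans hBC') h3 h4

theorem mem_commutator_of_coprime_pow {M : Subgroup G} {K : Subgroup G} {n : ℕ}
    (hn : ∀ k ∈ K, k ^ n = 1) {x k m : G} (hx : x ∈ M) (hk : k ∈ K) (hkM : k ∈ M)
    (hm : m ∈ ⁅M, M⁆) (he : x = k * m) (hcop : (orderOf x).Coprime n) : x ∈ ⁅M, M⁆ := by
  have hmM : m ∈ M := Subgroup.commutator_le_self M hm
  let φ : M →* Abelianization M := Abelianization.of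
  have hφ : ∀ y : M, φ y = 1 ↔ (y : G) ∈ ⁅M, M⁆ := by
    intro y
    rw [← MonoidHom.mem_ker, Abelianization.ker_of, ← map_subtype_commutator]
    exact ⟨fun h => ⟨y, h, rfl⟩, fun ⟨z, hz, hzy⟩ => Subtype.ext hzy ▸ hz⟩
  have h1 : φ ⟨x, hx⟩ ^ n = 1 := by
    have e : (⟨x, hx⟩ : M) = ⟨k, hkM⟩ * ⟨m, hmM⟩ := Subtype.ext he
    rw [e, map_mul, (hφ ⟨m, hmM⟩).2 hm, mul_one, ← map_pow]
    have : (⟨k, hkM⟩ : M) ^ n = 1 := Subtype.ext (by simpa using hn k hk)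
    rw [this, map_one]
  have h2 : orderOf (φ ⟨x, hx⟩) ∣ orderOf x :=
    (orderOf_map_dvd φ _).trans (by rw [Subgroup.orderOf_mk])
  have h3 := orderOf_dvd_of_pow_eq_one h1
  exact (hφ ⟨x, hx⟩).1 (orderOf_eq_one_iff.1 (Nat.eq_one_of_dvd_coprimes hcop h2 h3))

end Cfsg.Agent.H41
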