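import Cfsg.Agent.H41.ZJSolvable
import Cfsg.Agent.H41.PLengthTwo
import Cfsg.Agent.H41.Transitivity
import Cfsg.Agent.H42.InvariantSignalizer
import Cfsg.Agent.Coprime.Generation
import Cfsg.Agent.S1393
import Cfsg.Agent.S1395
import Cfsg.Agent.S1396
import Cfsg.Agent.S1894

/-!
A noncyclic elementary abelian `p`-subgroup `B` of a maximal subgroup `M` all of whose invariant
`p'`-subgroups lie in `M` is contained in no other maximal subgroup (minimal simple, odd order).
-/

set_option autoImplicit false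

namespace Cfsg.Agent.H41

open Subgroup

variable {G : Type*} [Group G] [Finite G] {p : ℕ} [hp : Fact p.Prime]

omit [Finite G] in
theorem ne_top_of_isPGroup [Finite G] (hG : Cfsg.IsMinimalSimple G) {X : Subgroup G} (hX : IsPGroup p X) :
    X ≠ ⊤ := by
  intro h
  haveI := hG.1
  haveI : Group.IsNilpotent X := hX.isNilpotent
  haveI : Group.IsSolvable G :=
    Group.isSolvable_of_surjective (f := X.subtype) (fun x => ⟨⟨x, h ▸ mem_top x⟩, rfl⟩)
  exact hG.2.1 ⟨⟨fun a b => IsSimpleGroup.comm_iff_isSolvable.2 inferInstance a b⟩⟩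

omit [Finite G] in
/-- A maximal subgroup is the normalizer of each of its nontrivial proper normal subgroups. -/
theorem normalizer_eq_of_isCoatom [Finite G] (hG : Cfsg.IsMinimalSimple G) {M K : Subgroup G}
    (hM : IsCoatom M) (hKM : K ≤ M) (hK : K ≠ ⊥) (hn : M ≤ normalizer (K : Set G)) :
    normalizer (K : Set G) = M :=
  (eq_or_lt_of_le hn).elim Eq.symm fun h =>
    absurd (hM.2 _ h) (normalizer_ne_top hG hK (fun e => hM.1 (top_le_iff.mp (e ▸ hKM))))

/-- `O_{p'}(M)` as a subgroup of `G`. -/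
def pCorePrime (p : ℕ) (M : Subgroup G) : Subgroup G := (pPrimeCore p M).map M.subtype

omit [Finite G] in
theorem pCorePrime_le (M : Subgroup G) : pCorePrime p M ≤ M := map_subtype_le _

theorem coprime_pCorePrime (M : Subgroup G) : (Nat.card (pCorePrime p M)).Coprime p :=
  Cores.coprime_card_pPrimeCore.coprime_dvd_left (card_map_dvd _ _)

omit [Finite G] in
theorem le_normalizer_pCorePrime [Finite G] (M : Subgroup G) :
    M ≤ normalizer (pCorePrime p M : Set G) := by
  rw [le_normalizer_iff]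
  rintro a ha _ ⟨z, hz, rfl⟩
  haveI : (pPrimeCore p M).Normal := by rw [Cores.pPrimeCore_eq_piCore]; infer_instance
  exact ⟨⟨a, ha⟩ * z * ⟨a, ha⟩⁻¹, Normal.conj_mem ‹_› z hz _, rfl⟩

/-- An invariant `p'`-subgroup of a solvable `M`, for an `X` containing all `p`-elements of its
centralizer in `M`, lies in `O_{p'}(M)`. -/
theorem le_pCorePrime (hp2 : p ≠ 2) {M X Y : Subgroup G} [Group.IsSolvable M] (hXM : X ≤ M)
    (hXp : IsPGroup p X)
    (hfull : ∀ x ∈ M, x ∈ centralizer (X : Set G) → IsPGroup p (zpowers x) → x ∈ X)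
    (hYM : Y ≤ M) (hY : (Nat.card Y).Coprime p) (hXY : X ≤ normalizer (Y : Set G)) :
    Y ≤ pCorePrime p M := by
  have hcon : Cfsg.IsPConstrained p M :=
    Cores.isPConstrained_of_isPSolvable Cores.isPSolvable_of_isSolvable
  have hEY : X.subgroupOf M ≤ normalizer (Y.subgroupOf M : Set M) := by
    rw [le_normalizer_iff]
    intro a ha y hy
    show (a : G) * (y : G) * (a : G)⁻¹ ∈ Y
    exact Coprime.conj_mem (hXY ha) hy
  have hYc : (Nat.card (Y.subgroupOf M)).Coprime p := by
    rwa [Nat.card_congr (subgroupOfEquivOfLe hYM).toEquiv]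
  have h := H42.le_pPrimeCore_of_invariant hcon _ _ hXp.comap_subtype (fun x hx hxp => ?_) hEY hYc
    (fun h => absurd h hp2)
  · exact (map_subgroupOf_eq_of_le hYM).ge.trans (Subgroup.map_mono h)
  refine hfull _ x.2 (fun a ha => congrArg Subtype.val (hx ⟨a, hXM ha⟩ ha)) ?_
  have h1 := hxp.map M.subtype
  rwa [MonoidHom.map_zpowers] at h1

omit [Finite G] in
/-- Elements normalizing `X` normalize a largest `X`-invariant `p'`-subgroup. -/
theorem normalizer_le_of_largest [Finite G] {X K : Subgroup G} (hXK : X ≤ normalizer (K : Set G))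
    (hK : (Nat.card K).Coprime p)
    (h : ∀ Y : Subgroup G, (Nat.card Y).Coprime p → X ≤ normalizer (Y : Set G) → Y ≤ K) :
    normalizer (X : Set G) ≤ normalizer (K : Set G) := by
  intro g hg
  refine Coprime.mem_normalizer_of_map_conj ?_
  refine eq_of_le_of_card_ge (h _ (by rwa [Coprime.card_map_conj]) ?_) (by rw [Coprime.card_map_conj])
  intro x hx
  refine Coprime.mem_normalizer_of_map_conj ?_
  have hx' : g⁻¹ * x * g ∈ normalizer (K : Set G) := hXK ((mem_normalizer_iff''.1 hg x).1 hx)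
  rw [Coprime.map_conj_map_conj, show x * g = g * (g⁻¹ * x * g) by group,
    ← Coprime.map_conj_map_conj, Coprime.map_conj_eq hx']

omit [Finite G] in
theorem isPGroup_sup_zpowers [Finite G] {R R' : Subgroup G} (hR' : IsPGroup p R') (hRR' : R ≤ R') {x : G}
    (hx : x ∈ R') : IsPGroup p ↥(R ⊔ zpowers x) :=
  hR'.to_le (sup_le hRR' (zpowers_le.mpr hx))

/-- The `ZJ` factorization inside a proper subgroup, in `G`. -/
theorem le_sup_normalizer_zjay (hp2 : p ≠ 2) (hodd : Odd (Nat.card G)) {H R : Subgroup G}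
    [Group.IsSolvable H] (S : Sylow p H) (hS : (S : Subgroup H).map H.subtype = R) :
    H ≤ pCorePrime p H ⊔ normalizer (Thompson.zjay 0 R : Set G) := by
  have hoddH : Odd (Nat.card H) := hodd.of_dvd_nat (card_subgroup_dvd_card H)
  have h := congrArg (Subgroup.map H.subtype) (sup_normalizer_zjay_eq_top hp2 hoddH S)
  rw [Subgroup.map_sup, ← MonoidHom.range_eq_map, range_subtype] at h
  refine h.ge.trans (sup_le_sup le_rfl ?_)
  refine (le_normalizer_map H.subtype).trans (le_of_eq ?_)
  rw [← Thompson.zjay_map H.subtype H.subtype_injective, hS]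

/-- **Uniqueness criterion**: the invariant form, for any nontrivial `p`-subgroup. -/
theorem inUniqueMaximal_of_invariant' (hG : Cfsg.IsMinSimpleOddOrder G) {M : Subgroup G}
    (hM : IsCoatom M) {B : Subgroup G} (hBM : B ≤ M) (hBp : IsPGroup p B) (hB0 : B ≠ ⊥)
    (hinv : ∀ Y : Subgroup G, (Nat.card Y).Coprime p → B ≤ normalizer (Y : Set G) → Y ≤ M) :
    Cfsg.InUniqueMaximal B := by
  classical
  have hmin := hG.2
  have hpr : p.Prime := hp.out
  have hpG : p ∣ Nat.card G := by
    obtain ⟨n, hn⟩ := IsPGroup.iff_card.mp hBp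
    exact (dvd_pow_self p fun h => hB0 (card_eq_one.mp (by rw [hn, h, pow_zero]))).trans
      (hn ▸ card_subgroup_dvd_card B)
  have hp2 : p ≠ 2 := by
    rintro rfl
    exact Nat.not_even_iff_odd.mpr hG.1 (even_iff_two_dvd.mpr hpG)
  haveI hMsol : Group.IsSolvable M := hmin.2.2 M hM.1
  refine ⟨M, ⟨hM, hBM⟩, ?_⟩
  by_contra hne
  push Not at hne
  obtain ⟨H₀, ⟨hH₀, hBH₀⟩, hH₀M⟩ := hne
  -- a pair `(H, R)` with `R` as large as possible
  obtain ⟨⟨H, R⟩, ⟨hH, hHM, hBR, hRp, hRH, hRM⟩, hmax⟩ := Set.exists_max_image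
    {x : Subgroup G × Subgroup G | IsCoatom x.1 ∧ x.1 ≠ M ∧ B ≤ x.2 ∧ IsPGroup p x.2 ∧ x.2 ≤ x.1 ∧ x.2 ≤ M}
    (fun x => Nat.card x.2) (Set.toFinite _) ⟨(H₀, B), hH₀, hH₀M, le_rfl, hBp, hBH₀, hBM⟩
  simp only at hH hHM hBR hRp hRH hRM hmax
  haveI hHsol : Group.IsSolvable H := hmin.2.2 H hH.1
  have hbig : ∀ (T R' : Subgroup G), T ≠ ⊤ → R < R' → IsPGroup p R' → R' ≤ T → R' ≤ M → T ≤ M := by
    intro T R' hT hlt hR' hR'T hR'M
    obtain ⟨H', hH', hTH'⟩ := (eq_top_or_exists_le_coatom T).resolve_left hT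
    by_cases he : H' = M
    · exact he ▸ hTH'
    have h1 := hmax (H', R') ⟨hH', he, hBR.trans hlt.le, hR', hR'T.trans hTH', hR'M⟩
    exact absurd (eq_of_le_of_card_ge hlt.le h1) hlt.ne
  have hR0 : R ≠ ⊥ := fun h => hB0 (le_bot_iff.mp (h ▸ hBR))
  have hRtop : R ≠ ⊤ := ne_top_of_isPGroup hmin hRp
  set Z := Thompson.zjay 0 R with hZ
  have hZ0 : Z ≠ ⊥ := Thompson.zjay_ne_bot hRp hR0 (Or.inl rfl)
  have hZR : Z ≤ R := Thompson.zjay_le
  have hNRZ : normalizer (R : Set G) ≤ normalizer (Z : Set G) :=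
    (Thompson.normalizer_le_normalizer_jay 0 R).trans (Thompson.normalizer_jay_le_normalizer_zjay 0 R)
  have hZtop : normalizer (Z : Set G) ≠ ⊤ :=
    normalizer_ne_top hmin hZ0 (fun h => hRtop (top_le_iff.mp (h ▸ hZR)))
  set K := pCorePrime p M with hK
  have hKn : M ≤ normalizer (K : Set G) := le_normalizer_pCorePrime M
  set D := pCorePrime p H with hD
  have hDM : D ≤ M :=
    hinv D (coprime_pCorePrime H) ((hBR.trans hRH).trans (le_normalizer_pCorePrime H))
  have hHnot : ¬ H ≤ M := fun h => hHM ((eq_or_lt_of_le h).resolve_right fun hlt => hM.1 (hH.2 M hlt)).symm.symm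
  -- consequences of maximality of `R` in `M`
  have hfullR : (∀ R' : Subgroup G, IsPGroup p R' → R ≤ R' → R' ≤ M → R' = R) →
      ∀ Y : Subgroup G, (Nat.card Y).Coprime p → R ≤ normalizer (Y : Set G) → Y ≤ K := by
    intro hR Y hY hRY
    refine le_pCorePrime hp2 hRM hRp (fun x hxM hxC hxp => ?_) (hinv Y hY (hBR.trans hRY)) hY hRY
    have hn : zpowers x ≤ normalizer (R : Set G) :=
      zpowers_le.mpr (centralizer_le_normalizer R hxC)
    have h := hR _ (hxp.to_sup_of_normal_right' hRp hn) le_sup_right (sup_le (zpowers_le.mpr hxM) hRM)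
    exact h ▸ mem_sup_left (mem_zpowers x)
  -- `N_G(R) ≤ M`
  have hNR : normalizer (R : Set G) ≤ M := by
    by_cases hR : ∀ R' : Subgroup G, IsPGroup p R' → R ≤ R' → R' ≤ M → R' = R
    · by_cases hK0 : K = ⊥
      · have hO : pPrimeCore p M = ⊥ := (map_eq_bot_iff_of_injective _ M.subtype_injective).mp hK0
        let S : Sylow p M :=
          { toSubgroup := R.subgroupOf M
            isPGroup' := hRp.comap_subtype
            is_maximal' := fun {Q} hQ hle => by
              have h1 : R ≤ Q.map M.subtype := fun r hr => ⟨⟨r, hRM hr⟩, hle hr, rfl⟩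
              have h2 := hR _ (hQ.map _) h1 (map_subtype_le _)
              have h3 := congrArg (comap M.subtype) h2
              rwa [comap_map_eq_self_of_injective M.subtype_injective] at h3 }
        have hn := zjay_normal_of_odd hp2 (hG.1.of_dvd_nat (card_subgroup_dvd_card M)) hO S
        have hSR : (S : Subgroup M).map M.subtype = R := map_subgroupOf_eq_of_le hRM
        have hMZ : M ≤ normalizer (Z : Set G) := by
          haveI := hn
          have h1 := le_normalizer_map (H := Thompson.zjay 0 (S : Subgroup M)) M.subtype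
          rw [normalizer_eq_top (H := Thompson.zjay 0 (S : Subgroup M)), ← MonoidHom.range_eq_map,
            range_subtype, ← Thompson.zjay_map M.subtype M.subtype_injective, hSR] at h1
          exact h1
        exact hNRZ.trans (normalizer_eq_of_isCoatom hmin hM (hZR.trans hRM) hZ0 hMZ).le
      · exact (normalizer_le_of_largest (hRM.trans hKn) (coprime_pCorePrime M) (hfullR hR)).trans
          (normalizer_eq_of_isCoatom hmin hM (pCorePrime_le M) hK0 hKn).le
    · push Not at hR
      obtain ⟨R', hR', hle, hR'M, hne'⟩ := hR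
      obtain ⟨x, hx, hxn, hxN⟩ := exists_mem_notMem_normalizer' hR' (lt_of_le_of_ne hle (Ne.symm hne'))
      refine hbig _ (R ⊔ zpowers x) (normalizer_ne_top hmin hR0 hRtop) (left_lt_sup.mpr ?_)
        (isPGroup_sup_zpowers hR' hle hx) (sup_le le_normalizer (zpowers_le.mpr hxN))
        (sup_le hRM (zpowers_le.mpr (hR'M hx)))
      exact fun h => hxn (zpowers_le.mp h)
  -- `R` is a Sylow subgroup of `H`
  let SH : Sylow p H :=
    { toSubgroup := R.subgroupOf H
      isPGroup' := hRp.comap_subtype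
      is_maximal' := fun {Q} hQ hle => by
        by_contra hne'
        have hlt : R < Q.map H.subtype := by
          refine lt_of_le_of_ne (fun r hr => ⟨⟨r, hRH hr⟩, hle hr, rfl⟩) fun h => hne' ?_
          rw [h]
          exact (comap_map_eq_self_of_injective H.subtype_injective Q).symm
        obtain ⟨x, hx, hxn, hxN⟩ := exists_mem_notMem_normalizer' (hQ.map _) hlt
        have hlt' : R < R ⊔ zpowers x := left_lt_sup.mpr fun h => hxn (zpowers_le.mp h)
        exact hHnot (hbig H _ hH.1 hlt' (isPGroup_sup_zpowers (hQ.map _) hlt.le hx)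
          (sup_le hRH (zpowers_le.mpr (map_subtype_le _ hx))) (sup_le hRM (zpowers_le.mpr (hNR hxN)))) }
  have hSH : (SH : Subgroup H).map H.subtype = R := map_subgroupOf_eq_of_le hRH
  have hfac : H ≤ D ⊔ normalizer (Z : Set G) := le_sup_normalizer_zjay hp2 hG.1 SH hSH
  have hNZ : ¬ normalizer (Z : Set G) ≤ M := fun h => hHnot (hfac.trans (sup_le hDM h))
  -- `R` is a Sylow subgroup of `M`, then of `G`
  have hRmaxM : ∀ R' : Subgroup G, IsPGroup p R' → R ≤ R' → R' ≤ M → R' = R := by
    intro R' hR' hle hR'M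
    by_contra hne'
    obtain ⟨x, hx, hxn, hxN⟩ := exists_mem_notMem_normalizer' hR' (lt_of_le_of_ne hle (Ne.symm hne'))
    exact hNZ (hbig _ (R ⊔ zpowers x) hZtop (left_lt_sup.mpr fun h => hxn (zpowers_le.mp h))
      (isPGroup_sup_zpowers hR' hle hx)
      (sup_le (le_normalizer.trans hNRZ) (zpowers_le.mpr (hNRZ hxN)))
      (sup_le hRM (zpowers_le.mpr (hR'M hx))))
  let P : Sylow p G :=
    { toSubgroup := R
      isPGroup' := hRp
      is_maximal' := fun {Q} hQ hle => by
        by_contra hne'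
        obtain ⟨x, hx, hxn, hxN⟩ := exists_mem_notMem_normalizer' hQ (lt_of_le_of_ne hle (Ne.symm hne'))
        exact hxn (hRmaxM _ (isPGroup_sup_zpowers hQ hle hx) le_sup_left
          (sup_le hRM (zpowers_le.mpr (hNR hxN))) ▸ mem_sup_right (mem_zpowers x)) }
  have hK0 : K ≠ ⊥ := by
    intro hK0
    refine hNZ ?_
    have hO : pPrimeCore p M = ⊥ := (map_eq_bot_iff_of_injective _ M.subtype_injective).mp hK0
    let S : Sylow p M := P.subtype hRM
    have hn := zjay_normal_of_odd hp2 (hG.1.of_dvd_nat (card_subgroup_dvd_card M)) hO S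
    have hSR : (S : Subgroup M).map M.subtype = R := map_subgroupOf_eq_of_le hRM
    have hMZ : M ≤ normalizer (Z : Set G) := by
      haveI := hn
      have h1 := le_normalizer_map (H := Thompson.zjay 0 (S : Subgroup M)) M.subtype
      rw [normalizer_eq_top (H := Thompson.zjay 0 (S : Subgroup M)), ← MonoidHom.range_eq_map,
        range_subtype, ← Thompson.zjay_map M.subtype M.subtype_injective, hSR] at h1
      exact h1
    exact (normalizer_eq_of_isCoatom hmin hM (hZR.trans hRM) hZ0 hMZ).le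
  have hNK : normalizer (K : Set G) = M := normalizer_eq_of_isCoatom hmin hM (pCorePrime_le M) hK0 hKn
  by_cases hE : ∀ E : Subgroup G, E ≤ R → R ≤ normalizer (E : Set G) → IsMulCommutative E →
      (∀ e ∈ E, e ^ p = 1) → Nat.card E < p ^ 3
  · -- `p`-length one: `H = O_{p'}(H) N_H(R)`
    refine hHnot ?_
    have h := congrArg (Subgroup.map H.subtype) (sup_normalizer_sylow_eq_top hp2
      (hG.1.of_dvd_nat (card_subgroup_dvd_card H)) SH fun E hES hSE hEc hEp => by
        rw [← Cores.card_map_eq E H.subtype_injective]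
        refine hE _ ((Subgroup.map_mono hES).trans hSH.le) ?_ ?_ ?_
        · exact hSH.ge.trans ((Subgroup.map_mono hSE).trans (le_normalizer_map _))
        · exact PGroups.isMulCommutative_of_comm fun a ha b hb => by
            obtain ⟨a', ha', rfl⟩ := ha
            obtain ⟨b', hb', rfl⟩ := hb
            rw [← map_mul, ← map_mul, PGroups.comm_of_isMulCommutative hEc ha' hb']
        · rintro _ ⟨e, he, rfl⟩
          rw [← map_pow, hEp e he, map_one])
    rw [Subgroup.map_sup, ← MonoidHom.range_eq_map, range_subtype] at h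
    exact h.ge.trans (sup_le hDM ((le_normalizer_map _).trans (hSH.symm ▸ hNR)))
  -- `R` has an abelian self-centralizing normal subgroup of rank at least three
  push Not at hE
  obtain ⟨E, hER, hRE, hEc, hEp, hE3⟩ := hE
  haveI : (E.subgroupOf R).Normal := (normal_subgroupOf_iff_le_normalizer hER).mpr hRE
  obtain ⟨C, hCn, hEC, -, -, hCC⟩ := Cfsg.Agent.S1894.result hRp (⊤ : Subgroup R) (E.subgroupOf R) le_top
    (PGroups.isMulCommutative_of_comm fun a ha b hb =>
      Subtype.ext (PGroups.comm_of_isMulCommutative hEc ha hb))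
  set A := C.map R.subtype with hA
  have hAR : A ≤ R := map_subtype_le _
  have hAc : IsMulCommutative A := PGroups.isMulCommutative_of_comm fun a ha b hb => by
    obtain ⟨a', ha', rfl⟩ := ha
    obtain ⟨b', hb', rfl⟩ := hb
    rw [← map_mul, ← map_mul, (hCC.ge ha').2 b' hb']
  have hRA : R ≤ normalizer (A : Set G) := by
    rw [le_normalizer_iff]
    rintro s hs _ ⟨x, hx, rfl⟩
    exact ⟨⟨s, hs⟩ * x * ⟨s, hs⟩⁻¹, hCn.conj_mem x hx _, rfl⟩
  have hSCN : Cfsg.IsSCN (P : Subgroup G) A := by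
    refine ⟨hAR, hRA, le_antisymm ?_ (le_inf hAR fun a ha b hb => PGroups.comm_of_isMulCommutative hAc hb ha)⟩
    rintro z ⟨hzR, hzC⟩
    refine ⟨⟨z, hzR⟩, hCC.le ⟨mem_top _, fun c hc => ?_⟩, rfl⟩
    exact Subtype.ext (hzC (c : G) ⟨c, hc, rfl⟩)
  have hEA : E ≤ A := fun e he => ⟨⟨e, hER he⟩, hEC he, rfl⟩
  have hA3 : ¬ Cfsg.PRankLE p 2 A := by
    intro h
    have h1 := h (E.subgroupOf A) (PGroups.isMulCommutative_of_comm fun a ha b hb =>
      Subtype.ext (PGroups.comm_of_isMulCommutative hEc ha hb))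
      (fun a ha => Subtype.ext (by simpa using hEp (a : G) ha))
    rw [Nat.card_congr (subgroupOfEquivOfLe hEA).toEquiv] at h1
    exact absurd (hE3.trans h1) (not_le.mpr (Nat.pow_lt_pow_right hpr.one_lt (by norm_num)))
  have hAp : IsPGroup p A := hRp.to_le hAR
  have hTH : Cfsg.TransitivityHypothesis A := Cfsg.Agent.S1396.result hG p hpG A hAp hAc
    (Or.inr ⟨P, hSCN, fun h => hA3 fun B' hB'c hB'p =>
      (h B' hB'c hB'p).trans (Nat.pow_le_pow_right hpr.pos (by norm_num))⟩)
  have hAA : A ⊓ centralizer (A : Set G) = A :=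
    inf_eq_left.mpr fun a ha b hb => PGroups.comm_of_isMulCommutative hAc hb ha
  have hZA : ¬ Cfsg.RankLE 2 ↥(A ⊓ centralizer (A : Set G)) := by
    rw [hAA]
    exact fun h => hA3 (h p hpr)
  -- the invariant `p'`-subgroups of `A` lie in `K`
  have hAK : ∀ Y : Subgroup G, (Nat.card Y).Coprime p → A ≤ normalizer (Y : Set G) → Y ≤ K := by
    intro Y hY hAY
    refine le_pCorePrime hp2 (hAR.trans hRM) hAp
      (fun x _ hxC hxp => Cfsg.Agent.S1396.mem_of_isSCN hAc hSCN hxC hxp) ?_ hY hAY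
    refine Coprime.le_of_exists_sylow_le fun q hq => ?_
    haveI := Fact.mk hq
    have hcop : (Nat.card A).Coprime (Nat.card Y) := by
      obtain ⟨n, hn⟩ := IsPGroup.iff_card.mp hAp
      rw [hn]
      exact (hY.pow_right n).symm
    obtain ⟨Q, hQ⟩ := Coprime.exists_invariant_sylow hAY hcop
      (Or.inl (isSolvable_of_ne_top hmin (ne_top_of_isPGroup hmin hAp))) q
    refine ⟨Q, ?_⟩
    by_cases hQ0 : (Q : Subgroup Y).map Y.subtype = ⊥
    · rw [hQ0]; exact bot_le
    have hqY : q ∣ Nat.card Y := by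
      obtain ⟨n, hn⟩ := IsPGroup.iff_card.mp Q.isPGroup'
      have hn0 : n ≠ 0 := fun h => hQ0 (by
        rw [card_eq_one.mp (by rw [hn, h, pow_zero] : Nat.card (Q : Subgroup Y) = 1), Subgroup.map_bot])
      exact (dvd_pow_self q hn0).trans (hn ▸ card_subgroup_dvd_card _)
    have hqp : q ≠ p := fun h => hpr.ne_one
      (Nat.eq_one_of_dvd_coprimes hY (h ▸ hqY) dvd_rfl)
    have hqA : ¬ q ∣ Nat.card A := fun h => by
      obtain ⟨n, hn⟩ := IsPGroup.iff_card.mp hAp
      rw [hn] at h
      exact hqp ((Nat.prime_dvd_prime_iff_eq hq hpr).mp (hq.dvd_of_dvd_pow h))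
    have htr := Cfsg.Agent.S1393.result hG A hTH hZA q hq hqA
    have hcp : ∀ Q' : Subgroup G, IsPGroup q Q' → (Nat.card Q').Coprime p := fun Q' hQ' => by
      obtain ⟨n, hn⟩ := IsPGroup.iff_card.mp hQ'
      rw [hn]
      exact ((Nat.coprime_primes hq hpr).mpr hqp).pow_left n
    obtain ⟨Q₀, hQ₀, -⟩ := exists_maxInvSubgroups_ge (X := (⊤ : Subgroup G)) (A := R) (π := {q}) (Q := ⊥)
      ⟨le_top, fun r hr hd => absurd hd (by rw [card_eq_one.mpr rfl]; exact hr.not_dvd_one),
        le_normalizer_iff.mpr fun a _ x hx => by rw [mem_bot.mp hx]; simp⟩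
    have hRπ : ∀ r : ℕ, r.Prime → r ∣ Nat.card R → r ∣ Nat.card A := by
      intro r hr hd
      obtain ⟨n, hn⟩ := IsPGroup.iff_card.mp hRp
      rw [hn] at hd
      rw [(Nat.prime_dvd_prime_iff_eq hr hpr).mp (hr.dvd_of_dvd_pow hd)]
      obtain ⟨m, hm⟩ := IsPGroup.iff_card.mp hAp
      rw [hm]
      exact dvd_pow_self p fun h => hTH.1 (card_eq_one.mp (by rw [hm, h, pow_zero]))
    have hnA : (A.subgroupOf R).Normal := (normal_subgroupOf_iff_le_normalizer hAR).mpr hRA
    have hQ₀A := (Cfsg.Agent.S1395.result hG A hTH q hq hqA R hRtop hRπ hAR hnA.isSubnormal htr).2.2.1 hQ₀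
    obtain ⟨Q₁, hQ₁, hle⟩ := exists_maxInvSubgroups_ge (X := (⊤ : Subgroup G)) (A := A) (π := {q})
      (Q := (Q : Subgroup Y).map Y.subtype)
      ⟨le_top, (Cores.isPGroup_iff_isPiNumber hq).1 (Q.isPGroup'.map _), hQ⟩
    obtain ⟨k, hk, rfl⟩ := htr Q₀ hQ₀A Q₁ hQ₁
    have hQ₀M : Q₀ ≤ M :=
      hinv Q₀ (hcp _ (isPGroup_of_invSubgroups hq hQ₀.1)) (hBR.trans hQ₀.1.2.2)
    have hkM : k ∈ M := by
      refine hinv _ ?_ ?_ hk
      · rw [Nat.coprime_comm, hpr.coprime_iff_not_dvd]
        refine fun hd => (piCoreOf_isPiNumber _ _ p hpr hd).2 ?_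
        obtain ⟨n, hn⟩ := IsPGroup.iff_card.mp hAp
        rw [hn]
        exact dvd_pow_self p fun h => hTH.1 (card_eq_one.mp (by rw [hn, h, pow_zero]))
      · refine (hBR.trans ?_).trans (normalizer_le_normalizer_piCoreOf _ _)
        intro s hs
        rw [mem_normalizer_iff]
        have key : ∀ m ∈ normalizer (A : Set G), ∀ d ∈ centralizer (A : Set G),
            m * d * m⁻¹ ∈ centralizer (A : Set G) := by
          intro m hm d hd a ha
          have ha' : m⁻¹ * a * m ∈ A := (mem_normalizer_iff''.1 hm a).1 ha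
          calc a * (m * d * m⁻¹) = m * ((m⁻¹ * a * m) * d) * m⁻¹ := by group
            _ = m * (d * (m⁻¹ * a * m)) * m⁻¹ := by rw [hd _ ha']
            _ = m * d * m⁻¹ * a := by group
        refine fun c => ⟨key s (hRA hs) c, fun hc => ?_⟩
        have h := key s⁻¹ (inv_mem (hRA hs)) _ hc
        rwa [show s⁻¹ * (s * c * s⁻¹) * s⁻¹⁻¹ = c by group] at h
    refine hle.trans ?_
    rintro _ ⟨z, hz, rfl⟩
    exact M.mul_mem (M.mul_mem hkM (hQ₀M hz)) (M.inv_mem hkM)
  -- `A ≤ O_{p',p}(H)`, so `H ≤ M`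
  refine hHnot ?_
  set N := pPrimeCore p H with hN
  set W := pPrimePCore p H with hW
  haveI : W.Normal := inferInstance
  have hfr := Thompson.frattini_inf SH W
  set q := QuotientGroup.mk' N with hq
  let S' : Sylow p (H ⧸ N) := SH.mapSurjective (QuotientGroup.mk'_surjective N)
  have hS' : (S' : Subgroup (H ⧸ N)) = (SH : Subgroup H).map q := Sylow.coe_mapSurjective _ _
  have hAW : A.subgroupOf H ≤ (SH : Subgroup H) ⊓ W := by
    refine le_inf (fun a ha => hAR ha) ?_
    have hoddQ : Odd (Nat.card (H ⧸ N)) :=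
      (hG.1.of_dvd_nat (card_subgroup_dvd_card H)).of_dvd_nat (card_quotient_dvd_card N)
    have h := Thompson.le_pCore_of_stable
      (Cores.centralizer_pCore_le Cores.isPSolvable_of_isSolvable Cores.pPrimeCore_quotient_pPrimeCore)
      (stableOnNormal_of_odd hp2 hoddQ) S' ((A.subgroupOf H).map q)
      (PGroups.isMulCommutative_of_comm fun a ha b hb => by
        obtain ⟨a', ha', rfl⟩ := ha
        obtain ⟨b', hb', rfl⟩ := hb
        rw [← map_mul, ← map_mul]
        exact congrArg q (Subtype.ext (PGroups.comm_of_isMulCommutative hAc ha' hb'))) ?_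
    · exact map_le_iff_le_comap.mp h
    rw [hS']
    refine (Subgroup.map_mono ?_).trans (le_normalizer_map q)
    rw [le_normalizer_iff]
    intro s hs a ha
    show (s : G) * (a : G) * (s : G)⁻¹ ∈ A
    exact Coprime.conj_mem (hRA hs) ha
  set Q := ((SH : Subgroup H) ⊓ W).map H.subtype with hQ
  have hAQ : A ≤ Q := fun a ha => ⟨⟨a, hRH (hAR ha)⟩, hAW ha, rfl⟩
  have hQR : Q ≤ R := (Subgroup.map_mono inf_le_left).trans hSH.le
  have hNQ : normalizer (Q : Set G) ≤ M :=
    (normalizer_le_of_largest ((hQR.trans hRM).trans hKn) (coprime_pCorePrime M)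
      fun Y hY hQY => hAK Y hY (hAQ.trans hQY)).trans hNK.le
  have hWM : W.map H.subtype ≤ M := by
    have h1 : W ≤ (SH : Subgroup H) ⊔ N := by
      intro x hx
      have h2 : q x ∈ (SH : Subgroup H).map q := hS' ▸ Cores.pCore_le_sylow S' hx
      rwa [← Subgroup.mem_comap, Subgroup.comap_map_eq, hq, QuotientGroup.ker_mk'] at h2
    refine (Subgroup.map_mono h1).trans ?_
    rw [Subgroup.map_sup]
    exact sup_le (hSH.le.trans hRM) hDM
  have h := congrArg (Subgroup.map H.subtype) hfr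
  rw [Subgroup.map_sup, ← MonoidHom.range_eq_map, range_subtype] at h
  exact h.ge.trans (sup_le ((le_normalizer_map _).trans hNQ) hWM)

/-- **Uniqueness criterion**: the invariant form. -/
theorem inUniqueMaximal_of_invariant (hG : Cfsg.IsMinSimpleOddOrder G) {M : Subgroup G}
    (hM : IsCoatom M) {B : Subgroup G} (hBM : B ≤ M) (hBe : Cfsg.IsElementaryAbelian p B)
    (hBnc : ¬ IsCyclic B)
    (hinv : ∀ Y : Subgroup G, (Nat.card Y).Coprime p → B ≤ normalizer (Y : Set G) → Y ≤ M) :
    Cfsg.InUniqueMaximal B :=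
  inUniqueMaximal_of_invariant' hG hM hBM (fun x => ⟨1, Subtype.ext (by simpa using hBe.2 x x.2)⟩)
    (fun h => hBnc (h ▸ inferInstance)) hinv

end Cfsg.Agent.H41
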