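import Cfsg.Agent.S1402
import Cfsg.Agent.S1399
import Cfsg.Agent.H41.SCN3

/-!
The uniqueness theorem.
-/

set_option autoImplicit false

namespace Cfsg.Agent.H41

open Subgroup

variable {G : Type*} [Group G] [Finite G]

/-- Every elementary abelian subgroup of order at least `p ^ 3` lies in exactly one maximal subgroup. -/
theorem inUniqueMaximal_elementary (hG : Cfsg.IsMinSimpleOddOrder G) {p : ℕ} [Fact p.Prime]
    {E : Subgroup G} (hEc : IsMulCommutative E) (hEe : ∀ a ∈ E, a ^ p = 1) (hE : p ^ 3 ≤ Nat.card E) :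
    Cfsg.InUniqueMaximal E := by
  have hpr : p.Prime := Fact.out
  obtain ⟨E₂, hle, hE₂⟩ := exists_le_card_eq hEe hE
  have h2c : IsMulCommutative E₂ := PGroups.isMulCommutative_of_comm fun a ha b hb =>
    PGroups.comm_of_isMulCommutative hEc (hle ha) (hle hb)
  have hp2 : p ≠ 2 := pne2_of_card_dvd hG.1 (prime_dvd_card_of_elementary (k := 2) hE₂)
  have hEp : IsPGroup p E := fun x => ⟨1, Subtype.ext (by simpa using hEe x x.2)⟩
  refine inUniqueMaximal_of_le ?_ hle (ne_top_of_isPGroup hG.2 hEp)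
  obtain ⟨Q, hQ⟩ := hEp.exists_le_sylow
  obtain ⟨C, hC, hCc, -, hC3, E₁, hE₁C, -, hE₁e, hE₁⟩ := exists_isSCN_of_not_pRankLE hp2
    (P := (Q : Subgroup G)) Q.isPGroup'
    (not_pRankLE hpr.one_lt (hle.trans hQ) h2c (fun a ha => hEe a (hle ha)) hE₂.ge)
  exact inUniqueMaximal_transfer' hG hCc (Cfsg.Agent.S1402.result hG p Q C hC hC3) hE₁C hE₁e hE₁ h2c
    (fun a ha => hEe a (hle ha)) hE₂

/-- A subgroup of rank at least 3. -/
theorem inUniqueMaximal_of_not_rankLE (hG : Cfsg.IsMinSimpleOddOrder G) {K : Subgroup G} (hK : K ≠ ⊤)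
    (h : ¬ Cfsg.RankLE 2 K) : Cfsg.InUniqueMaximal K := by
  simp only [Cfsg.RankLE, not_forall] at h
  obtain ⟨p, hp, h⟩ := h
  haveI := Fact.mk hp
  obtain ⟨E, hEK, hEc, hEe, hE⟩ := exists_elementary_of_not_pRankLE h
  exact inUniqueMaximal_of_le (inUniqueMaximal_elementary hG hEc hEe hE.ge) hEK hK

/-- A subgroup of `p`-rank at least 3. -/
theorem inUniqueMaximal_of_not_pRankLE (hG : Cfsg.IsMinSimpleOddOrder G) {p : ℕ} [Fact p.Prime]
    {K : Subgroup G} (hK : K ≠ ⊤) (h : ¬ Cfsg.PRankLE p 2 K) : Cfsg.InUniqueMaximal K :=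
  inUniqueMaximal_of_not_rankLE hG hK fun h' => h (h' p Fact.out)

/-- The uniqueness theorem. -/
theorem uniqueness_theorem (hG : Cfsg.IsMinSimpleOddOrder G) {K : Subgroup G} (hK : K ≠ ⊤)
    (hK2 : ¬ Cfsg.RankLE 1 K)
    (hK3 : ¬ Cfsg.RankLE 2 K ∨ ¬ Cfsg.RankLE 2 (centralizer (K : Set G))) :
    Cfsg.InUniqueMaximal K := by
  rcases hK3 with h | h
  · exact inUniqueMaximal_of_not_rankLE hG hK h
  simp only [Cfsg.RankLE, not_forall] at h
  obtain ⟨p, hp, h⟩ := h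
  haveI := Fact.mk hp
  obtain ⟨E, hEC, hEc, hEe, hE⟩ := exists_elementary_of_not_pRankLE h
  exact Cfsg.Agent.S1399.result hG E K (inUniqueMaximal_elementary hG hEc hEe hE.ge)
    (le_centralizer_iff.mp hEC) hK2

end Cfsg.Agent.H41
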