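import Cfsg.Prelude.Def_OddOrderLocal
import Cfsg.Agent.H41.Uniqueness
import Cfsg.Agent.Cores.Fitting
import Cfsg.Agent.Coprime.Centralize
import Mathlib.GroupTheory.IsSubnormal

/-!
The primary components of the Fitting subgroup of a maximal subgroup, and the local lemma placing a
`p'`-subgroup in `O_{p'}` of an overgroup.
-/

set_option autoImplicit false

namespace Cfsg.Agent.H41

open Subgroup

variable {G : Type*} [Group G]

/-- `O_r(M)` as a subgroup of `G`. -/
def fcomp (r : ℕ) (M : Subgroup G) : Subgroup G := (pCore r M).map M.subtype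

theorem fcomp_le (r : ℕ) (M : Subgroup G) : fcomp r M ≤ M := map_subtype_le _

theorem isPGroup_fcomp (r : ℕ) (M : Subgroup G) : IsPGroup r (fcomp r M) :=
  Cores.pCore_isPGroup.map _

theorem le_normalizer_fcomp (r : ℕ) (M : Subgroup G) : M ≤ normalizer (fcomp r M : Set G) := by
  rw [le_normalizer_iff]
  rintro a ha _ ⟨z, hz, rfl⟩
  exact ⟨⟨a, ha⟩ * z * ⟨a, ha⟩⁻¹, (pCore_normal r M).conj_mem z hz _, rfl⟩

theorem le_fcomp {r : ℕ} {M N : Subgroup G} (hNM : N ≤ M) (hn : M ≤ normalizer (N : Set G))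
    (hN : IsPGroup r N) : N ≤ fcomp r M := by
  haveI : (N.subgroupOf M).Normal := (normal_subgroupOf_iff_le_normalizer hNM).2 hn
  exact (map_subgroupOf_eq_of_le hNM).ge.trans
    (Subgroup.map_mono (Cores.le_pCore hN.comap_subtype))

theorem coprime_card_of_isPGroup [Finite G] {r s : ℕ} [Fact r.Prime] [Fact s.Prime] (h : r ≠ s)
    {Z : Subgroup G} (hZ : IsPGroup r Z) : (Nat.card Z).Coprime s := by
  obtain ⟨n, hn⟩ := IsPGroup.iff_card.mp hZ
  rw [hn]
  exact ((Nat.coprime_primes Fact.out Fact.out).mpr h).pow_left n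

theorem fcomp_le_pCorePrime [Finite G] {r s : ℕ} [Fact r.Prime] [Fact s.Prime] (h : r ≠ s)
    (M : Subgroup G) : fcomp r M ≤ pCorePrime s M := by
  refine Subgroup.map_mono (Cores.le_pPrimeCore ?_)
  obtain ⟨n, hn⟩ := IsPGroup.iff_card.mp (Cores.pCore_isPGroup (p := r) (G := M))
  rw [hn]
  exact ((Nat.coprime_primes Fact.out Fact.out).mpr h).pow_left n

theorem pCorePrime_le_centralizer_fcomp [Finite G] (r : ℕ) [Fact r.Prime] (M : Subgroup G) :
    pCorePrime r M ≤ centralizer (fcomp r M : Set G) := by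
  rintro _ ⟨a, ha, rfl⟩ _ ⟨b, hb, rfl⟩
  rw [← map_mul, ← map_mul, Cores.commute_pCore_pPrimeCore hb ha]

theorem fcomp_le_centralizer_fcomp [Finite G] {r s : ℕ} [Fact r.Prime] [Fact s.Prime] (h : r ≠ s)
    (M : Subgroup G) : fcomp r M ≤ centralizer (fcomp s M : Set G) :=
  (fcomp_le_pCorePrime h M).trans (pCorePrime_le_centralizer_fcomp s M)

theorem fittingOf_le [Finite G] {M K : Subgroup G}
    (h : ∀ r : ℕ, r.Prime → fcomp r M ≤ K) : Cfsg.fittingOf M ≤ K := by
  rw [Cfsg.fittingOf, Cores.iSup_pCore_eq_fittingSubgroup, Subgroup.map_iSup]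
  exact iSup_le fun r => h r r.2

theorem fcomp_le_fittingOf [Finite G] {r : ℕ} (hr : r.Prime) (M : Subgroup G) :
    fcomp r M ≤ Cfsg.fittingOf M :=
  Subgroup.map_mono (Cores.pCore_le_fittingSubgroup hr)

theorem fittingOf_le_self (M : Subgroup G) : Cfsg.fittingOf M ≤ M := map_subtype_le _

theorem le_normalizer_fittingOf [Finite G] (M : Subgroup G) :
    M ≤ normalizer (Cfsg.fittingOf M : Set G) := by
  rw [le_normalizer_iff]
  rintro a ha _ ⟨z, hz, rfl⟩
  exact ⟨⟨a, ha⟩ * z * ⟨a, ha⟩⁻¹, (Cores.fittingSubgroup_normal (G := M)).conj_mem z hz _, rfl⟩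

theorem centralizer_fittingOf_le [Finite G] {M : Subgroup G} [Group.IsSolvable M] {Z : Subgroup G}
    (hZM : Z ≤ M) (hZ : ∀ r : ℕ, r.Prime → Z ≤ centralizer (fcomp r M : Set G)) :
    Z ≤ Cfsg.fittingOf M := by
  have h : Cfsg.fittingOf M ≤ centralizer (Z : Set G) :=
    fittingOf_le fun r hr => le_centralizer_iff.mp (hZ r hr)
  intro z hz
  refine ⟨⟨z, hZM hz⟩, Cores.centralizer_fittingSubgroup_le (fun f hf => ?_), rfl⟩
  exact Subtype.ext (le_centralizer_iff.mp h hz (f : G) ⟨f, hf, rfl⟩)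

theorem le_fcomp_of_le_fittingOf [Finite G] {r : ℕ} [Fact r.Prime] {M Z : Subgroup G}
    (hZ : Z ≤ Cfsg.fittingOf M) (hr : IsPGroup r Z) : Z ≤ fcomp r M := by
  have hZM : Z ≤ M := hZ.trans (fittingOf_le_self M)
  refine (map_subgroupOf_eq_of_le hZM).ge.trans (Subgroup.map_mono ?_)
  refine Cores.le_pCore_of_le_sup hr.comap_subtype ?_
  refine le_trans ?_ (Cores.iSup_pCore_le_sup r)
  rw [← Cores.iSup_pCore_eq_fittingSubgroup]
  intro z hz
  obtain ⟨f, hf, he⟩ := hZ hz
  exact (Subtype.ext he : f = z) ▸ hf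

theorem fcomp_ne_bot_of_dvd [Finite G] {r : ℕ} [hr : Fact r.Prime] {M : Subgroup G}
    (h : r ∣ Nat.card (Cfsg.fittingOf M)) : fcomp r M ≠ ⊥ := by
  obtain ⟨x, hx⟩ := exists_prime_orderOf_dvd_card' (G := Cfsg.fittingOf M) r h
  intro h0
  have hxr : IsPGroup r (zpowers (x : G)) := IsPGroup.of_card (n := 1) (by
    rw [Nat.card_zpowers, orderOf_coe, hx, pow_one])
  have h1 := le_fcomp_of_le_fittingOf (zpowers_le.mpr x.2) hxr
  rw [h0, le_bot_iff, zpowers_eq_bot] at h1
  rw [← orderOf_coe, h1, orderOf_one] at hx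
  exact hr.out.one_lt.ne hx

theorem prime_dvd_card_fcomp [Finite G] {r : ℕ} [hr : Fact r.Prime] {M : Subgroup G}
    (h : fcomp r M ≠ ⊥) : r ∣ Nat.card (fcomp r M) := by
  obtain ⟨n, hn⟩ := IsPGroup.iff_card.mp (isPGroup_fcomp r M)
  rw [hn]
  exact dvd_pow_self r fun h0 => h (card_eq_one.mp (by rw [hn, h0, pow_zero]))

theorem normalizer_fcomp [Finite G] (hG : Cfsg.IsMinimalSimple G) {r : ℕ} {M : Subgroup G}
    (hM : IsCoatom M) (h : fcomp r M ≠ ⊥) : normalizer (fcomp r M : Set G) = M :=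
  normalizer_eq_of_isCoatom hG hM (fcomp_le r M) h (le_normalizer_fcomp r M)

/-- A `p'`-subgroup `T` centralized by a `p`-subgroup `E` of `W` and lying in a `p'`-group normalized
by `C_W(E)` lies in `O_{p'}(W)`. -/
theorem le_pCorePrime_of_centralizer [Finite G] {s : ℕ} [Fact s.Prime] {W E T D : Subgroup G}
    [Group.IsSolvable W] (hEW : E ≤ W) (hE : IsPGroup s E) (hTW : T ≤ W)
    (hD : (Nat.card D).Coprime s) (hTD : T ≤ D) (hET : E ≤ centralizer (T : Set G))
    (hn : W ⊓ centralizer (E : Set G) ≤ normalizer (D : Set G)) : T ≤ pCorePrime s W := by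
  set N := pPrimeCore s W with hN
  set q := QuotientGroup.mk' N with hq
  set U := pCore s (W ⧸ N) with hU
  have hcon : Cfsg.IsPConstrained s W :=
    Cores.isPConstrained_of_isPSolvable Cores.isPSolvable_of_isSolvable
  have hUC : centralizer (U : Set (W ⧸ N)) ≤ U := Cores.isPConstrained_iff.mp hcon
  set E₀ := E.subgroupOf W with hE₀
  set T₀ := T.subgroupOf W with hT₀
  set T' := T₀.map q with hT'
  have hT₀c : (Nat.card T₀).Coprime s := by
    rw [hT₀, Nat.card_congr (subgroupOfEquivOfLe hTW).toEquiv]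
    exact hD.coprime_dvd_left (card_dvd_of_le hTD)
  have hT'c : (Nat.card T').Coprime s := hT₀c.coprime_dvd_left (card_map_dvd _ _)
  haveI hUn : U.Normal := pCore_normal s _
  have hUnorm : ∀ Z : Subgroup (W ⧸ N), Z ≤ normalizer (U : Set _) := fun Z =>
    (normalizer_eq_top_iff.mpr hUn).symm ▸ le_top
  have hcomm : E₀.map q ≤ centralizer (T' : Set _) := by
    rintro _ ⟨e, he, rfl⟩ _ ⟨t, ht, rfl⟩
    rw [← map_mul, ← map_mul, show t * e = e * t from Subtype.ext (hET he (t : G) ht)]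
  have hfix : U ⊓ centralizer (E₀.map q : Set _) ≤ centralizer (T' : Set _) := by
    rintro x ⟨hxU, hxC⟩
    have hxC' : x ∈ (centralizer (E₀ : Set W)).map q := by
      rw [Cores.map_centralizer_of_coprime N Cores.coprime_card_pPrimeCore
        (show IsPGroup s E₀ from hE.comap_subtype)]
      exact hxC
    obtain ⟨u, hu, rfl⟩ := hxC'
    rintro _ ⟨t, ht, rfl⟩
    have hc : ((u * t * u⁻¹ * t⁻¹ : W) : G) ∈ D := by
      have huD : (u : G) ∈ normalizer (D : Set G) :=
        hn ⟨u.2, fun a ha => congrArg Subtype.val (hu ⟨a, hEW ha⟩ ha)⟩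
      simpa using D.mul_mem (Coprime.conj_mem huD (hTD ht)) (D.inv_mem (hTD ht))
    have h1 : q (u * t * u⁻¹ * t⁻¹) ∈ U := by
      rw [show u * t * u⁻¹ * t⁻¹ = u * (t * u⁻¹ * t⁻¹) by group, map_mul]
      refine U.mul_mem hxU ?_
      rw [map_mul, map_mul, map_inv q t, map_inv q u]
      exact hUn.conj_mem _ (U.inv_mem hxU) _
    obtain ⟨k, hk⟩ := Cores.pCore_isPGroup (p := s) (⟨_, h1⟩ : U)
    have h2 : q (u * t * u⁻¹ * t⁻¹) = 1 := by
      refine orderOf_eq_one_iff.mp (Nat.eq_one_of_dvd_coprimes (hD.pow_right k) ?_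
        (orderOf_dvd_of_pow_eq_one (by simpa using congrArg Subtype.val hk)))
      exact (orderOf_map_dvd q _).trans (by rw [← orderOf_coe]; exact orderOf_dvd_natCard _ hc)
    rw [map_mul, map_mul, map_mul, map_inv, map_inv, mul_inv_eq_one, mul_inv_eq_iff_eq_mul] at h2
    exact h2.symm
  have hTU : T' ≤ centralizer (U : Set _) :=
    Coprime.thompson_AxB (hE.comap_subtype.map q) hT'c hcomm U Cores.pCore_isPGroup (hUnorm _) (hUnorm _) hfix
  have hbot : T' = ⊥ := le_bot_iff.mp
    ((le_inf (hTU.trans hUC) le_rfl).trans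
      (Cores.disjoint_of_isPGroup_of_coprime Cores.pCore_isPGroup hT'c).le)
  rw [hT', Subgroup.map_eq_bot_iff, hq, QuotientGroup.ker_mk'] at hbot
  exact (map_subgroupOf_eq_of_le hTW).ge.trans (Subgroup.map_mono hbot)

/-- The propagation lemma: a subgroup `T` of `O_{s'}(M)` lies in `O_{s'}(W)` for every proper `W`
containing `T` and a nontrivial subgroup `F'` of `O_s(M)`. -/
theorem le_pCorePrime_of_fcomp [Finite G] (hG : Cfsg.IsMinimalSimple G) {M : Subgroup G}
    (hM : IsCoatom M) {s : ℕ} [Fact s.Prime] {T : Subgroup G} (hT : T ≤ pCorePrime s M) :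
    ∀ (F' : Subgroup G), F' ≤ fcomp s M → F' ≠ ⊥ → ∀ W : Subgroup G, W ≠ ⊤ → F' ≤ W → T ≤ W →
      T ≤ pCorePrime s W := by
  intro F'
  induction F' using WellFoundedGT.induction with
  | ind F' ih =>
    intro hF' hne W hW hFW hTW
    haveI : Group.IsSolvable W := hG.2.2 W hW
    have hTC : T ≤ centralizer (F' : Set G) :=
      (hT.trans (pCorePrime_le_centralizer_fcomp s M)).trans (centralizer_le hF')
    have hp : IsPGroup s F' := (isPGroup_fcomp s M).to_le hF'
    set N₀ := normalizer (F' : Set G) with hN₀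
    have hN₀top : N₀ ≠ ⊤ := normalizer_ne_top hG hne
      fun h => hM.1 (top_le_iff.mp (h ▸ hF'.trans (fcomp_le s M)))
    have hTN : T ≤ pCorePrime s N₀ := by
      rcases eq_or_lt_of_le hF' with he | hlt
      · have hN : N₀ = M := by rw [hN₀, he]; exact normalizer_fcomp hG hM (he ▸ hne)
        rwa [hN]
      · obtain ⟨x, hx, hxn, hxN⟩ := exists_mem_notMem_normalizer' (isPGroup_fcomp s M) hlt
        refine ih (F' ⊔ zpowers x) (left_lt_sup.mpr fun h => hxn (zpowers_le.mp h))
          (sup_le hF' (zpowers_le.mpr hx)) (ne_bot_of_le_ne_bot hne le_sup_left) N₀ hN₀top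
          (sup_le le_normalizer (zpowers_le.mpr hxN)) (hTC.trans (centralizer_le_normalizer F'))
    exact le_pCorePrime_of_centralizer hFW hp hTW (coprime_pCorePrime N₀) hTN
      (le_centralizer_iff.mp hTC)
      (inf_le_right.trans ((centralizer_le_normalizer F').trans (le_normalizer_pCorePrime N₀)))

/-- Subgroups of a nilpotent group are subnormal. -/
theorem isSubnormal_of_isNilpotent {N : Type*} [Group N] [Finite N] [Group.IsNilpotent N] (H : Subgroup N) :
    H.IsSubnormal := by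
  induction H using WellFoundedGT.induction with
  | ind H ih =>
    by_cases h : H = ⊤
    · exact h ▸ Subgroup.IsSubnormal.top
    · have hlt : H < normalizer (H : Set N) := Group.normalizerCondition_of_isNilpotent H (lt_top_iff_ne_top.mpr h)
      exact Subgroup.IsSubnormal.step H _ hlt.le (ih _ hlt) normal_in_normalizer

end Cfsg.Agent.H41
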