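import Cfsg.Agent.PGroups.MaxAbelian
import Cfsg.Agent.PGroups.Basic

/-!
Normal elementary abelian subgroups of `p`-groups, `p` odd.
-/

set_option autoImplicit false

namespace Cfsg.Agent.H41

open Subgroup

variable {P : Type*} [Group P] [Finite P] {p : ℕ} [Fact p.Prime]

/-- A maximal normal elementary abelian `A`; an elementary abelian `E` meets `C(A)` inside `A`. -/
theorem exists_max_normal_elementary (hp : p ≠ 2) (hP : IsPGroup p P) :
    ∃ A : Subgroup P, A.Normal ∧ IsMulCommutative A ∧ (∀ a ∈ A, a ^ p = 1) ∧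
      ∀ E : Subgroup P, IsMulCommutative E → (∀ e ∈ E, e ^ p = 1) →
        E ⊓ centralizer (A : Set P) ≤ A := by
  obtain ⟨A, ⟨hAn, hAc, hAe⟩, hmax⟩ := (Set.toFinite
    {A : Subgroup P | A.Normal ∧ IsMulCommutative A ∧ ∀ a ∈ A, a ^ p = 1}).exists_maximal
    ⟨⊥, inferInstance, PGroups.isMulCommutative_of_comm fun x hx y hy => by
      rw [mem_bot.mp hx, mem_bot.mp hy], fun a ha => by rw [mem_bot.mp ha, one_pow]⟩
  haveI := hAn
  refine ⟨A, hAn, hAc, hAe, fun E _ hEe x hx => ?_⟩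
  refine PGroups.mem_of_pow_eq_one (n := 1) hP (by rwa [pow_one]) hAc (fun a ha => by rw [pow_one, hAe a ha])
    (fun B hBn hBc hBe hAB => le_antisymm (hmax ⟨hBn, hBc, fun b hb => by simpa using hBe b hb⟩ hAB) hAB)
    hx.2 (by rw [pow_one, hEe x hx.1])

/-- An elementary abelian subgroup meets the centralizer of a normal subgroup of order at most
`p ^ 2` in index at most `p`. -/
theorem card_le_mul_inf_centralizer (hP : IsPGroup p P) (A : Subgroup P) [A.Normal]
    (hA : Nat.card A ≤ p ^ 2) (E : Subgroup P) :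
    Nat.card E ≤ p * Nat.card ↥(E ⊓ centralizer (A : Set P)) := by
  obtain ⟨a, ha⟩ := IsPGroup.iff_card.mp (hP.to_subgroup A)
  have ha2 : a ≤ 2 := (Nat.pow_le_pow_iff_right (Fact.out : p.Prime).one_lt).mp (ha ▸ hA)
  have h1 : (centralizer (A : Set P)).index ≤ p :=
    (PGroups.index_centralizer_le hP a A ha).trans ((Nat.pow_le_pow_right (Fact.out : p.Prime).pos
      (by interval_cases a <;> decide : a.choose 2 ≤ 1)).trans (pow_one p).le)
  have h2 : Nat.card E = Nat.card ↥(E ⊓ centralizer (A : Set P)) * (centralizer (A : Set P)).relIndex E := by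
    rw [← inf_relIndex_right, inf_comm]
    rw [← relIndex_bot_left, ← relIndex_bot_left, relIndex_mul_relIndex _ _ _ bot_le inf_le_right]
  rw [h2, mul_comm p]
  refine Nat.mul_le_mul_left _ (le_trans ?_ h1)
  exact Nat.le_of_dvd (Nat.pos_of_ne_zero Subgroup.index_ne_zero_of_finite)
    (relIndex_dvd_index_of_normal _ _)

/-- `p` odd, no normal elementary abelian subgroup of order `p ^ 3`: rank at most two. -/
theorem card_le_sq_of_no_normal (hp : p ≠ 2) (hP : IsPGroup p P)
    (h : ∀ A : Subgroup P, A.Normal → IsMulCommutative A → (∀ a ∈ A, a ^ p = 1) → Nat.card A < p ^ 3)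
    (E : Subgroup P) (hE : IsMulCommutative E) (hEe : ∀ e ∈ E, e ^ p = 1) :
    Nat.card E ≤ p ^ 2 := by
  have hpr : p.Prime := Fact.out
  obtain ⟨A, hAn, hAc, hAe, hA⟩ := exists_max_normal_elementary hp hP
  haveI := hAn
  obtain ⟨e, he⟩ := IsPGroup.iff_card.mp (hP.to_subgroup E)
  rw [he]
  by_contra hlt
  rw [Nat.pow_le_pow_iff_right hpr.one_lt, not_le] at hlt
  obtain ⟨a, ha⟩ := IsPGroup.iff_card.mp (hP.to_subgroup A)
  have ha2 : a ≤ 2 := Nat.le_of_lt_succ ((Nat.pow_lt_pow_iff_right hpr.one_lt).mp (ha ▸ h A hAn hAc hAe))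
  have hA2 : Nat.card A ≤ p ^ 2 := ha ▸ Nat.pow_le_pow_right hpr.pos ha2
  have h1 := card_le_mul_inf_centralizer hP A hA2 E
  have h2 : E ⊓ centralizer (A : Set P) ≤ A := hA E hE hEe
  have h3 : Nat.card ↥(E ⊓ centralizer (A : Set P)) ≤ Nat.card A :=
    Nat.le_of_dvd Nat.card_pos (card_dvd_of_le h2)
  have heq : E ⊓ centralizer (A : Set P) = A := by
    refine eq_of_le_of_card_ge h2 ?_
    by_contra hne
    push Not at hne
    obtain ⟨i, hi⟩ := IsPGroup.iff_card.mp (hP.to_subgroup (E ⊓ centralizer (A : Set P)))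
    rw [hi, ha, Nat.pow_lt_pow_iff_right hpr.one_lt] at hne
    rw [he, hi, ← pow_succ', Nat.pow_le_pow_iff_right hpr.one_lt] at h1
    omega
  have hAE : A ≤ E := heq ▸ inf_le_left
  have hEC : E ≤ centralizer (A : Set P) := fun x hx y hy =>
    PGroups.comm_of_isMulCommutative hE (hAE hy) hx
  have hEA : E ≤ A := (le_inf le_rfl hEC).trans h2
  have h4 := (Nat.le_of_dvd Nat.card_pos (card_dvd_of_le hEA)).trans hA2
  rw [he, Nat.pow_le_pow_iff_right hpr.one_lt] at h4
  omega

/-- `p` odd: an elementary abelian subgroup of order `p ^ 2` yields a normal one. -/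
theorem exists_normal_elementary_sq (hp : p ≠ 2) (hP : IsPGroup p P) {E : Subgroup P}
    (hE : IsMulCommutative E) (hEe : ∀ e ∈ E, e ^ p = 1) (hcard : p ^ 2 ≤ Nat.card E) :
    ∃ A : Subgroup P, A.Normal ∧ IsMulCommutative A ∧ (∀ a ∈ A, a ^ p = 1) ∧ Nat.card A = p ^ 2 := by
  have hpr : p.Prime := Fact.out
  obtain ⟨A, hAn, hAc, hAe, hA⟩ := exists_max_normal_elementary hp hP
  haveI := hAn
  obtain ⟨a, ha⟩ := IsPGroup.iff_card.mp (hP.to_subgroup A)
  by_cases ha2 : 2 ≤ a
  · obtain ⟨M, hMn, -, hMA, hM⟩ := PGroups.exists_normal_card_pow_mul hP ⊥ A bot_le 2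
      (by rw [card_eq_one.mpr rfl, mul_one, ha]; exact Nat.pow_le_pow_right hpr.pos ha2)
    exact ⟨M, hMn, PGroups.isMulCommutative_of_comm fun x hx y hy =>
      PGroups.comm_of_isMulCommutative hAc (hMA hx) (hMA hy), fun x hx => hAe x (hMA hx),
      by rw [hM, card_eq_one.mpr rfl, mul_one]⟩
  exfalso
  have h1 := PGroups.index_centralizer_le hP a A ha
  rw [Nat.choose_eq_zero_of_lt (by omega : a < 2), pow_zero] at h1
  have htop : centralizer (A : Set P) = ⊤ := Subgroup.index_eq_one.mp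
    (le_antisymm h1 (Nat.pos_of_ne_zero Subgroup.index_ne_zero_of_finite))
  have hEA : E ≤ A := by
    refine le_trans ?_ (hA E hE hEe)
    rw [htop, inf_top_eq]
  have := hcard.trans (Nat.le_of_dvd Nat.card_pos (card_dvd_of_le hEA))
  rw [ha, Nat.pow_le_pow_iff_right hpr.one_lt] at this
  exact ha2 this

end Cfsg.Agent.H41
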