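import Cfsg.Prelude.Def_OddOrderLocal
import Cfsg.Agent.Cores.Fitting
import Cfsg.Agent.H41.Basic

/-!
Nilpotent groups, complements inside a subgroup, and `M_F`.
-/

set_option autoImplicit false

namespace Cfsg.Agent.H41

open Subgroup

/-- In a finite nilpotent group elements of coprime orders commute. -/
theorem commute_of_coprime_orderOf {G : Type*} [Group G] [Finite G] (hG : Group.IsNilpotent G)
    {x y : G} (h : (orderOf x).Coprime (orderOf y)) : Commute x y := by
  classical
  obtain ⟨e⟩ := ((Group.isNilpotent_of_finite_tfae (G := G)).out 0 4).mp hG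
  suffices hs : Commute (e.symm x) (e.symm y) by
    simpa using hs.map e.toMonoidHom
  have hx : orderOf (e.symm x) = orderOf x := e.symm.orderOf_eq x
  have hy : orderOf (e.symm y) = orderOf y := e.symm.orderOf_eq y
  refine funext fun p => funext fun P => ?_
  haveI := Fact.mk (Nat.prime_of_mem_primeFactors p.2)
  let π : (∀ p : (Nat.card G).primeFactors, ∀ P : Sylow p G, P) →* P :=
    MonoidHom.mk' (fun f => f p P) (fun _ _ => rfl)
  change π (e.symm x) * π (e.symm y) = π (e.symm y) * π (e.symm x)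
  by_cases hp : (p : ℕ) ∣ orderOf x
  · have hc : (orderOf (π (e.symm y))).Coprime p := by
      refine Nat.Coprime.coprime_dvd_left ((orderOf_map_dvd π _).trans hy.dvd) ?_
      exact Nat.Coprime.coprime_dvd_right hp h.symm
    obtain ⟨k, hk⟩ := IsPGroup.iff_orderOf.1 P.isPGroup' (π (e.symm y))
    rw [hk] at hc
    have : π (e.symm y) = 1 := by
      rw [← orderOf_eq_one_iff, hk]
      exact (Nat.coprime_self _).1 (hc.pow_right k)
    rw [this, one_mul, mul_one]
  · obtain ⟨k, hk⟩ := IsPGroup.iff_orderOf.1 P.isPGroup' (π (e.symm x))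
    have hd := (orderOf_map_dvd π (e.symm x)).trans hx.dvd
    rw [hk] at hd
    have : π (e.symm x) = 1 := by
      rw [← orderOf_eq_one_iff, hk]
      rcases k with _ | k
      · exact pow_zero _
      · exact absurd ((dvd_pow_self _ (Nat.succ_ne_zero k)).trans hd) hp
    rw [this, one_mul, mul_one]

variable {G : Type*} [Group G]

theorem commute_of_coprime_of_isNilpotent [Finite G] {F : Subgroup G} (hF : Group.IsNilpotent F)
    {x y : G} (hx : x ∈ F) (hy : y ∈ F) (h : (orderOf x).Coprime (orderOf y)) : x * y = y * x :=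
  congrArg Subtype.val
    ((commute_of_coprime_orderOf hF (x := (⟨x, hx⟩ : F)) (y := ⟨y, hy⟩)
      (by rwa [Subgroup.orderOf_mk, Subgroup.orderOf_mk])) : (⟨x, hx⟩ : F) * ⟨y, hy⟩ = _)

theorem IsComplIn.card_eq {A B M : Subgroup G} (h : Cfsg.IsComplIn A B M) :
    Nat.card M = Nat.card A * Nat.card B := by
  obtain ⟨hA, hB, hd, hmul⟩ := h
  rw [← Nat.card_prod]
  refine (Nat.card_eq_of_bijective
    (fun x : A × B => (⟨x.1 * x.2, M.mul_mem (hA x.1.2) (hB x.2.2)⟩ : M)) ⟨?_, ?_⟩).symm
  · rintro ⟨a, b⟩ ⟨a', b'⟩ hab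
    have h1 : (a : G) * b = a' * b' := congrArg Subtype.val hab
    have h2 : (a' : G)⁻¹ * a = b' * (b : G)⁻¹ := by
      rw [eq_mul_inv_iff_mul_eq, mul_assoc, h1, inv_mul_cancel_left]
    have h3 : (a' : G)⁻¹ * a ∈ A ⊓ B :=
      ⟨A.mul_mem (A.inv_mem a'.2) a.2, h2 ▸ B.mul_mem b'.2 (B.inv_mem b.2)⟩
    rw [hd, Subgroup.mem_bot, inv_mul_eq_one] at h3
    rw [h3] at h1
    exact Prod.ext (Subtype.ext h3.symm) (Subtype.ext (mul_left_cancel h1))
  · rintro ⟨m, hm⟩
    obtain ⟨a, ha, b, hb, rfl⟩ := hmul m hm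
    exact ⟨(⟨a, ha⟩, ⟨b, hb⟩), rfl⟩

theorem IsComplIn.relIndex_eq [Finite G] {A B M : Subgroup G} (h : Cfsg.IsComplIn A B M) :
    B.relIndex M = Nat.card A ∧ A.relIndex M = Nat.card B := by
  have hc := IsComplIn.card_eq h
  have e1 := Subgroup.relIndex_mul_relIndex (⊥ : Subgroup G) B M bot_le h.2.1
  have e2 := Subgroup.relIndex_mul_relIndex (⊥ : Subgroup G) A M bot_le h.1
  rw [relIndex_bot_left, relIndex_bot_left, hc] at e1 e2
  constructor
  · exact Nat.eq_of_mul_eq_mul_left Nat.card_pos (e1.trans (mul_comm _ _))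
  · exact Nat.eq_of_mul_eq_mul_left Nat.card_pos e2

/-- The defining family of `M_F` is closed under joins: `M_F` is a normal nilpotent Hall subgroup. -/
theorem fittingHall_spec (M : Type*) [Group M] [Finite M] :
    (Cfsg.fittingHall M).Normal ∧ Group.IsNilpotent (Cfsg.fittingHall M) ∧
      (Nat.card (Cfsg.fittingHall M)).Coprime (Cfsg.fittingHall M).index := by
  refine Cores.sSup_mem_of_closed
    (S := {N : Subgroup M | N.Normal ∧ Group.IsNilpotent N ∧ (Nat.card N).Coprime N.index})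
    ⟨inferInstance, ?_, ?_⟩ ?_
  · infer_instance
  · rw [Subgroup.card_bot]; exact Nat.coprime_one_left _
  · rintro A ⟨hA, hA', hA''⟩ B ⟨hB, hB', hB''⟩
    refine ⟨inferInstance, ?_, ?_⟩
    · haveI := Cores.fittingSubgroup_isNilpotent (G := M)
      have hle : A ⊔ B ≤ Cfsg.fittingSubgroup M :=
        sup_le (Cores.le_fittingSubgroup hA') (Cores.le_fittingSubgroup hB')
      exact Group.nilpotent_of_mulEquiv (Subgroup.subgroupOfEquivOfLe hle)
    · have hi1 : (A ⊔ B).index ∣ A.index := Subgroup.index_dvd_of_le le_sup_left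
      have hi2 : (A ⊔ B).index ∣ B.index := Subgroup.index_dvd_of_le le_sup_right
      exact Nat.Coprime.coprime_dvd_left (Cores.card_sup_dvd A B)
        (Nat.Coprime.mul_left (Nat.Coprime.coprime_dvd_right hi1 hA'')
          (Nat.Coprime.coprime_dvd_right hi2 hB''))

theorem fittingHall_le_fittingSubgroup (M : Type*) [Group M] [Finite M] :
    Cfsg.fittingHall M ≤ Cfsg.fittingSubgroup M :=
  sSup_le fun _ h => le_sSup ⟨h.1, h.2.1⟩

/-- For type-P data, an element of `U ∩ F(M)` centralizes `M_F`. -/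
theorem typeP_inf_fitting_le_centralizer [Finite G] {M W₁ U W₂ : Subgroup G}
    (hP : Cfsg.IsTypePWith M W₁ U W₂) :
    U ⊓ Cfsg.fittingOf M ≤ Subgroup.centralizer (Cfsg.fittingHallOf M : Set G) := by
  intro u hu
  rw [Subgroup.mem_centralizer_iff]
  intro x hx
  have hnil : Group.IsNilpotent (Cfsg.fittingOf M) := by
    haveI := Cores.fittingSubgroup_isNilpotent (G := M)
    exact Group.nilpotent_of_surjective (M.subtype.subgroupMap _) (M.subtype.subgroupMap_surjective _)
  have hx' : x ∈ Cfsg.fittingOf M := Subgroup.map_mono (fittingHall_le_fittingSubgroup M) hx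
  refine commute_of_coprime_of_isNilpotent hnil hx' hu.2 ?_
  have h1 : orderOf x ∣ Nat.card (Cfsg.fittingHallOf M) := by
    rw [← Subgroup.orderOf_mk x hx]; exact orderOf_dvd_natCard _
  have h2 : orderOf u ∣ Nat.card U := by
    rw [← Subgroup.orderOf_mk u hu.1]; exact orderOf_dvd_natCard _
  have hcard : Nat.card (Cfsg.fittingHallOf M) = Nat.card (Cfsg.fittingHall M) :=
    Cores.card_map_eq _ M.subtype_injective
  have h3 : Nat.card U ∣ (Cfsg.fittingHall M).index := by
    have e1 := IsComplIn.card_eq hP.U_compl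
    have e2 : Nat.card (Cfsg.fittingHall M) * (Cfsg.fittingHall M).index = Nat.card M :=
      Subgroup.card_mul_index _
    have e3 : Nat.card ↥⁅M, M⁆ ∣ Nat.card M :=
      Subgroup.card_dvd_of_le (Subgroup.commutator_le_self M)
    rw [e1, ← e2, hcard] at e3
    exact Nat.dvd_of_mul_dvd_mul_left Nat.card_pos e3
  exact Nat.Coprime.coprime_dvd_left h1
    (Nat.Coprime.coprime_dvd_right h2 (hcard ▸ (Nat.Coprime.coprime_dvd_right h3 (fittingHall_spec M).2.2)))

theorem typeP_fitting_eq [Finite G] {M W₁ U W₂ : Subgroup G} (hP : Cfsg.IsTypePWith M W₁ U W₂) :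
    Cfsg.fittingOf M =
      Cfsg.fittingHallOf M ⊔ (U ⊓ Subgroup.centralizer (Cfsg.fittingHallOf M : Set G)) := by
  apply le_antisymm
  · intro f hf
    obtain ⟨h, hh, u, hu, rfl⟩ := hP.U_compl.2.2.2 f (hP.fitting_le hf)
    refine Subgroup.mul_mem_sup hh ⟨hu, typeP_inf_fitting_le_centralizer hP ⟨hu, ?_⟩⟩
    have hh' : h ∈ Cfsg.fittingOf M := Subgroup.map_mono (fittingHall_le_fittingSubgroup M) hh
    simpa using (Cfsg.fittingOf M).mul_mem ((Cfsg.fittingOf M).inv_mem hh') hf
  · rw [← hP.fitting_eq]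
    exact sup_le_sup_left (inf_le_inf_right _
      (hP.U_compl.2.1.trans (Subgroup.commutator_le_self M))) _

end Cfsg.Agent.H41
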