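import Cfsg.Prelude.Def_PLocal
import Cfsg.Agent.Thompson.QuadraticPair
import Cfsg.Agent.Thompson.BaerSuzuki
import Cfsg.Agent.Thompson.ZJ
import Cfsg.Agent.Coprime.Centralize
import Cfsg.Agent.PGroups.Basic
import Cfsg.Agent.Fusion.PResidual

/-!
A group of odd order acts `p`-stably on each of its normal `p`-subgroups.
-/

set_option autoImplicit false

namespace Cfsg.Agent.H41

open Subgroup
open scoped commutatorElement Matrix

variable {G : Type*} [Group G]

/-- An automorphism as an additive endomorphism. -/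
def autEnd (V : Type*) [Group V] : MulAut V →* AddMonoid.End (Additive V) where
  toFun φ := MonoidHom.toAdditive φ.toMonoidHom
  map_one' := rfl
  map_mul' _ _ := rfl

/-- The action of `G` on the image of a normal subgroup. -/
def secAction {Q : Type*} [Group Q] (π : G →* Q) (V : Subgroup Q) [V.Normal] :
    G →* AddMonoid.End (Additive V) :=
  (autEnd V).comp ((MulAut.conjNormal (H := V)).comp π)

theorem secAction_apply {Q : Type*} [Group Q] (π : G →* Q) (V : Subgroup Q) [V.Normal] (g : G)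
    (v : Additive V) : ((Additive.toMul (secAction π V g v) : V) : Q) =
      π g * ((Additive.toMul v : V) : Q) * (π g)⁻¹ := rfl

/-- In a group of odd order two conjugates of a quadratically acting element generate a `p`-group
modulo the centralizer. -/
theorem exists_pow_mem_centralizer [Finite G] {p : ℕ} [Fact p.Prime] (hp : p ≠ 2)
    (hodd : Odd (Nat.card G)) (B : Subgroup G) [hBn : B.Normal] (hB : IsPGroup p B) {a b : G}
    (ha : ∀ x ∈ B, Commute a (a * x * a⁻¹ * x⁻¹)) (hb : ∀ x ∈ B, Commute b (b * x * b⁻¹ * x⁻¹))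
    {h : G} (hh : h ∈ Subgroup.closure ({a, b} : Set G)) :
    ∃ n : ℕ, h ^ p ^ n ∈ centralizer (B : Set G) := by
  classical
  haveI : (frattini B).Characteristic := frattini_characteristic
  haveI : ((frattini B).map B.subtype).Normal := inferInstance
  set Φ := (frattini B).map B.subtype with hΦ
  set π := QuotientGroup.mk' Φ with hπ
  haveI hVn : (B.map π).Normal := hBn.map π (QuotientGroup.mk'_surjective _)
  set V := B.map π with hV
  have hcomm : ∀ u v : V, u * v = v * u := by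
    rintro ⟨_, x, hx, rfl⟩ ⟨_, y, hy, rfl⟩
    refine Subtype.ext ?_
    show π x * π y = π y * π x
    rw [← map_mul, ← map_mul, hπ, QuotientGroup.mk'_apply, QuotientGroup.mk'_apply, QuotientGroup.eq]
    refine ⟨(⟨x, hx⟩ * ⟨y, hy⟩ : B)⁻¹ * (⟨y, hy⟩ * ⟨x, hx⟩), ?_, rfl⟩
    apply PGroups.commutator_le_frattini hB
    rw [show ((⟨x, hx⟩ * ⟨y, hy⟩ : B)⁻¹ * (⟨y, hy⟩ * ⟨x, hx⟩)) = ⁅(⟨y, hy⟩ : B)⁻¹, (⟨x, hx⟩ : B)⁻¹⁆ by
      simp only [commutatorElement_def]; group]
    exact commutator_mem_commutator (mem_top _) (mem_top _)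
  letI : CommGroup V := { (inferInstance : Group V) with mul_comm := hcomm }
  have hpow : ∀ v : Additive V, p • v = 0 := by
    intro v
    obtain ⟨⟨_, x, hx, rfl⟩, rfl⟩ := Additive.ofMul.surjective v
    rw [← ofMul_pow, ofMul_eq_zero]
    refine Subtype.ext ?_
    show π x ^ p = 1
    rw [← map_pow, hπ, QuotientGroup.mk'_apply, QuotientGroup.eq_one_iff]
    exact ⟨_, PGroups.pow_mem_frattini hB (⟨x, hx⟩ : B), rfl⟩
  set ρ := secAction π V with hρ
  have hquad : ∀ c : G, (∀ x ∈ B, Commute c (c * x * c⁻¹ * x⁻¹)) →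
      (ρ c - 1) * (ρ c - 1) = 0 := by
    intro c hc
    refine AddMonoidHom.ext fun v => ?_
    obtain ⟨⟨_, x, hx, rfl⟩, rfl⟩ := Additive.ofMul.surjective v
    show ρ c (ρ c _ - _) - (ρ c _ - _) = 0
    rw [sub_eq_zero]
    refine Additive.toMul.injective (Subtype.ext ?_)
    rw [secAction_apply, toMul_sub, div_eq_mul_inv, Subgroup.coe_mul, Subgroup.coe_inv, secAction_apply]
    show π c * (π c * π x * (π c)⁻¹ * (π x)⁻¹) * (π c)⁻¹ = π c * π x * (π c)⁻¹ * (π x)⁻¹
    simp only [← map_mul, ← map_inv]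
    congr 1
    rw [(hc x hx).eq, mul_inv_cancel_right]
  set K := Subgroup.closure ({a, b} : Set G) with hK
  have htop : Subgroup.closure ({⟨a, subset_closure (by simp)⟩, ⟨b, subset_closure (by simp)⟩} : Set K) = ⊤ := by
    rw [eq_top_iff]
    rintro ⟨z, hz⟩ -
    have h1 : z ∈ (Subgroup.closure ({⟨a, subset_closure (by simp)⟩, ⟨b, subset_closure (by simp)⟩} : Set K)).map K.subtype := by
      rw [MonoidHom.map_closure, Set.image_pair]
      exact hz
    obtain ⟨w, hw, hwz⟩ := h1
    rwa [show (⟨z, hz⟩ : K) = w from Subtype.ext hwz.symm]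
  by_cases hcase : ∀ k : K, ∃ n : ℕ, (ρ.comp K.subtype) k ^ p ^ n = 1
  · obtain ⟨n, hn⟩ := hcase ⟨h, hh⟩
    obtain ⟨m, hm⟩ := Cfsg.Agent.Fusion.exists_pow_coprime (p := p) (h ^ p ^ n)
    refine ⟨n + m, ?_⟩
    rw [pow_add, pow_mul]
    set u := h ^ p ^ n with hu
    have hρu : ρ u = 1 := by rw [hu, map_pow]; exact hn
    have hBn' : zpowers (u ^ p ^ m) ≤ normalizer (B : Set G) := (normalizer_eq_top (H := B)).symm ▸ le_top
    refine Coprime.le_centralizer_of_frattini hBn' ?_ ?_ (mem_zpowers _)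
    · obtain ⟨j, hj⟩ := IsPGroup.iff_card.mp (hB.to_subgroup (frattini B))
      rw [hj, Nat.card_zpowers]
      exact hm.pow_right j
    · intro z hz x hx
      obtain ⟨i, rfl⟩ := mem_zpowers_iff.mp hz
      have h1 : ρ ((u ^ p ^ m) ^ i) = 1 := by
        have : u ^ p ^ m ∈ ρ.ker := by rw [MonoidHom.mem_ker, map_pow, hρu, one_pow]
        exact ρ.ker.zpow_mem this i
      have h2 := congrArg (fun φ : AddMonoid.End (Additive V) =>
        ((Additive.toMul (φ (Additive.ofMul ⟨π x, x, hx, rfl⟩)) : V) : G ⧸ Φ)) h1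
      rw [secAction_apply] at h2
      refine (QuotientGroup.eq_one_iff (N := Φ) _).mp ?_
      show π _ = 1
      rw [map_mul, map_mul, map_mul, map_inv, map_inv, mul_inv_eq_one]
      exact h2
  exfalso
  obtain ⟨f, hf, hnat⟩ := Thompson.exists_natural_module hp hpow (ρ.comp K.subtype) htop
    (hquad a ha) (hquad b hb) hcase
  haveI : Fact (Even (Fintype.card (Fin 2))) := ⟨by simp⟩
  obtain ⟨k, hk⟩ := hnat (-1)
  have hneg : ∀ v, ρ k (f v) = f (-v) := fun v => by
    refine (hk v).trans (congrArg f ?_)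
    funext i
    fin_cases i <;> simp [Matrix.mulVec, dotProduct]
  obtain ⟨j, hj⟩ := hodd
  have hk2 : (k : G) = ((k : G) ^ 2) ^ (j + 1) := by
    rw [← pow_mul, show 2 * (j + 1) = Nat.card G + 1 by omega, pow_succ, pow_card_eq_one', one_mul]
  have hfix : ∀ v, ρ ((k : G) ^ 2) (f v) = f v := fun v => by
    rw [map_pow, pow_two]
    show ρ k (ρ k (f v)) = f v
    rw [hneg, hneg, neg_neg]
  have hfix' : ∀ (i : ℕ) v, ρ (((k : G) ^ 2) ^ i) (f v) = f v := by
    intro i
    induction i with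
    | zero => intro v; rw [pow_zero, map_one]; rfl
    | succ i ih => intro v; rw [pow_succ, map_mul]; show ρ _ (ρ _ (f v)) = f v; rw [hfix, ih]
  have h1 := hfix' (j + 1) (fun _ => 1)
  rw [← hk2, hneg] at h1
  have h2 := congrFun (hf h1) 0
  have h3 : (2 : ZMod p) = 0 := by
    have : (-1 : ZMod p) = 1 := h2
    linear_combination -this
  have h4 : ((2 : ℕ) : ZMod p) = 0 := by exact_mod_cast h3
  rw [ZMod.natCast_eq_zero_iff] at h4 <;> exact hp ((Nat.prime_dvd_prime_iff_eq Fact.out Nat.prime_two).mp h4)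

/-- A group of odd order is `p`-stable on each normal `p`-subgroup. -/
theorem stableOnNormal_of_odd [Finite G] {p : ℕ} [Fact p.Prime] (hp : p ≠ 2)
    (hodd : Odd (Nat.card G)) : Thompson.StableOnNormal p G := by
  intro B hBn hB a ha
  have hq : ∀ x ∈ B, Commute a (a * x * a⁻¹ * x⁻¹) := by
    intro x hx
    have h1 : ⁅x, a⁆ ∈ ⁅B, zpowers a⁆ := commutator_mem_commutator hx (mem_zpowers a)
    have h2 : ⁅⁅x, a⁆, a⁆ = 1 := by
      have := commutator_mem_commutator (H₂ := zpowers a) h1 (mem_zpowers a)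
      rwa [ha, mem_bot] at this
    have h3 : Commute ⁅x, a⁆ a := commutatorElement_eq_one_iff_mul_comm.mp h2
    have : a * x * a⁻¹ * x⁻¹ = ⁅x, a⁆⁻¹ := by rw [commutatorElement_inv, commutatorElement_def]
    rw [this]
    exact h3.symm.inv_right
  set π := QuotientGroup.mk' (centralizer (B : Set G)) with hπ
  obtain ⟨N, hN, hNp, haN⟩ := Thompson.baer_suzuki (p := p) (x := π a) (by
    intro gq
    obtain ⟨g, rfl⟩ := QuotientGroup.mk'_surjective _ gq
    have himg : Subgroup.closure ({π a, π g * π a * (π g)⁻¹} : Set (G ⧸ centralizer (B : Set G))) =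
        (Subgroup.closure ({a, g * a * g⁻¹} : Set G)).map π := by
      rw [MonoidHom.map_closure, Set.image_pair, map_mul, map_mul, map_inv]
    rw [himg]
    rintro ⟨_, h, hh, rfl⟩
    have hq' : ∀ x ∈ B, Commute (g * a * g⁻¹) (g * a * g⁻¹ * x * (g * a * g⁻¹)⁻¹ * x⁻¹) := by
      intro x hx
      have := (hq (g⁻¹ * x * g) (by simpa using hBn.conj_mem x hx g⁻¹)).map (MulAut.conj g).toMonoidHom
      simpa [mul_assoc] using this
    obtain ⟨n, hn⟩ := exists_pow_mem_centralizer hp hodd B hB hq hq' hh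
    refine ⟨n, Subtype.ext ?_⟩
    show π h ^ p ^ n = 1
    rw [← map_pow]
    exact (QuotientGroup.eq_one_iff _).mpr hn)
  exact Cores.le_pCore hNp haN

end Cfsg.Agent.H41
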