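import Mathlib.GroupTheory.SpecificGroups.Dihedral
import Mathlib.Algebra.Group.Subgroup.Finite
import Cfsg.Agent.H41.Nilpotent

/-!
An elementary abelian 2-group acting faithfully on a solvable group of odd order:
a self-centralising invariant abelian subgroup, eigenvectors, and commuting dihedral subgroups.
-/

set_option autoImplicit false

namespace Cfsg.Agent.H41

open Subgroup
open scoped commutatorElement

variable {G : Type*} [Group G]

theorem eq_one_of_sq_of_odd {L : Subgroup G} [Finite G] (hodd : Odd (Nat.card L)) {c : G}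
    (hc : c ∈ L) (h : c * c = 1) : c = 1 := by
  have h1 : orderOf c ∣ Nat.card L := by
    rw [← Subgroup.orderOf_mk c hc]; exact orderOf_dvd_natCard _
  have h2 : orderOf c ∣ 2 := orderOf_dvd_of_pow_eq_one (by rw [pow_two, h])
  exact orderOf_eq_one_iff.1 (Nat.eq_one_of_dvd_coprimes (Nat.coprime_two_right.2 hodd) h1 h2)

/-- An involution centralising a normal subgroup `F ≥ C_H(F)` of an odd order group `H`
centralises `H`. -/
theorem involution_centralizes [Finite G] {H F : Subgroup G} (hodd : Odd (Nat.card H))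
    (hnorm : H ≤ normalizer (F : Set G))
    (hCF : H ⊓ centralizer (F : Set G) ≤ F) {a : G} (ha2 : a * a = 1)
    (haH : a ∈ normalizer (H : Set G)) (haF : a ∈ centralizer (F : Set G)) :
    a ∈ centralizer (H : Set G) := by
  rw [mem_centralizer_iff]
  intro l hl
  have hainv : a⁻¹ = a := inv_eq_of_mul_eq_one_left ha2
  set c := a * l * a⁻¹ * l⁻¹ with hc
  have hcH : c ∈ H := H.mul_mem ((mem_normalizer_iff.1 haH l).1 hl) (H.inv_mem hl)
  have hcC : c ∈ centralizer (F : Set G) := by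
    rw [mem_centralizer_iff]
    intro x hx
    have hy : l⁻¹ * x * l ∈ F := by
      have := (mem_normalizer_iff.1 (hnorm (H.inv_mem hl)) x).1 hx
      simpa using this
    have e1 : a * (l⁻¹ * x * l) = (l⁻¹ * x * l) * a := (mem_centralizer_iff.1 haF _ hy).symm
    have e2 : a * x = x * a := (mem_centralizer_iff.1 haF _ hx).symm
    have e3 : c * x = a * l * (a⁻¹ * (l⁻¹ * x * l)) * l⁻¹ := by rw [hc]; group
    have e4 : a⁻¹ * (l⁻¹ * x * l) = (l⁻¹ * x * l) * a⁻¹ := by
      rw [hainv]; exact e1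
    rw [e3, e4]
    calc x * c = (x * a) * l * a⁻¹ * l⁻¹ := by rw [hc]; group
      _ = (a * x) * l * a⁻¹ * l⁻¹ := by rw [e2]
      _ = a * l * ((l⁻¹ * x * l) * a⁻¹) * l⁻¹ := by group
  have hcF : c ∈ F := hCF ⟨hcH, hcC⟩
  have e5 : a * c = c * a := (mem_centralizer_iff.1 haF _ hcF).symm
  have e6 : a * l * a⁻¹ = c * l := by rw [hc]; group
  have e7 : l = c * (c * l) := by
    calc l = (a * a) * l * (a * a)⁻¹ := by rw [ha2]; group
      _ = a * (a * l * a⁻¹) * a⁻¹ := by group
      _ = a * (c * l) * a⁻¹ := by rw [e6]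
      _ = (a * c) * l * a⁻¹ := by group
      _ = c * (a * l * a⁻¹) := by rw [e5]; group
      _ = c * (c * l) := by rw [e6]
  have hc1 : c = 1 := eq_one_of_sq_of_odd hodd hcH (by
    have : c * c * l = 1 * l := by rw [one_mul, mul_assoc]; exact e7.symm
    exact mul_right_cancel this)
  rw [hc1, one_mul] at e6
  calc l * a = (a * l * a⁻¹) * a := by rw [e6]
    _ = a * l := by group

/-- Simultaneous eigenvectors. -/
theorem exists_eigen {Q : Type*} [Group Q] (D : Subgroup Q)
    (hD : ∀ x ∈ D, ∀ y ∈ D, x * y = y * x) (s : Finset Q)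
    (hs2 : ∀ a ∈ s, a * a = 1) (hsc : ∀ a ∈ s, ∀ b ∈ s, a * b = b * a)
    (hsD : ∀ a ∈ s, ∀ x ∈ D, a * x * a⁻¹ ∈ D) (hne : D ≠ ⊥) :
    ∃ x ∈ D, x ≠ 1 ∧ ∀ a ∈ s, a * x * a⁻¹ = x ∨ a * x * a⁻¹ = x⁻¹ := by
  classical
  revert hs2 hsc hsD
  induction s using Finset.induction with
  | empty =>
    intro _ _ _
    obtain ⟨x, hx, hx1⟩ := exists_ne_one hne
    exact ⟨x, hx, hx1, by simp⟩
  | @insert a s _ ih =>
    intro hs2 hsc hsD
    obtain ⟨x, hx, hx1, hxs⟩ := ih (fun b hb => hs2 b (Finset.mem_insert_of_mem hb))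
      (fun b hb c hc => hsc b (Finset.mem_insert_of_mem hb) c (Finset.mem_insert_of_mem hc))
      (fun b hb => hsD b (Finset.mem_insert_of_mem hb))
    set y := a * x * a⁻¹ with hy
    have ha := Finset.mem_insert_self a s
    have hyD : y ∈ D := hsD a ha x hx
    by_cases hxy : x * y = 1
    · refine ⟨x, hx, hx1, fun b hb => ?_⟩
      rcases Finset.mem_insert.1 hb with rfl | hb
      · exact Or.inr (eq_inv_of_mul_eq_one_right hxy)
      · exact hxs b hb
    · refine ⟨x * y, D.mul_mem hx hyD, hxy, fun b hb => ?_⟩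
      rcases Finset.mem_insert.1 hb with rfl | hb
      · left
        have e : b * y * b⁻¹ = x := by
          rw [hy]
          calc b * (b * x * b⁻¹) * b⁻¹ = (b * b) * x * (b * b)⁻¹ := by group
            _ = x := by rw [hs2 b ha]; group
        calc b * (x * y) * b⁻¹ = (b * x * b⁻¹) * (b * y * b⁻¹) := by group
          _ = y * x := by rw [← hy, e]
          _ = x * y := hD y hyD x hx
      · have e : b * y * b⁻¹ = a * (b * x * b⁻¹) * a⁻¹ := by
          have hc := hsc b (Finset.mem_insert_of_mem hb) a ha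
          calc b * y * b⁻¹ = (b * a) * x * (b * a)⁻¹ := by rw [hy]; group
            _ = (a * b) * x * (a * b)⁻¹ := by rw [hc]
            _ = _ := by group
        have e' : b * (x * y) * b⁻¹ = (b * x * b⁻¹) * (b * y * b⁻¹) := by group
        rcases hxs b hb with h | h
        · left; rw [e', e, h]
        · right
          rw [e', e, h]
          have hc := hD _ (D.inv_mem hx) _ (D.inv_mem hyD)
          rw [show a * x⁻¹ * a⁻¹ = y⁻¹ by rw [hy]; group, hc]
          exact (mul_inv_rev x y).symm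

theorem map_conj_eq_iff {F : Subgroup G} {g : G} :
    g ∈ normalizer (F : Set G) ↔ F.map (MulAut.conj g).toMonoidHom = F :=
  Subgroup.mem_normalizer_iff_map_conj_eq

/-- A self-centralising normal abelian subgroup of a nilpotent subgroup of odd order, invariant
under a group of commuting involutions. -/
theorem exists_abelian_selfCentralizing [Finite G] {F A : Subgroup G} (hF : Group.IsNilpotent F)
    (hA : A ≤ normalizer (F : Set G)) (hA2 : ∀ a ∈ A, a * a = 1) :
    ∃ V : Subgroup G, V ≤ F ∧ (∀ x ∈ V, ∀ y ∈ V, x * y = y * x) ∧ F ≤ normalizer (V : Set G) ∧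
      A ≤ normalizer (V : Set G) ∧ F ⊓ centralizer (V : Set G) = V := by
  classical
  set S := {V : Subgroup G | V ≤ F ∧ (∀ x ∈ V, ∀ y ∈ V, x * y = y * x) ∧
    F ≤ normalizer (V : Set G) ∧ A ≤ normalizer (V : Set G)} with hS
  have hne : (⊥ : Subgroup G) ∈ S := by
    refine ⟨bot_le, ?_, ?_, ?_⟩
    · intro x hx y hy; rw [mem_bot] at hx hy; simp [hx, hy]
    · exact le_top.trans (normalizer_eq_top (H := (⊥ : Subgroup G))).ge
    · exact le_top.trans (normalizer_eq_top (H := (⊥ : Subgroup G))).ge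
  obtain ⟨V, hV⟩ := (Set.toFinite S).exists_maximal ⟨⊥, hne⟩
  obtain ⟨⟨hVF, hVc, hFV, hAV⟩, hmax⟩ := hV
  refine ⟨V, hVF, hVc, hFV, hAV, ?_⟩
  set C := F ⊓ centralizer (V : Set G) with hC
  have hVC : V ≤ C := le_inf hVF (fun x hx => mem_centralizer_iff.2 fun y hy => hVc y hy x hx)
  refine le_antisymm ?_ hVC
  by_contra hnle
  have hnormC : ∀ g ∈ normalizer (F : Set G), g ∈ normalizer (V : Set G) →
      C.map (MulAut.conj g).toMonoidHom = C := by
    intro g hg hg'
    rw [hC, Subgroup.map_inf _ _ _ (MulAut.conj g).injective]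
    congr 1
    · exact map_conj_eq_iff.1 hg
    · refine map_conj_eq_iff.1 ?_
      rw [mem_normalizer_iff]
      have key : ∀ k ∈ normalizer (V : Set G), ∀ h ∈ centralizer (V : Set G),
          k * h * k⁻¹ ∈ centralizer (V : Set G) := by
        intro k hk h hh
        rw [mem_centralizer_iff] at hh ⊢
        intro v hv
        have hv' := hh _ ((mem_normalizer_iff''.1 hk v).1 hv)
        calc v * (k * h * k⁻¹) = k * ((k⁻¹ * v * k) * h) * k⁻¹ := by group
          _ = k * (h * (k⁻¹ * v * k)) * k⁻¹ := by rw [hv']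
          _ = k * h * k⁻¹ * v := by group
      intro h
      refine ⟨key g hg' h, fun hh => ?_⟩
      have := key g⁻¹ (inv_mem hg') _ hh
      rwa [show g⁻¹ * (g * h * g⁻¹) * g⁻¹⁻¹ = h by group] at this
  set P := {D : Subgroup G | D ≤ C ∧ F ≤ normalizer (D : Set G) ∧ A ≤ normalizer (D : Set G) ∧
    ¬ D ≤ V} with hP
  have hCP : C ∈ P := ⟨le_rfl, fun g hg => map_conj_eq_iff.2 (hnormC g (le_normalizer hg) (hFV hg)),
    fun g hg => map_conj_eq_iff.2 (hnormC g (hA hg) (hAV hg)), hnle⟩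
  obtain ⟨D, hD⟩ := (Set.toFinite P).exists_minimal ⟨C, hCP⟩
  obtain ⟨⟨hDC, hFD, hAD, hDV⟩, hmin⟩ := hD
  have hDF : D ≤ F := hDC.trans inf_le_left
  have hcomm : ⁅D, F⁆ ≤ V := by
    by_contra hnot
    have hle : ⁅D, F⁆ ≤ D := le_normalizer_iff_commutator_le_left.1 hFD
    have hmem : ⁅D, F⁆ ∈ P := by
      have key : ∀ g, g ∈ normalizer (D : Set G) → g ∈ normalizer (F : Set G) →
          g ∈ normalizer ((⁅D, F⁆ : Subgroup G) : Set G) := by
        intro g h1 h2
        rw [map_conj_eq_iff, map_commutator, map_conj_eq_iff.1 h1, map_conj_eq_iff.1 h2]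
      exact ⟨hle.trans hDC, fun g hg => key g (hFD hg) (le_normalizer hg),
        fun g hg => key g (hAD hg) (hA hg), hnot⟩
    have heq : ⁅D, F⁆ = D := le_antisymm hle (hmin hmem hle)
    obtain ⟨n, hn⟩ := (isNilpotent_iff_lowerCentralSeries F).1 hF
    have hall : ∀ k, D ≤ F.lowerCentralSeries k := by
      intro k
      induction k with
      | zero => exact hDF
      | succ k ih =>
        rw [Subgroup.lowerCentralSeries_succ, ← heq]
        exact commutator_mono ih le_rfl
    exact hDV ((hn ▸ hall n).trans bot_le)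
  -- an eigenvector of `A` in `D` modulo `V`
  set N := normalizer (V : Set G) with hN
  haveI : (V.subgroupOf N).Normal := Subgroup.normal_in_normalizer
  let φ := QuotientGroup.mk' (V.subgroupOf N)
  have hφ : ∀ n : N, φ n = 1 ↔ (n : G) ∈ V := fun n => by
    rw [QuotientGroup.mk'_apply, QuotientGroup.eq_one_iff, mem_subgroupOf]
  have hDN : D ≤ N := hDF.trans hFV
  have hD' : ∀ x ∈ (D.subgroupOf N).map φ, ∀ y ∈ (D.subgroupOf N).map φ, x * y = y * x := by
    rintro _ ⟨x, hx, rfl⟩ _ ⟨y, hy, rfl⟩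
    rw [← commutatorElement_eq_one_iff_mul_comm, ← map_commutatorElement, hφ]
    have h := hcomm (commutator_mem_commutator hx (hDF hy))
    rwa [show ((⁅x, y⁆ : N) : G) = ⁅(x : G), (y : G)⁆ from map_commutatorElement N.subtype x y]
  have hne' : (D.subgroupOf N).map φ ≠ ⊥ := by
    intro h
    apply hDV
    intro d hd
    exact (hφ ⟨d, hDN hd⟩).1 (by rw [← mem_bot, ← h]; exact ⟨⟨d, hDN hd⟩, hd, rfl⟩)
  haveI : Fintype A := Fintype.ofFinite A
  have hAN : A ≤ N := hAV
  obtain ⟨x', hx', hx'1, hxe⟩ := exists_eigen _ hD'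
    (Finset.image (fun a : A => φ ⟨(a : G), hAN a.2⟩) Finset.univ)
    (by
      simp only [Finset.mem_image, Finset.mem_univ, true_and]
      rintro _ ⟨a, rfl⟩
      rw [← map_mul, hφ]
      change (a : G) * a ∈ V
      rw [hA2 _ a.2]
      exact V.one_mem)
    (by
      simp only [Finset.mem_image, Finset.mem_univ, true_and]
      rintro _ ⟨a, rfl⟩ _ ⟨b, rfl⟩
      rw [← map_mul, ← map_mul]
      congr 1
      refine Subtype.ext ?_
      have hab : ((a : G) * b) * (a * b) = 1 := hA2 _ (A.mul_mem a.2 b.2)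
      calc (a : G) * b = ((a : G) * b)⁻¹ := (inv_eq_of_mul_eq_one_left hab).symm
        _ = (b : G)⁻¹ * (a : G)⁻¹ := mul_inv_rev _ _
        _ = (b : G) * a := by
          rw [inv_eq_of_mul_eq_one_left (hA2 _ a.2), inv_eq_of_mul_eq_one_left (hA2 _ b.2)])
    (by
      simp only [Finset.mem_image, Finset.mem_univ, true_and]
      rintro _ ⟨a, rfl⟩ _ ⟨d, hd, rfl⟩
      rw [← map_inv, ← map_mul, ← map_mul]
      exact ⟨_, (mem_normalizer_iff.1 (hAD a.2) _).1 hd, rfl⟩)
    hne'
  obtain ⟨x, hx, rfl⟩ := hx'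
  have hxC : (x : G) ∈ C := hDC hx
  set W := V ⊔ zpowers (x : G) with hW
  have hWS : W ∈ S := by
    have hWC : W ≤ C := sup_le hVC (zpowers_le.2 hxC)
    refine ⟨hWC.trans inf_le_left, ?_, ?_, ?_⟩
    · have h1 : W ≤ centralizer (W : Set G) := by
        rw [hW, sup_eq_closure, centralizer_closure, ← sup_eq_closure]
        refine sup_le ?_ (zpowers_le.2 ?_)
        · intro v hv
          rw [mem_centralizer_iff]
          rintro y (hy | hy)
          · exact hVc y hy v hv
          · obtain ⟨k, rfl⟩ := mem_zpowers_iff.1 hy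
            have h2 : Commute v (x : G) := mem_centralizer_iff.1 hxC.2 v hv
            exact (h2.zpow_right k).eq.symm
        · rw [mem_centralizer_iff]
          rintro y (hy | hy)
          · exact mem_centralizer_iff.1 hxC.2 y hy
          · obtain ⟨k, rfl⟩ := mem_zpowers_iff.1 hy
            exact ((Commute.refl (x : G)).zpow_left k).eq
      exact fun a ha b hb => mem_centralizer_iff.1 (h1 hb) a ha
    · intro g hg
      rw [map_conj_eq_iff]
      refine eq_of_le_of_card_ge ?_ (Cores.card_map_eq _ (MulAut.conj g).injective).ge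
      rw [hW, Subgroup.map_sup, sup_le_iff, MonoidHom.map_zpowers, zpowers_le]
      refine ⟨le_sup_of_le_left (map_conj_eq_iff.1 (hFV hg)).le, ?_⟩
      have h2 : g * (x : G) * g⁻¹ * (x : G)⁻¹ ∈ V := by
        have h3 := hcomm (commutator_mem_commutator hx hg)
        rw [show g * (x : G) * g⁻¹ * (x : G)⁻¹ = (⁅(x : G), g⁆)⁻¹ by
          rw [commutatorElement_def]; group]
        exact V.inv_mem h3
      have := mul_mem_sup h2 (mem_zpowers (x : G))
      simpa [MulAut.conj_apply] using this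
    · intro g hg
      rw [map_conj_eq_iff]
      refine eq_of_le_of_card_ge ?_ (Cores.card_map_eq _ (MulAut.conj g).injective).ge
      rw [hW, Subgroup.map_sup, sup_le_iff, MonoidHom.map_zpowers, zpowers_le]
      refine ⟨le_sup_of_le_left (map_conj_eq_iff.1 (hAV hg)).le, ?_⟩
      have hg' := hxe (φ ⟨g, hAN hg⟩) (Finset.mem_image.2 ⟨⟨g, hg⟩, Finset.mem_univ _, rfl⟩)
      rw [← map_inv, ← map_mul, ← map_mul, ← map_inv] at hg'
      rcases hg' with h | h
      · have h4 := (hφ _).1 (show φ (⟨g, hAN hg⟩ * x * ⟨g, hAN hg⟩⁻¹ * x⁻¹) = 1 by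
          rw [map_mul, h, ← map_mul, mul_inv_cancel, map_one])
        have := mul_mem_sup h4 (mem_zpowers (x : G))
        simpa [MulAut.conj_apply] using this
      · have h4 := (hφ _).1 (show φ (⟨g, hAN hg⟩ * x * ⟨g, hAN hg⟩⁻¹ * x) = 1 by
          rw [map_mul, h, ← map_mul, inv_mul_cancel, map_one])
        have := mul_mem_sup h4 (inv_mem (mem_zpowers (x : G)))
        simpa [MulAut.conj_apply] using this
  have hWV : W ≤ V := hmax hWS le_sup_left
  exact hx'1 ((hφ x).2 (hWV (mem_sup_right (mem_zpowers _))))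

/-- The fixed-or-inverted elements of `V`. -/
def eigenSet (A V : Subgroup G) : Set G :=
  {x | x ∈ V ∧ ∀ a ∈ A, a * x * a⁻¹ = x ∨ a * x * a⁻¹ = x⁻¹}

theorem eigenSet_faithful [Finite G] {A V : Subgroup G} (hodd : Odd (Nat.card V))
    (hVc : ∀ x ∈ V, ∀ y ∈ V, x * y = y * x) (hA2 : ∀ a ∈ A, a * a = 1)
    (hAc : ∀ a ∈ A, ∀ b ∈ A, a * b = b * a) (hAV : A ≤ normalizer (V : Set G))
    (hf : A ⊓ centralizer (V : Set G) = ⊥) {a : G} (ha : a ∈ A) (ha1 : a ≠ 1) :
    ∃ x ∈ eigenSet A V, a * x * a⁻¹ ≠ x := by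
  classical
  have hn : ∃ v ∈ V, a * v * a⁻¹ ≠ v := by
    by_contra hcon
    push Not at hcon
    apply ha1
    have : a ∈ A ⊓ centralizer (V : Set G) := ⟨ha, mem_centralizer_iff.2 fun v hv => by
      calc v * a = (a * v * a⁻¹) * a := by rw [hcon v hv]
        _ = a * v := by group⟩
    rwa [hf, mem_bot] at this
  obtain ⟨v, hv, hva⟩ := hn
  have hconjV : ∀ b ∈ A, ∀ y ∈ V, b * y * b⁻¹ ∈ V := fun b hb y hy =>
    (mem_normalizer_iff.1 (hAV hb) y).1 hy
  let D : Subgroup G :=
    { carrier := {y | y ∈ V ∧ a * y * a⁻¹ = y⁻¹}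
      one_mem' := ⟨V.one_mem, by group⟩
      mul_mem' := by
        rintro x y ⟨hx, hx'⟩ ⟨hy, hy'⟩
        refine ⟨V.mul_mem hx hy, ?_⟩
        rw [show a * (x * y) * a⁻¹ = (a * x * a⁻¹) * (a * y * a⁻¹) by group, hx', hy',
          hVc _ (V.inv_mem hx) _ (V.inv_mem hy), mul_inv_rev]
      inv_mem' := by
        rintro x ⟨hx, hx'⟩
        refine ⟨V.inv_mem hx, ?_⟩
        rw [show a * x⁻¹ * a⁻¹ = (a * x * a⁻¹)⁻¹ by group, hx'] }
  haveI : Fintype A := Fintype.ofFinite A
  obtain ⟨x, hx, hx1, hxe⟩ := exists_eigen D (fun x hx y hy => hVc x hx.1 y hy.1)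
    (Finset.image (fun b : A => (b : G)) Finset.univ)
    (by
      simp only [Finset.mem_image, Finset.mem_univ, true_and]
      rintro _ ⟨b, rfl⟩
      exact hA2 _ b.2)
    (by
      simp only [Finset.mem_image, Finset.mem_univ, true_and]
      rintro _ ⟨b, rfl⟩ _ ⟨c, rfl⟩
      exact hAc _ b.2 _ c.2)
    (by
      simp only [Finset.mem_image, Finset.mem_univ, true_and]
      rintro _ ⟨b, rfl⟩ y ⟨hy, hy'⟩
      refine ⟨hconjV _ b.2 y hy, ?_⟩
      calc a * ((b : G) * y * (b : G)⁻¹) * a⁻¹ = (a * b) * y * (a * b)⁻¹ := by group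
        _ = ((b : G) * a) * y * ((b : G) * a)⁻¹ := by rw [hAc a ha _ b.2]
        _ = (b : G) * (a * y * a⁻¹) * (b : G)⁻¹ := by group
        _ = ((b : G) * y * (b : G)⁻¹)⁻¹ := by rw [hy']; group)
    (by
      intro hbot
      apply hva
      have hy : v⁻¹ * (a * v * a⁻¹) ∈ D := by
        refine ⟨V.mul_mem (V.inv_mem hv) (hconjV a ha v hv), ?_⟩
        calc a * (v⁻¹ * (a * v * a⁻¹)) * a⁻¹ = (a * v * a⁻¹)⁻¹ * ((a * a) * v * (a * a)⁻¹) := by
              group
          _ = (a * v * a⁻¹)⁻¹ * v := by rw [hA2 a ha]; group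
          _ = (v⁻¹ * (a * v * a⁻¹))⁻¹ := by group
      rw [hbot, mem_bot, inv_mul_eq_one] at hy
      exact hy.symm)
  refine ⟨x, ⟨hx.1, fun b hb => hxe b (Finset.mem_image.2 ⟨⟨b, hb⟩, Finset.mem_univ _, rfl⟩)⟩, ?_⟩
  intro hfix
  rw [hx.2] at hfix
  exact hx1 (eq_one_of_sq_of_odd hodd hx.1 (by
    nth_rewrite 1 [← hfix]; exact inv_mul_cancel x))

/-- Dual bases: involutions generating `B` and eigenvectors, each inverted by exactly one. -/
theorem exists_dual_basis [Finite G] {A : Subgroup G} (hA2 : ∀ a ∈ A, a * a = 1)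
    (hAc : ∀ a ∈ A, ∀ b ∈ A, a * b = b * a) (E : Set G)
    (hE : ∀ x ∈ E, ∀ a ∈ A, a * x * a⁻¹ = x ∨ a * x * a⁻¹ = x⁻¹)
    (hEf : ∀ a ∈ A, a ≠ 1 → ∃ x ∈ E, a * x * a⁻¹ ≠ x) :
    ∀ (k : ℕ) (B : Subgroup G), B ≤ A → Nat.card B ≤ k →
      ∃ (n : ℕ) (a x : Fin n → G), Nat.card B = 2 ^ n ∧ (⨆ i, zpowers (a i)) = B ∧
        (∀ i, a i ∈ B ∧ x i ∈ E ∧ a i * x i * (a i)⁻¹ = (x i)⁻¹ ∧ a i * x i * (a i)⁻¹ ≠ x i) ∧
        ∀ i j, i ≠ j → a i * x j * (a i)⁻¹ = x j := by
  classical
  intro k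
  induction k with
  | zero =>
    intro B _ h
    exact absurd h (by have : 0 < Nat.card B := Nat.card_pos; omega)
  | succ k ih =>
    intro B hBA hcard
    by_cases hB : B = ⊥
    · refine ⟨0, Fin.elim0, Fin.elim0, ?_, ?_, fun i => i.elim0, fun i => i.elim0⟩
      · rw [hB, Subgroup.card_bot, pow_zero]
      · rw [hB, iSup_of_empty]
    obtain ⟨b, hb, hb1⟩ := exists_ne_one hB
    obtain ⟨x₀, hx₀, hbx⟩ := hEf b (hBA hb) hb1
    have hbinv : b * x₀ * b⁻¹ = x₀⁻¹ := (hE x₀ hx₀ b (hBA hb)).resolve_left hbx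
    let B' : Subgroup G := B ⊓ centralizer ({x₀} : Set G)
    have hmemB' : ∀ c, c ∈ B' ↔ c ∈ B ∧ c * x₀ * c⁻¹ = x₀ := fun c => by
      refine and_congr_right fun _ => ?_
      change c ∈ centralizer ({x₀} : Set G) ↔ _
      rw [mem_centralizer_singleton_iff, mul_inv_eq_iff_eq_mul]
    have hbB' : b ∉ B' := fun h => hbx ((hmemB' b).1 h).2
    have hlt : Nat.card B' < Nat.card B := by
      refine lt_of_le_of_ne (Nat.le_of_dvd Nat.card_pos (card_dvd_of_le inf_le_left)) fun h => ?_
      exact hbB' ((eq_of_le_of_card_ge (inf_le_left : B' ≤ B) h.ge).ge hb)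
    obtain ⟨n, a, x, hcn, hsup, hax, hoff⟩ :=
      ih B' (inf_le_left.trans hBA) (by omega)
    -- products of the `a i` with prescribed action
    have hprod : ∀ s : Finset (Fin n), ∃ c ∈ B',
        ∀ i, (i ∈ s → c * x i * c⁻¹ = (x i)⁻¹) ∧ (i ∉ s → c * x i * c⁻¹ = x i) := by
      intro s
      induction s using Finset.induction with
      | empty => exact ⟨1, one_mem _, fun i => ⟨fun h => absurd h (Finset.notMem_empty i),
          fun _ => by group⟩⟩
      | @insert j s hj ihs =>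
        obtain ⟨c, hc, hcs⟩ := ihs
        refine ⟨a j * c, B'.mul_mem (hax j).1 hc, fun i => ?_⟩
        have e : (a j * c) * x i * (a j * c)⁻¹ = a j * (c * x i * c⁻¹) * (a j)⁻¹ := by group
        rw [e]
        constructor
        · intro h
          rcases Finset.mem_insert.1 h with rfl | h
          · rw [(hcs i).2 hj, (hax i).2.2.1]
          · rw [(hcs i).1 h, show a j * (x i)⁻¹ * (a j)⁻¹ = (a j * x i * (a j)⁻¹)⁻¹ by group,
              hoff j i (fun hji => hj (hji ▸ h))]
        · intro h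
          rw [Finset.mem_insert, not_or] at h
          rw [(hcs i).2 h.2, hoff j i (fun hji => h.1 hji.symm)]
    obtain ⟨c, hc, hcs⟩ := hprod (Finset.univ.filter fun i => b * x i * b⁻¹ ≠ x i)
    set b₀ := b * c with hb₀
    have hcB : c ∈ B := hc.1
    have hb₀B : b₀ ∈ B := B.mul_mem hb hcB
    have hb₀x₀ : b₀ * x₀ * b₀⁻¹ = x₀⁻¹ := by
      rw [hb₀, show b * c * x₀ * (b * c)⁻¹ = b * (c * x₀ * c⁻¹) * b⁻¹ by group,
        ((hmemB' c).1 hc).2, hbinv]
    have hb₀ne : b₀ * x₀ * b₀⁻¹ ≠ x₀ := by rw [hb₀x₀, ← hbinv]; exact hbx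
    have hb₀xi : ∀ i, b₀ * x i * b₀⁻¹ = x i := by
      intro i
      rw [hb₀, show b * c * x i * (b * c)⁻¹ = b * (c * x i * c⁻¹) * b⁻¹ by group]
      by_cases h : b * x i * b⁻¹ = x i
      · rw [(hcs i).2 (by simp [h]), h]
      · rw [(hcs i).1 (by simp [h]), show b * (x i)⁻¹ * b⁻¹ = (b * x i * b⁻¹)⁻¹ by group,
          (hE _ (hax i).2.1 b (hBA hb)).resolve_left h, inv_inv]
    have hb₀1 : b₀ ≠ 1 := fun h => hb₀ne (by rw [h]; group)
    have ho : orderOf b₀ = 2 := by
      haveI := Fact.mk Nat.prime_two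
      exact orderOf_eq_prime (by rw [pow_two]; exact hA2 _ (hBA hb₀B)) hb₀1
    have hcompl : Cfsg.IsComplIn (zpowers b₀) B' B := by
      refine ⟨zpowers_le.2 hb₀B, inf_le_left, ?_, ?_⟩
      · rw [eq_bot_iff]
        rintro y ⟨hy, hy'⟩
        obtain ⟨j, rfl⟩ := mem_zpowers_iff.1 hy
        rw [mem_bot]
        rcases Int.even_or_odd j with ⟨m, rfl⟩ | ⟨m, rfl⟩
        · rw [zpow_add, ← Commute.mul_zpow (Commute.refl _), hA2 _ (hBA hb₀B), one_zpow]
        · exfalso
          rw [zpow_add, zpow_mul, zpow_one, show b₀ ^ (2 : ℤ) = 1 by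
            rw [zpow_two]; exact hA2 _ (hBA hb₀B), one_zpow, one_mul] at hy'
          exact hb₀ne ((hmemB' b₀).1 hy').2
      · intro m hm
        by_cases h : m * x₀ * m⁻¹ = x₀
        · exact ⟨1, one_mem _, m, (hmemB' m).2 ⟨hm, h⟩, (one_mul m).symm⟩
        · refine ⟨b₀, mem_zpowers _, b₀ * m, (hmemB' _).2 ⟨B.mul_mem hb₀B hm, ?_⟩, ?_⟩
          · rw [show b₀ * m * x₀ * (b₀ * m)⁻¹ = b₀ * (m * x₀ * m⁻¹) * b₀⁻¹ by group,
              (hE x₀ hx₀ m (hBA hm)).resolve_left h,
              show b₀ * x₀⁻¹ * b₀⁻¹ = (b₀ * x₀ * b₀⁻¹)⁻¹ by group, hb₀x₀, inv_inv]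
          · rw [← mul_assoc, hA2 _ (hBA hb₀B), one_mul]
    refine ⟨n + 1, Fin.cons b₀ a, Fin.cons x₀ x, ?_, ?_, ?_, ?_⟩
    · rw [IsComplIn.card_eq hcompl, Nat.card_zpowers, ho, hcn, pow_succ']
    · apply le_antisymm
      · refine iSup_le fun i => ?_
        induction i using Fin.cases with
        | zero => simpa using hb₀B
        | succ j => simpa using (hax j).1.1
      · intro m hm
        obtain ⟨p, hp, q, hq, rfl⟩ := hcompl.2.2.2 m hm
        refine mul_mem ?_ ?_
        · exact le_iSup (fun i => zpowers ((Fin.cons b₀ a : Fin (n + 1) → G) i)) 0 (by simpa using hp)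
        · rw [← hsup] at hq
          refine (iSup_le fun i => ?_ : (⨆ i, zpowers (a i)) ≤ _) hq
          exact le_iSup_of_le i.succ (by simp)
    · intro i
      induction i using Fin.cases with
      | zero => exact ⟨by simpa using hb₀B, by simpa using hx₀, by simpa using hb₀x₀, by simpa using hb₀ne⟩
      | succ j =>
        obtain ⟨h1, h2, h3, h4⟩ := hax j
        exact ⟨by simpa using h1.1, by simpa using h2, by simpa using h3, by simpa using h4⟩
    · intro i j hij
      induction i using Fin.cases with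
      | zero =>
        induction j using Fin.cases with
        | zero => exact absurd rfl hij
        | succ j => simpa using hb₀xi j
      | succ i =>
        induction j using Fin.cases with
        | zero => simpa using ((hmemB' _).1 (hax i).1).2
        | succ j => simpa using hoff i j (fun h => hij (h ▸ rfl))

/-- `⟨a, x⟩` is dihedral when the involution `a` inverts `x`. -/
theorem nonempty_dihedral_equiv [Finite G] {a x : G} (ha : a * a = 1)
    (hinv : a * x * a⁻¹ = x⁻¹) (hodd : Odd (orderOf x)) (hx : x ≠ 1) :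
    Nonempty ((zpowers a ⊔ zpowers x : Subgroup G) ≃* DihedralGroup (orderOf x)) := by
  set n := orderOf x with hn
  haveI : NeZero n := ⟨(orderOf_pos x).ne'⟩
  have hainv : a⁻¹ = a := inv_eq_of_mul_eq_one_left ha
  have hpow : ∀ i : ℤ, x ^ i * a = a * x ^ (-i) := by
    intro i
    have h1 : a * x ^ i * a⁻¹ = x ^ (-i) := by rw [← conj_zpow, hinv, inv_zpow']
    rw [← h1, hainv]
    calc x ^ i * a = (a * a) * x ^ i * a := by rw [ha, one_mul]
      _ = a * (a * x ^ i * a) := by group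
  let e : ZMod n → G := fun i => x ^ (i.val : ℤ)
  have he : ∀ (i : ZMod n) (k : ℤ), (k : ZMod n) = i → e i = x ^ k := by
    intro i k hk
    rw [zpow_eq_zpow_iff_modEq, ← hn, ← ZMod.intCast_eq_intCast_iff, hk, Int.cast_natCast,
      ZMod.natCast_zmod_val]
  let f₀ : DihedralGroup n → G
    | .r i => e i
    | .sr i => a * e i
  have hf : ∀ p q, f₀ (p * q) = f₀ p * f₀ q := by
    rintro (i | i) (j | j)
    · change e (i + j) = e i * e j
      rw [← zpow_add, he _ ((i.val : ℤ) + j.val) (by simp)]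
    · change a * e (j - i) = e i * (a * e j)
      rw [← mul_assoc, hpow, mul_assoc, ← zpow_add,
        he _ (-(i.val : ℤ) + j.val) (by simp; ring)]
    · change a * e (i + j) = a * e i * e j
      rw [mul_assoc, ← zpow_add, he _ ((i.val : ℤ) + j.val) (by simp)]
    · change e (j - i) = a * e i * (a * e j)
      rw [show a * e i * (a * e j) = a * (e i * a) * e j by group]
      rw [hpow, ← mul_assoc, ha, one_mul, ← zpow_add,
        he _ (-(i.val : ℤ) + j.val) (by simp; ring)]
  let f : DihedralGroup n →* G := MonoidHom.mk' f₀ hf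
  have hne : x⁻¹ ≠ x := fun h => by
    have h2 : orderOf x ∣ 2 :=
      orderOf_dvd_of_pow_eq_one (by rw [pow_two]; nth_rewrite 1 [← h]; exact inv_mul_cancel x)
    exact hx (orderOf_eq_one_iff.1 (Nat.eq_one_of_dvd_coprimes (Nat.coprime_two_right.2 hodd) dvd_rfl h2))
  have hinj : Function.Injective f := by
    rw [injective_iff_map_eq_one]
    rintro (i | i) h
    · change x ^ (i.val : ℤ) = 1 at h
      rw [zpow_natCast, pow_eq_one_iff_modEq, ← hn] at h
      rw [DihedralGroup.one_def]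
      congr 1
      rw [← ZMod.natCast_zmod_val i, ← Nat.cast_zero]
      exact (ZMod.natCast_eq_natCast_iff _ _ _).2 h
    · exfalso
      change a * x ^ (i.val : ℤ) = 1 at h
      apply hne
      have ha' : a = x ^ (-(i.val : ℤ)) := by rw [zpow_neg]; exact eq_inv_of_mul_eq_one_left h
      rw [← hinv, ha', ← zpow_neg, neg_neg, ← zpow_add_one, ← zpow_add,
        show -(i.val : ℤ) + 1 + i.val = 1 by ring, zpow_one]
  have hrange : f.range = zpowers a ⊔ zpowers x := by
    apply le_antisymm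
    · rintro _ ⟨(i | i), rfl⟩
      · exact mem_sup_right (zpow_mem (mem_zpowers x) _)
      · exact mul_mem (mem_sup_left (mem_zpowers a)) (mem_sup_right (zpow_mem (mem_zpowers x) _))
    · refine sup_le (zpowers_le.2 ⟨.sr 0, ?_⟩) (zpowers_le.2 ⟨.r 1, ?_⟩)
      · change a * e 0 = a
        rw [he 0 0 (by simp), zpow_zero, mul_one]
      · change e 1 = x
        rw [he 1 1 (by simp), zpow_one]
  exact ⟨((MonoidHom.ofInjective hinj).trans (MulEquiv.subgroupCongr hrange)).symm⟩

end Cfsg.Agent.H41
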