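import Cfsg.Prelude.Def_Balance
import Cfsg.Agent.Cores.PCore
import Cfsg.Agent.H41.Basic
import Mathlib.GroupTheory.Subgroup.Simple

/-!
Conjugation invariance of `p`-components and of the local cores in `extendedTwoLayer`.
-/

set_option autoImplicit false

namespace Cfsg.Agent.H41

open Subgroup

variable {G : Type*} [Group G]

theorem isQuasisimple_congr {A B : Type*} [Group A] [Group B] (e : A ≃* B)
    (h : Cfsg.IsQuasisimple A) : Cfsg.IsQuasisimple B := by
  obtain ⟨h1, h2⟩ := h
  have hmap : (center A).map e.toMonoidHom = center B := by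
    ext x
    rw [Subgroup.mem_map_equiv, Subgroup.mem_center_iff, Subgroup.mem_center_iff]
    refine ⟨fun h g => ?_, fun h g => ?_⟩
    · simpa using congrArg e (h (e.symm g))
    · simpa using congrArg e.symm (h (e g))
  refine ⟨?_, ?_⟩
  · haveI := h1
    exact Group.IsPerfect.ofSurjective (f := e.toMonoidHom) e.surjective
  · exact (QuotientGroup.congr _ _ e hmap).symm.isSimpleGroup_congr.2 h2

theorem map_mulEquiv_pPrimeCore_mk (p : ℕ) (e : G ≃* G) (K : Subgroup G) :
    (K.map e.toMonoidHom).map (QuotientGroup.mk' (pPrimeCore p G)) =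
      (K.map (QuotientGroup.mk' (pPrimeCore p G))).map
        (QuotientGroup.congr (pPrimeCore p G) (pPrimeCore p G) e
          (Cores.pPrimeCore_map_mulEquiv e)).toMonoidHom := by
  rw [Subgroup.map_map, Subgroup.map_map]
  congr 1

theorem isPComponent_map_equiv {p : ℕ} (e : G ≃* G) {K : Subgroup G}
    (hK : Cfsg.IsPComponent p K) : Cfsg.IsPComponent p (K.map e.toMonoidHom) := by
  obtain ⟨h1, ⟨h2, h3⟩, h4⟩ := hK
  refine ⟨h1.map e.surjective, ?_, ?_⟩
  · rw [map_mulEquiv_pPrimeCore_mk]
    refine ⟨h2.map (MulEquiv.surjective _), ?_⟩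
    exact isQuasisimple_congr (Subgroup.equivMapOfInjective _ _ (MulEquiv.injective _)) h3
  · intro H hH hle hmap
    have hinv : (H.map e.symm.toMonoidHom).map e.toMonoidHom = H := by
      rw [Subgroup.map_map]; ext x; simp
    have hKinv : (K.map e.toMonoidHom).map e.symm.toMonoidHom = K := by
      rw [Subgroup.map_map]; ext x; simp
    rw [← hinv]
    congr 1
    refine h4 _ (hH.map e.symm.surjective) ((Subgroup.map_mono hle).trans hKinv.le) ?_
    refine Subgroup.map_injective (f := (QuotientGroup.congr (pPrimeCore p G) (pPrimeCore p G) e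
      (Cores.pPrimeCore_map_mulEquiv e)).toMonoidHom) (MulEquiv.injective _) ?_
    rw [← map_mulEquiv_pPrimeCore_mk, ← map_mulEquiv_pPrimeCore_mk, hinv]
    exact hmap

theorem pLayer_normal (p : ℕ) (G : Type*) [Group G] : (Cfsg.pLayer p G).Normal := by
  refine ⟨fun n hn g => ?_⟩
  have h : (Cfsg.pLayer p G).map (MulAut.conj g).toMonoidHom ≤ Cfsg.pLayer p G := by
    rw [Subgroup.map_le_iff_le_comap]
    refine sSup_le fun K hK => ?_
    rw [← Subgroup.map_le_iff_le_comap]
    exact le_sSup (isPComponent_map_equiv (MulAut.conj g) hK)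
  exact h ⟨n, hn, by simp⟩

/-- The `p'`-core of a subgroup, as a subgroup of the ambient group, commutes with isomorphisms. -/
theorem map_pPrimeCore_subtype (p : ℕ) (e : G ≃* G) (K : Subgroup G) :
    ((pPrimeCore p K).map K.subtype).map e.toMonoidHom =
      (pPrimeCore p (K.map e.toMonoidHom : Subgroup G)).map
        (K.map e.toMonoidHom : Subgroup G).subtype := by
  let e' : K ≃* (K.map e.toMonoidHom : Subgroup G) :=
    Subgroup.equivMapOfInjective K e.toMonoidHom e.injective
  rw [← Cores.pPrimeCore_map_mulEquiv e', Subgroup.map_map, Subgroup.map_map]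
  congr 1

/-- `O(C_X(T))` as a subgroup of `X`. -/
def coreCent (T : Subgroup G) : Subgroup G :=
  (oddCore ↥(Subgroup.centralizer (T : Set G))).map
    (Subgroup.centralizer (T : Set G)).subtype

theorem map_centralizer_equiv (e : G ≃* G) (T : Subgroup G) :
    (Subgroup.centralizer (T : Set G)).map e.toMonoidHom =
      Subgroup.centralizer ((T.map e.toMonoidHom : Subgroup G) : Set G) := by
  ext x
  rw [Subgroup.mem_map_equiv, Subgroup.mem_centralizer_iff, Subgroup.mem_centralizer_iff]
  refine ⟨fun h y hy => ?_, fun h y hy => ?_⟩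
  · obtain ⟨z, hz, rfl⟩ := hy
    simpa using congrArg e (h z hz)
  · simpa using congrArg e.symm (h (e y) ⟨y, hy, rfl⟩)

theorem coreCent_map (e : G ≃* G) (T : Subgroup G) :
    (coreCent T).map e.toMonoidHom = coreCent (T.map e.toMonoidHom) := by
  have h := map_pPrimeCore_subtype 2 e (Subgroup.centralizer (T : Set G))
  rw [map_centralizer_equiv] at h
  exact h

theorem odd_card_coreCent [Finite G] (T : Subgroup G) : Odd (Nat.card (coreCent T)) := by
  rw [coreCent, Cores.card_map_eq _ (Subgroup.subtype_injective _)]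
  exact Cores.odd_card_oddCore

theorem extendedTwoLayer_eq (X : Type*) [Group X] :
    Cfsg.extendedTwoLayer X = Cfsg.pLayer 2 X ⊔ oddCore X ⊔
      ⨆ T : Sylow 2 ↥(Cfsg.pLayer 2 X ⊔ Cfsg.pPrimePCore 2 X),
        coreCent ((T : Subgroup ↥(Cfsg.pLayer 2 X ⊔ Cfsg.pPrimePCore 2 X)).map
          (Cfsg.pLayer 2 X ⊔ Cfsg.pPrimePCore 2 X).subtype) :=
  rfl

end Cfsg.Agent.H41
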