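import Mathlib.LinearAlgebra.Matrix.SpecialLinearGroup
import Mathlib.LinearAlgebra.Matrix.GeneralLinearGroup.Basic
import Mathlib.LinearAlgebra.Matrix.Transvection
import Mathlib.LinearAlgebra.Matrix.Block
import Cfsg.Prelude.Def_Local
import Cfsg.Agent.Linear.Simple
import Cfsg.Agent.Linear.Order
import Cfsg.Agent.Components.Layer
import Cfsg.Agent.H41.Basic

/-!
`GL_m` as the centraliser of `diag(-1,…,-1,1)` in `SL_{m+1}`.
-/

set_option autoImplicit false

namespace Cfsg.Agent.H41

open Matrix

variable {F : Type*} [Field F] {m : ℕ}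

/-- The matrix `fromBlocks A 0 0 (det A)⁻¹`. -/
noncomputable def blockMat (A : GL (Fin m) F) : Matrix (Fin (m + 1)) (Fin (m + 1)) F :=
  Matrix.reindex finSumFinEquiv finSumFinEquiv
    (Matrix.fromBlocks (A : Matrix (Fin m) (Fin m) F) 0 0
      (Matrix.diagonal fun _ : Fin 1 => ((A : Matrix (Fin m) (Fin m) F).det)⁻¹))

theorem blockMat_det (A : GL (Fin m) F) : (blockMat A).det = 1 := by
  have h : (A : Matrix (Fin m) (Fin m) F).det ≠ 0 :=
    (Matrix.isUnit_iff_isUnit_det _).1 A.isUnit |>.ne_zero
  rw [blockMat, Matrix.det_reindex_self, Matrix.det_fromBlocks_zero₁₂, Matrix.det_diagonal]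
  simp [mul_inv_cancel₀ h]

/-- The embedding `GL_m → SL_{m+1}`. -/
noncomputable def blockHom : GL (Fin m) F →* SpecialLinearGroup (Fin (m + 1)) F :=
  MonoidHom.mk' (fun A => ⟨blockMat A, blockMat_det A⟩) (fun A B => Subtype.ext (by
    show blockMat (A * B) = blockMat A * blockMat B
    simp only [blockMat, Matrix.reindex_apply, Matrix.submatrix_mul_equiv,
      Matrix.fromBlocks_multiply, Units.val_mul, Matrix.det_mul, Matrix.mul_zero, Matrix.zero_mul,
      add_zero, zero_add, Matrix.diagonal_mul_diagonal]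
    congr 2
    refine congrArg Matrix.diagonal (funext fun _ => ?_)
    rw [mul_inv]))

@[simp] theorem blockHom_coe (A : GL (Fin m) F) :
    ((blockHom A : SpecialLinearGroup (Fin (m + 1)) F) : Matrix (Fin (m + 1)) (Fin (m + 1)) F) =
      blockMat A := rfl

theorem blockMat_cc (A : GL (Fin m) F) (i j : Fin m) :
    blockMat A i.castSucc j.castSucc = (A : Matrix (Fin m) (Fin m) F) i j := by
  simp [blockMat, Fin.castSucc, finSumFinEquiv_symm_apply_castAdd]

theorem blockMat_cl (A : GL (Fin m) F) (i : Fin m) :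
    blockMat A i.castSucc (Fin.last m) = 0 := by
  have h : (finSumFinEquiv : Fin m ⊕ Fin 1 ≃ Fin (m + 1)).symm (Fin.last m) = Sum.inr 0 := by
    rw [Equiv.symm_apply_eq]; ext; simp
  simp [blockMat, h, Fin.castSucc, finSumFinEquiv_symm_apply_castAdd]

theorem blockMat_lc (A : GL (Fin m) F) (i : Fin m) :
    blockMat A (Fin.last m) i.castSucc = 0 := by
  have h : (finSumFinEquiv : Fin m ⊕ Fin 1 ≃ Fin (m + 1)).symm (Fin.last m) = Sum.inr 0 := by
    rw [Equiv.symm_apply_eq]; ext; simp
  simp [blockMat, h, Fin.castSucc, finSumFinEquiv_symm_apply_castAdd]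

theorem blockMat_ll (A : GL (Fin m) F) :
    blockMat A (Fin.last m) (Fin.last m) = ((A : Matrix (Fin m) (Fin m) F).det)⁻¹ := by
  have h : (finSumFinEquiv : Fin m ⊕ Fin 1 ≃ Fin (m + 1)).symm (Fin.last m) = Sum.inr 0 := by
    rw [Equiv.symm_apply_eq]; ext; simp
  simp [blockMat, h]

theorem blockHom_injective : Function.Injective (blockHom : GL (Fin m) F → _) := by
  intro A B h
  refine Units.ext (Matrix.ext fun i j => ?_)
  have h' := congrArg (fun M : SpecialLinearGroup (Fin (m + 1)) F =>
    (M : Matrix (Fin (m + 1)) (Fin (m + 1)) F) i.castSucc j.castSucc) h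
  simpa [blockMat_cc] using h'

/-- The element `diag(-1, …, -1, 1)`. -/
def IsReflection (t : SpecialLinearGroup (Fin (m + 1)) F) : Prop :=
  (t : Matrix (Fin (m + 1)) (Fin (m + 1)) F) =
    Matrix.diagonal (fun i : Fin (m + 1) => if (i : ℕ) + 1 = m + 1 then (1 : F) else -1)

theorem mem_range_blockHom {g : SpecialLinearGroup (Fin (m + 1)) F}
    (h1 : ∀ i : Fin m, (g : Matrix (Fin (m + 1)) (Fin (m + 1)) F) i.castSucc (Fin.last m) = 0)
    (h2 : ∀ i : Fin m, (g : Matrix (Fin (m + 1)) (Fin (m + 1)) F) (Fin.last m) i.castSucc = 0) :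
    g ∈ (blockHom : GL (Fin m) F →* _).range := by
  set M : Matrix (Fin (m + 1)) (Fin (m + 1)) F := (g : Matrix (Fin (m + 1)) (Fin (m + 1)) F) with hM
  set A : Matrix (Fin m) (Fin m) F := Matrix.of fun i j => M i.castSucc j.castSucc with hA
  have hg : M = Matrix.reindex finSumFinEquiv finSumFinEquiv
      (Matrix.fromBlocks A 0 0 (Matrix.diagonal fun _ : Fin 1 => M (Fin.last m) (Fin.last m))) := by
    have h : (finSumFinEquiv : Fin m ⊕ Fin 1 ≃ Fin (m + 1)).symm (Fin.last m) = Sum.inr 0 := by
      rw [Equiv.symm_apply_eq]; ext; simp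
    ext i j
    refine Fin.lastCases ?_ (fun i' => ?_) i <;> refine Fin.lastCases ?_ (fun j' => ?_) j
    · simp [h]
    · rw [h2 j']; simp [h, Fin.castSucc, finSumFinEquiv_symm_apply_castAdd]
    · rw [h1 i']; simp [h, Fin.castSucc, finSumFinEquiv_symm_apply_castAdd]
    · simp [hA, Fin.castSucc, finSumFinEquiv_symm_apply_castAdd]
  have hd : A.det * M (Fin.last m) (Fin.last m) = 1 := by
    have := g.2
    change M.det = 1 at this
    rw [hg, Matrix.det_reindex_self, Matrix.det_fromBlocks_zero₁₂, Matrix.det_diagonal] at this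
    simpa using this
  have hu : IsUnit A.det := IsUnit.of_mul_eq_one _ hd
  refine ⟨Matrix.nonsingInvUnit A hu, Subtype.ext ?_⟩
  show blockMat _ = M
  rw [hg]
  have he : ((Matrix.nonsingInvUnit A hu : GL (Fin m) F) : Matrix (Fin m) (Fin m) F) = A := rfl
  rw [blockMat, he, inv_eq_of_mul_eq_one_right hd]

theorem orderOf_reflection [NeZero (2 : F)] (hm : 1 ≤ m)
    {t : SpecialLinearGroup (Fin (m + 1)) F} (ht : IsReflection t) : orderOf t = 2 := by
  haveI := Fact.mk Nat.prime_two
  refine orderOf_eq_prime ?_ ?_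
  · refine Subtype.ext ?_
    rw [pow_two]
    show (t : Matrix (Fin (m + 1)) (Fin (m + 1)) F) * (t : Matrix (Fin (m + 1)) (Fin (m + 1)) F) = 1
    rw [ht, Matrix.diagonal_mul_diagonal, ← Matrix.diagonal_one]
    congr 1
    ext i
    split <;> simp
  · intro h
    have h2 : (t : Matrix (Fin (m + 1)) (Fin (m + 1)) F) = 1 := by rw [h]; rfl
    rw [ht] at h2
    have := congrFun (congrFun h2 ⟨0, by omega⟩) ⟨0, by omega⟩
    rw [Matrix.diagonal_apply_eq, Matrix.one_apply_eq, if_neg (by simp; omega)] at this
    exact two_ne_zero (α := F) (by linear_combination -this)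

theorem centralizer_reflection [NeZero (2 : F)] {t : SpecialLinearGroup (Fin (m + 1)) F}
    (ht : IsReflection t) :
    Subgroup.centralizer ({t} : Set (SpecialLinearGroup (Fin (m + 1)) F)) =
      (blockHom : GL (Fin m) F →* _).range := by
  set d : Fin (m + 1) → F := fun i => if (i : ℕ) + 1 = m + 1 then (1 : F) else -1 with hd
  have hdc : ∀ i : Fin m, d i.castSucc = -1 := fun i => by
    simp [hd, Nat.ne_of_lt i.2]
  have hdl : d (Fin.last m) = 1 := by simp [hd]
  apply le_antisymm
  · intro g hg
    rw [Subgroup.mem_centralizer_singleton_iff] at hg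
    set M : Matrix (Fin (m + 1)) (Fin (m + 1)) F := (g : Matrix (Fin (m + 1)) (Fin (m + 1)) F) with hM
    have he : M * Matrix.diagonal d = Matrix.diagonal d * M := by
      have : M * (t : Matrix (Fin (m + 1)) (Fin (m + 1)) F) = (t : Matrix (Fin (m + 1)) (Fin (m + 1)) F) * M :=
        congrArg (fun N : SpecialLinearGroup (Fin (m + 1)) F =>
          (N : Matrix (Fin (m + 1)) (Fin (m + 1)) F)) hg
      rwa [ht] at this
    have key : ∀ a b, d a ≠ d b → M a b = 0 := by
      intro a b hab
      have := congrFun (congrFun he a) b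
      rw [Matrix.mul_diagonal, Matrix.diagonal_mul] at this
      by_contra hne
      exact hab (mul_left_cancel₀ hne (by rw [this, mul_comm]))
    have hne : (-1 : F) ≠ 1 := by
      intro h
      exact two_ne_zero (α := F) (by linear_combination -h)
    exact mem_range_blockHom (fun i => key _ _ (by rw [hdc, hdl]; exact hne))
      (fun i => key _ _ (by rw [hdc, hdl]; exact hne.symm))
  · rintro _ ⟨A, rfl⟩
    rw [Subgroup.mem_centralizer_singleton_iff]
    refine Subtype.ext ?_
    show blockMat A * (t : Matrix (Fin (m + 1)) (Fin (m + 1)) F) = (t : Matrix (Fin (m + 1)) (Fin (m + 1)) F) * blockMat A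
    rw [ht, ← hd]
    ext i j
    rw [Matrix.mul_diagonal, Matrix.diagonal_mul]
    refine Fin.lastCases ?_ (fun i' => ?_) i <;> refine Fin.lastCases ?_ (fun j' => ?_) j
    · rw [hdl]; ring
    · rw [blockMat_lc]; ring
    · rw [blockMat_cl]; ring
    · rw [hdc, hdc]; ring

theorem qs_SL [Finite F] (hm : 3 ≤ m) : Cfsg.IsQuasisimple (SpecialLinearGroup (Fin m) F) :=
  ⟨⟨Linear.commutator_SL_eq_top_of_card (Or.inl (by simpa using hm))⟩,
    Linear.isSimpleGroup_PSL_fin (by omega) (fun h => by omega)⟩

/-- `toGL (SL_m)`. -/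
noncomputable def slGL (m : ℕ) (F : Type*) [Field F] : Subgroup (GL (Fin m) F) :=
  (Matrix.SpecialLinearGroup.toGL : SpecialLinearGroup (Fin m) F →* GL (Fin m) F).range

theorem slGL_isComponent [Finite F] (hm : 3 ≤ m) : Cfsg.IsComponent (slGL m F) := by
  refine ⟨Subgroup.Normal.isSubnormal ?_, Components.qs_congr (MonoidHom.ofInjective Linear.toGL_injective) (qs_SL hm)⟩
  rw [slGL, Linear.range_toGL]
  exact MonoidHom.normal_ker _

theorem centralizer_slGL :
    Subgroup.centralizer (slGL m F : Set (GL (Fin m) F)) ≤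
      (Units.map (Matrix.scalar (Fin m) : F →+* Matrix (Fin m) (Fin m) F).toMonoidHom).range := by
  intro g hg
  obtain ⟨r, hr⟩ := Matrix.mem_range_scalar_of_commute_transvectionStruct (M := (g : Matrix _ _ F))
    (fun t => by
      have h := Subgroup.mem_centralizer_iff.1 hg
        (Matrix.SpecialLinearGroup.toGL ⟨t.toMatrix, t.det⟩) ⟨_, rfl⟩
      exact congrArg (fun x : GL (Fin m) F => (x : Matrix (Fin m) (Fin m) F)) h)
  have hr0 : r ≠ 0 ∨ m = 0 := by
    by_cases h : m = 0
    · exact Or.inr h
    left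
    rintro rfl
    have hu : IsUnit ((g : Matrix (Fin m) (Fin m) F).det) :=
      (Matrix.isUnit_iff_isUnit_det _).1 g.isUnit
    haveI : Nonempty (Fin m) := ⟨⟨0, Nat.pos_of_ne_zero h⟩⟩
    rw [← hr, map_zero, Matrix.det_zero] at hu
    exact not_isUnit_zero hu
  rcases hr0 with h | rfl
  · exact ⟨Units.mk0 r h, Units.ext hr⟩
  · exact ⟨1, Units.ext (Matrix.ext fun i => i.elim0)⟩

theorem layer_GL [Finite F] (hm : 3 ≤ m) : Cfsg.layer (GL (Fin m) F) = slGL m F := by
  refine le_antisymm (Components.layer_le_iff.2 fun K hK => ?_)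
    (Components.component_le_layer (slGL_isComponent hm))
  by_cases h : K = slGL m F
  · exact h.le
  exfalso
  have hc := Subgroup.commutator_eq_bot_iff_le_centralizer.1
    (Components.components_commute hK (slGL_isComponent hm) h)
  apply Components.qsSub_ne_bot hK.2
  rw [← Components.component_perfect hK, Subgroup.commutator_eq_bot_iff_le_centralizer]
  intro a ha
  rw [Subgroup.mem_centralizer_iff]
  intro b hb
  obtain ⟨u, rfl⟩ := (hc.trans centralizer_slGL) ha
  obtain ⟨v, rfl⟩ := (hc.trans centralizer_slGL) hb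
  rw [← map_mul, ← map_mul, mul_comm]

/-- Scalars of `GL_m` inside `SL_{m+1}`. -/
noncomputable def blockScalars (m : ℕ) (F : Type*) [Field F] :
    Subgroup (SpecialLinearGroup (Fin (m + 1)) F) :=
  (Units.map (Matrix.scalar (Fin m) : F →+* Matrix (Fin m) (Fin m) F).toMonoidHom).range.map blockHom

theorem centralizer_blockSL (hm : 2 ≤ m) :
    Subgroup.centralizer ((slGL m F).map blockHom : Set (SpecialLinearGroup (Fin (m + 1)) F)) =
      blockScalars m F := by
  apply le_antisymm
  · intro g hg
    set M : Matrix (Fin (m + 1)) (Fin (m + 1)) F := (g : Matrix (Fin (m + 1)) (Fin (m + 1)) F) with hM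
    have hT : ∀ a b : Fin m, a ≠ b →
        Commute (Matrix.single a.castSucc b.castSucc (1 : F)) M := by
      intro a b hab
      set T := Matrix.SpecialLinearGroup.toGL
        (⟨(Matrix.TransvectionStruct.mk a b hab (1 : F)).toMatrix,
          (Matrix.TransvectionStruct.mk a b hab (1 : F)).det⟩ : SpecialLinearGroup (Fin m) F) with hT
      have h := Subgroup.mem_centralizer_iff.1 hg (blockHom T) ⟨T, ⟨_, rfl⟩, rfl⟩
      have hTm : ((T : GL (Fin m) F) : Matrix (Fin m) (Fin m) F) = Matrix.transvection a b 1 := rfl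
      have hd : (Matrix.transvection a b (1 : F)).det = 1 := Matrix.det_transvection_of_ne a b hab 1
      have hbm : blockMat T = Matrix.transvection a.castSucc b.castSucc (1 : F) := by
        ext i j
        refine Fin.lastCases ?_ (fun i' => ?_) i <;> refine Fin.lastCases ?_ (fun j' => ?_) j
        · rw [blockMat_ll, hTm, hd]
          simp [Matrix.transvection, Matrix.single, (Fin.castSucc_lt_last a).ne]
        · rw [blockMat_lc]
          simp [Matrix.transvection, Matrix.single, (Fin.castSucc_lt_last a).ne,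
            (Fin.castSucc_lt_last j').ne']
        · rw [blockMat_cl]
          simp [Matrix.transvection, Matrix.single, (Fin.castSucc_lt_last b).ne,
            (Fin.castSucc_lt_last i').ne]
        · rw [blockMat_cc, hTm]
          simp [Matrix.transvection, Matrix.single, Matrix.one_apply]
      have h2 : blockMat T * M = M * blockMat T :=
        congrArg (fun N : SpecialLinearGroup (Fin (m + 1)) F =>
          (N : Matrix (Fin (m + 1)) (Fin (m + 1)) F)) h
      rw [hbm, Matrix.transvection] at h2
      show _ * _ = _ * _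
      simpa [add_mul, mul_add] using h2
    have hother : ∀ b : Fin m, ∃ a : Fin m, a ≠ b := fun b => by
      rcases eq_or_ne b ⟨0, by omega⟩ with rfl | h
      · exact ⟨⟨1, by omega⟩, by simp [Fin.ext_iff]⟩
      · exact ⟨_, h.symm⟩
    have h1 : ∀ a : Fin m, M a.castSucc (Fin.last m) = 0 := fun a => by
      obtain ⟨b, hb⟩ := hother a
      exact Matrix.row_eq_zero_of_commute_single (hT b a hb) (Fin.castSucc_lt_last a).ne'
    have h2 : ∀ a : Fin m, M (Fin.last m) a.castSucc = 0 := fun a => by
      obtain ⟨b, hb⟩ := hother a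
      exact Matrix.col_eq_zero_of_commute_single (hT a b hb.symm) (Fin.castSucc_lt_last a).ne'
    obtain ⟨A, rfl⟩ := mem_range_blockHom h1 h2
    refine Subgroup.mem_map_of_mem _ (centralizer_slGL ?_)
    rw [Subgroup.mem_centralizer_iff]
    intro B hB
    refine blockHom_injective ?_
    rw [map_mul, map_mul]
    exact Subgroup.mem_centralizer_iff.1 hg _ ⟨B, hB, rfl⟩
  · rintro _ ⟨_, ⟨u, rfl⟩, rfl⟩
    rw [Subgroup.mem_centralizer_iff]
    rintro _ ⟨B, _, rfl⟩
    rw [← map_mul, ← map_mul]
    congr 1
    refine Units.ext ?_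
    exact ((Matrix.scalar_commute (u : F) (fun r => Commute.all _ r) (B : Matrix (Fin m) (Fin m) F)).eq).symm

theorem isStandard_blockSL [Finite F] [NeZero (2 : F)] (hm : 3 ≤ m) (heven : Even m)
    {t : SpecialLinearGroup (Fin (m + 1)) F} (ht : IsReflection t) :
    Cfsg.IsStandardSubgroup ((Cfsg.layer ↥(Subgroup.centralizer
      ({t} : Set (SpecialLinearGroup (Fin (m + 1)) F)))).map
        (Subgroup.centralizer ({t} : Set (SpecialLinearGroup (Fin (m + 1)) F))).subtype) := by
  have hC := centralizer_reflection ht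
  set L := (slGL m F).map blockHom with hL
  have hlayer : (Cfsg.layer ↥(Subgroup.centralizer
      ({t} : Set (SpecialLinearGroup (Fin (m + 1)) F)))).map
        (Subgroup.centralizer ({t} : Set (SpecialLinearGroup (Fin (m + 1)) F))).subtype = L := by
    let e := (MonoidHom.ofInjective (blockHom_injective (F := F) (m := m))).trans
      (MulEquiv.subgroupCongr hC.symm)
    rw [← Components.map_layer_equiv e, layer_GL hm, Subgroup.map_map, hL]
    congr 1
  rw [hlayer]
  have hLqs : Cfsg.IsQuasisimple L :=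
    Components.qs_congr (Subgroup.equivMapOfInjective _ _ blockHom_injective) (slGL_isComponent hm).2
  have hCL : Subgroup.centralizer (L : Set (SpecialLinearGroup (Fin (m + 1)) F)) = blockScalars m F :=
    centralizer_blockSL (by omega)
  -- `t` is the only involution centralising `L`
  have htmem : t ∈ blockScalars m F := by
    refine ⟨Units.map (Matrix.scalar (Fin m) : F →+* _).toMonoidHom (-1), ⟨-1, rfl⟩, Subtype.ext ?_⟩
    show blockMat _ = (t : Matrix (Fin (m + 1)) (Fin (m + 1)) F)
    rw [ht]
    ext i j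
    refine Fin.lastCases ?_ (fun i' => ?_) i <;> refine Fin.lastCases ?_ (fun j' => ?_) j
    · rw [blockMat_ll]
      simp [Matrix.det_diagonal, heven.neg_one_pow, Matrix.det_neg]
    · rw [blockMat_lc, Matrix.diagonal_apply_ne _ (Fin.castSucc_lt_last j').ne']
    · rw [blockMat_cl, Matrix.diagonal_apply_ne _ (Fin.castSucc_lt_last i').ne]
    · rw [blockMat_cc]
      by_cases h : i' = j'
      · subst h; simp [Nat.ne_of_lt i'.2]
      · rw [Matrix.diagonal_apply_ne _ (fun e => h (Fin.castSucc_injective _ e))]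
        simp [Matrix.diagonal_apply_ne _ h, Matrix.one_apply_ne h]
  have huniq : ∀ z ∈ blockScalars m F, orderOf z = 2 → z = t := by
    intro z hz ho
    obtain ⟨_, ⟨u, rfl⟩, rfl⟩ := hz
    obtain ⟨_, ⟨v, rfl⟩, hv⟩ := htmem
    have hinj : Function.Injective (Units.map (Matrix.scalar (Fin m) : F →+* _).toMonoidHom) :=
      Units.map_injective (fun a b h => by
        haveI : Nonempty (Fin m) := ⟨⟨0, by omega⟩⟩
        exact Matrix.scalar_inj.1 h)
    have ho' : orderOf u = 2 := by
      rwa [orderOf_injective blockHom blockHom_injective, orderOf_injective _ hinj] at ho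
    have hto : orderOf v = 2 := by
      have : orderOf t = 2 := orderOf_reflection (by omega) ht
      rwa [← hv, orderOf_injective blockHom blockHom_injective, orderOf_injective _ hinj] at this
    have key : ∀ w : Fˣ, orderOf w = 2 → w = -1 := by
      intro w hw
      have h1 : (w : F) ^ 2 = 1 := by
        rw [← Units.val_pow_eq_pow_val, ← hw, pow_orderOf_eq_one, Units.val_one]
      rcases sq_eq_one_iff.1 h1 with h | h
      · exact absurd hw (by rw [show w = 1 from Units.ext h, orderOf_one]; omega)
      · exact Units.ext (by simpa using h)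
    rw [← hv, key u ho', key v hto]
  refine ⟨hLqs, ⟨?_, ?_⟩, ?_, ?_⟩
  · rw [hCL, even_iff_two_dvd]
    have ho : orderOf t = 2 := orderOf_reflection (by omega) ht
    rw [← ho, ← Subgroup.orderOf_mk t htmem]; exact orderOf_dvd_natCard _
  · intro g hg
    rw [hCL] at hg ⊢
    rw [← Nat.not_even_iff_odd, even_iff_two_dvd]
    intro hdvd
    haveI := Fact.mk Nat.prime_two
    obtain ⟨w, hw⟩ := exists_prime_orderOf_dvd_card' (G :=
      (blockScalars m F ⊓ (blockScalars m F).map (MulAut.conj g).toMonoidHom : Subgroup _)) 2 hdvd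
    rw [← orderOf_submonoid] at hw
    obtain ⟨z, hz, hzw⟩ := w.2.2
    have h1 := huniq _ w.2.1 hw
    have h2 : z = t := huniq z hz (by
      rw [← orderOf_injective (MulAut.conj g).toMonoidHom (MulAut.conj g).injective, hzw]; exact hw)
    rw [h1, h2] at hzw
    have hgC : g ∈ (blockHom : GL (Fin m) F →* _).range := by
      rw [← hC, Subgroup.mem_centralizer_singleton_iff]
      exact mul_inv_eq_iff_eq_mul.1 hzw
    apply hg
    obtain ⟨A, rfl⟩ := hgC
    rw [Subgroup.mem_normalizer_iff_map_conj_eq, blockScalars, Subgroup.map_map]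
    have e : (MulAut.conj (blockHom A)).toMonoidHom.comp (blockHom : GL (Fin m) F →* _) =
        blockHom.comp (MulAut.conj A).toMonoidHom := by ext B; simp
    show Subgroup.map ((MulAut.conj (blockHom A)).toMonoidHom.comp blockHom) _ = _
    rw [e, ← Subgroup.map_map]
    congr 1
    ext B
    constructor
    · rintro ⟨_, ⟨u, rfl⟩, rfl⟩
      refine ⟨u, Units.ext ?_⟩
      simp only [MulEquiv.coe_toMonoidHom, MulAut.conj_apply, Units.val_mul]
      rw [show (A : Matrix (Fin m) (Fin m) F) * ((Units.map (Matrix.scalar (Fin m) : F →+* _).toMonoidHom u : GL (Fin m) F) : Matrix _ _ F) =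
        ((Units.map (Matrix.scalar (Fin m) : F →+* _).toMonoidHom u : GL (Fin m) F) : Matrix _ _ F) * (A : Matrix (Fin m) (Fin m) F) from
        (Matrix.scalar_commute (u : F) (fun r => Commute.all _ r) (A : Matrix (Fin m) (Fin m) F)).symm.eq, mul_assoc]
      simp
    · rintro ⟨u, rfl⟩
      refine ⟨_, ⟨u, rfl⟩, Units.ext ?_⟩
      simp only [MulEquiv.coe_toMonoidHom, MulAut.conj_apply, Units.val_mul]
      rw [show (A : Matrix (Fin m) (Fin m) F) * ((Units.map (Matrix.scalar (Fin m) : F →+* _).toMonoidHom u : GL (Fin m) F) : Matrix _ _ F) =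
        ((Units.map (Matrix.scalar (Fin m) : F →+* _).toMonoidHom u : GL (Fin m) F) : Matrix _ _ F) * (A : Matrix (Fin m) (Fin m) F) from
        (Matrix.scalar_commute (u : F) (fun r => Commute.all _ r) (A : Matrix (Fin m) (Fin m) F)).symm.eq, mul_assoc]
      simp
  · intro g _ hbot
    have hle : L.map (MulAut.conj g).toMonoidHom ≤ Subgroup.centralizer (L : Set _) := by
      rw [← Subgroup.commutator_eq_bot_iff_le_centralizer, Subgroup.commutator_comm]; exact hbot
    rw [hCL] at hle
    have hqs := Components.qs_congr (Subgroup.equivMapOfInjective L (MulAut.conj g).toMonoidHom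
      (MulAut.conj g).injective) hLqs
    apply Components.qsSub_ne_bot hqs
    rw [← Components.qsSub_perfect hqs, Subgroup.commutator_eq_bot_iff_le_centralizer]
    intro a ha
    rw [Subgroup.mem_centralizer_iff]
    intro b hb
    obtain ⟨_, ⟨u, rfl⟩, rfl⟩ := hle ha
    obtain ⟨_, ⟨v, rfl⟩, rfl⟩ := hle hb
    rw [← map_mul, ← map_mul, ← map_mul, ← map_mul, mul_comm]
  · refine le_antisymm ?_ ?_
    · intro g hg
      rw [Subgroup.mem_normalizer_iff]
      have key : ∀ k ∈ Subgroup.normalizer (L : Set (SpecialLinearGroup (Fin (m + 1)) F)),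
          ∀ z ∈ Subgroup.centralizer (L : Set (SpecialLinearGroup (Fin (m + 1)) F)),
            k * z * k⁻¹ ∈ Subgroup.centralizer (L : Set (SpecialLinearGroup (Fin (m + 1)) F)) := by
        intro k hk z hz
        rw [Subgroup.mem_centralizer_iff] at hz ⊢
        intro v hv
        have hv' := hz _ ((Subgroup.mem_normalizer_iff''.1 hk v).1 hv)
        calc v * (k * z * k⁻¹) = k * ((k⁻¹ * v * k) * z) * k⁻¹ := by group
          _ = k * (z * (k⁻¹ * v * k)) * k⁻¹ := by rw [hv']
          _ = k * z * k⁻¹ * v := by group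
      intro z
      refine ⟨key g hg z, fun hz => ?_⟩
      have := key g⁻¹ (inv_mem hg) _ hz
      rwa [show g⁻¹ * (g * z * g⁻¹) * g⁻¹⁻¹ = z by group] at this
    · intro g hg
      rw [hCL] at hg
      have h1 : g * t * g⁻¹ = t := huniq _ ((Subgroup.mem_normalizer_iff.1 hg t).1 htmem) (by
        rw [show g * t * g⁻¹ = MulAut.conj g t from rfl, (MulAut.conj g).orderOf_eq]
        exact orderOf_reflection (by omega) ht)
      have hgC : g ∈ (blockHom : GL (Fin m) F →* _).range := by
        rw [← hC, Subgroup.mem_centralizer_singleton_iff]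
        exact mul_inv_eq_iff_eq_mul.1 h1
      obtain ⟨A, rfl⟩ := hgC
      rw [Subgroup.mem_normalizer_iff_map_conj_eq, hL, Subgroup.map_map]
      have e : (MulAut.conj (blockHom A)).toMonoidHom.comp (blockHom : GL (Fin m) F →* _) =
          blockHom.comp (MulAut.conj A).toMonoidHom := by ext B; simp
      show Subgroup.map ((MulAut.conj (blockHom A)).toMonoidHom.comp blockHom) _ = _
      rw [e, ← Subgroup.map_map]
      congr 1
      haveI : (slGL m F).Normal := by rw [slGL, Linear.range_toGL]; exact MonoidHom.normal_ker _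
      exact Subgroup.mem_normalizer_iff_map_conj_eq.1
        ((Subgroup.normalizer_eq_top (H := slGL m F)).ge (Subgroup.mem_top A))

end Cfsg.Agent.H41
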