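import Cfsg.Agent.Chevalley.DataE8.Base

/-!
Kernel checks on the roots of E8 graded by the coefficient at the branch node.
-/

set_option autoImplicit false
set_option maxRecDepth 100000
set_option Elab.async false

namespace Cfsg.Agent.H41.E8Levels

open Cfsg.Lie Cfsg.Agent.Chevalley

/-- The coefficient at the branch node. -/
def co (r : ℕ) : ℤ := E8.tab.cf chevE8 r 3

/-- The roots of level at least `j`. -/
def lvl (j : ℕ) : Finset ℕ := (Finset.range 240).filter fun r => (j : ℤ) ≤ co r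

/-- The part of `T` that the reflection keeps inside `T`. -/
def stepT (T : Finset ℕ) (i : ℕ) : Finset ℕ := T.filter fun r => E8.tab.w i r ∈ T

/-- Every reflection in the list, applied to the current set, stays positive. -/
def okSeq : Finset ℕ → List ℕ → Bool
  | _, [] => true
  | T, i :: l => decide (∀ r ∈ T, 120 ≤ E8.tab.w i r) && okSeq (stepT T i) l

/-- The roots that are positive and not fundamental. -/
def start : Finset ℕ :=
  (List.range 8).foldl (fun T i => T.erase (chevE8.simple i)) ((Finset.range 240).filter (120 ≤ ·))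

/-- The reflections used at each level. -/
def seqAt : ℕ → List ℕ
  | 2 => [2, 4, 5, 6]
  | 3 => [1, 4, 5]
  | 4 => [2, 4, 0]
  | 5 => [1, 2]
  | 6 => [4, 5, 6, 7]
  | _ => [0, 1, 2, 4, 5, 6, 7, 0]

theorem seq_one : okSeq start (seqAt 1) = true ∧
    (seqAt 1).foldl stepT start = lvl 2 ∧ (∀ i ∈ seqAt 1, i < 8 ∧ i ≠ 3) := by decide +kernel

theorem seq_high : ∀ j ∈ [2, 3, 4, 5, 6],
    (∀ r ∈ lvl j, 120 ≤ r ∧ 120 ≤ E8.tab.w 3 r) ∧
    okSeq (stepT (lvl j) 3) (seqAt j) = true ∧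
    (seqAt j).foldl stepT (stepT (lvl j) 3) = lvl (j + 1) ∧
    (∀ i ∈ seqAt j, i < 8 ∧ i ≠ 3) := by decide +kernel

theorem lvl_seven : lvl 7 = ∅ := by decide +kernel

theorem lvl_pos : ∀ r ∈ lvl 1, 120 ≤ r := by decide +kernel

theorem top_mem : 239 ∈ lvl 6 := by decide +kernel

theorem lower : ∀ j ∈ [1, 2, 3, 4, 5], ∀ r ∈ lvl (j + 1), (j : ℤ) ≤ co (E8.tab.w 3 r) := by
  decide +kernel

/-- A linear form on the roots. -/
def form (z : List ℤ) (r : ℕ) : ℤ :=
  ((List.range 8).map fun m => z.getD m 0 * E8.tab.cf chevE8 r m).sum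

/-- Words in the reflections fixing the level, with the transported level forms. -/
def forms : List (List ℕ × List ℤ) :=
  [([], [0, 1, 1, -1, 1, 0, 0, 0]), ([1], [0, -1, 1, 0, 1, 0, 0, 0]),
    ([2], [1, 1, -1, 0, 1, 0, 0, 0]), ([4], [0, 1, 1, 0, -1, 1, 0, 0]),
    ([0, 2], [-1, 1, 0, 0, 1, 0, 0, 0]), ([5, 4], [0, 1, 1, 0, 0, -1, 1, 0]),
    ([6, 5, 4], [0, 1, 1, 0, 0, 0, -1, 1])]

theorem forms_ok : ∀ p ∈ forms, (∀ i ∈ p.1, i < 8 ∧ i ≠ 3) ∧
    ∀ r ∈ lvl 0, 0 ≤ form p.2 (p.1.foldr E8.tab.w (E8.tab.w 3 r)) := by decide +kernel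

/-- The values of all the forms on a root. -/
def sig (r : ℕ) : List ℤ := co r :: forms.map fun p => form p.2 r

theorem sig_inj : ((List.range 240).map sig).Nodup := by decide +kernel

theorem co_form : ∀ r < 240, form [0, 0, 0, 1, 0, 0, 0, 0] r = co r := by decide +kernel

end Cfsg.Agent.H41.E8Levels
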