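import Mathlib

/-!
Iterated cores of a subgroup and a conjugate of it under an involution: bounds from two chains.
-/

set_option autoImplicit false

namespace Cfsg.Agent.H41.IterCore

variable {G : Type*} [Group G]

/-- `M` normalises `X`. -/
def NormIn (M X : Subgroup G) : Prop := ∀ m ∈ M, ∀ x ∈ X, m * x * m⁻¹ ∈ X

/-- The largest subgroup of `Y ⊓ M` normal in `M`. -/
def core (M Y : Subgroup G) : Subgroup G := ((Y.subgroupOf M).normalCore).map M.subtype

theorem core_le (M Y : Subgroup G) : core M Y ≤ M ⊓ Y := by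
  rintro _ ⟨x, hx, rfl⟩
  exact ⟨x.2, (Subgroup.normalCore_le (Y.subgroupOf M) hx : x ∈ Y.subgroupOf M)⟩

theorem normIn_core (M Y : Subgroup G) : NormIn M (core M Y) := by
  rintro m hm _ ⟨x, hx, rfl⟩
  exact ⟨⟨m, hm⟩ * x * ⟨m, hm⟩⁻¹, (Subgroup.normalCore_normal _).conj_mem x hx _, rfl⟩

theorem le_core {M Y X : Subgroup G} (hM : X ≤ M) (hY : X ≤ Y) (hn : NormIn M X) :
    X ≤ core M Y := by
  intro x hx
  have : (X.subgroupOf M).Normal :=
    ⟨fun a ha b => Subgroup.mem_subgroupOf.2 (hn b b.2 a (Subgroup.mem_subgroupOf.1 ha))⟩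
  exact ⟨⟨x, hM hx⟩, (Subgroup.normal_le_normalCore (H := Y.subgroupOf M)
    (N := X.subgroupOf M)).2 (fun a ha => hY ha) (Subgroup.mem_subgroupOf.2 hx), rfl⟩

/-- Conjugation by `g`. -/
abbrev cj (g : G) (X : Subgroup G) : Subgroup G := X.map (MulAut.conj g).toMonoidHom

theorem mem_cj {g : G} (hg : g * g = 1) {X : Subgroup G} {x : G} :
    x ∈ cj g X ↔ g * x * g ∈ X := by
  have hgi : g⁻¹ = g := inv_eq_of_mul_eq_one_right hg
  constructor
  · rintro ⟨y, hy, rfl⟩
    simp only [MulEquiv.coe_toMonoidHom, MulAut.conj_apply, hgi]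
    rwa [show g * (g * y * g) * g = (g * g) * y * (g * g) by group, hg, one_mul, mul_one]
  · intro h
    refine ⟨g * x * g, h, ?_⟩
    simp only [MulEquiv.coe_toMonoidHom, MulAut.conj_apply, hgi]
    rw [show g * (g * x * g) * g = (g * g) * x * (g * g) by group, hg, one_mul, mul_one]

theorem cj_cj {g : G} (hg : g * g = 1) (X : Subgroup G) : cj g (cj g X) = X := by
  ext x
  rw [mem_cj hg, mem_cj hg, show g * (g * x * g) * g = (g * g) * x * (g * g) by group, hg,
    one_mul, mul_one]

theorem cj_core {g : G} (hg : g * g = 1) (M Y : Subgroup G) :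
    cj g (core M Y) = core (cj g M) (cj g Y) := by
  have key : ∀ M Y : Subgroup G, cj g (core M Y) ≤ core (cj g M) (cj g Y) := by
    intro M Y
    refine le_core (Subgroup.map_mono ((core_le M Y).trans inf_le_left))
      (Subgroup.map_mono ((core_le M Y).trans inf_le_right)) ?_
    rintro _ ⟨m, hm, rfl⟩ _ ⟨x, hx, rfl⟩
    exact ⟨m * x * m⁻¹, normIn_core M Y m hm x hx, by simp [mul_assoc]⟩
  refine le_antisymm (key M Y) ?_
  have := Subgroup.map_mono (f := (MulAut.conj g).toMonoidHom) (key (cj g M) (cj g Y))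
  simpa only [← cj.eq_def, cj_cj hg] using this

/-- The sequence on the side of `M`. -/
def seq (M : Subgroup G) (g : G) : ℕ → Subgroup G
  | 0 => M
  | i + 1 => core M (seq M g i ⊓ cj g (seq M g i))

theorem exists_sequences {M : Subgroup G} {g : G} (hg : g * g = 1) (hco : IsCoatom M)
    (lo hi : ℕ → Subgroup G) (hlo0 : lo 0 ≤ M) (hlo : ∀ i, i < 5 → lo (i + 1) ≤ lo i)
    (hlog : ∀ i, i < 5 → lo (i + 1) ≤ cj g (lo i)) (hlon : ∀ i, NormIn M (lo i))
    (hlo5 : lo 5 ≠ ⊥) (hhi0 : hi 0 = M) (hhi6 : hi 6 = ⊥)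
    (hhi : ∀ i, i < 6 → ∀ X : Subgroup G, X ≤ M → NormIn M X → X ≤ hi i → X ≤ cj g (hi i) →
      X ≤ hi (i + 1)) :
    ∃ (M₂ : Subgroup G) (A B : ℕ → Subgroup G),
      IsCoatom M ∧ M₂ = M.map (MulAut.conj g).toMonoidHom ∧ M ≠ M₂ ∧ M.normalCore = ⊥ ∧
      A 0 = M ∧ B 0 = M₂ ∧
      (∀ i, A (i + 1) = ((A i ⊓ B i).subgroupOf M).normalCore.map M.subtype) ∧
      (∀ i, B (i + 1) = ((A i ⊓ B i).subgroupOf M₂).normalCore.map M₂.subtype) ∧
      A 6 = ⊥ ∧ A 5 ≠ ⊥ := by
  have hle : ∀ i, seq M g i ≤ M := fun i => by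
    cases i with
    | zero => exact le_rfl
    | succ i => exact (core_le _ _).trans inf_le_left
  have hup : ∀ i, i ≤ 6 → seq M g i ≤ hi i := by
    intro i
    induction i with
    | zero => intro _; rw [hhi0]; exact le_rfl
    | succ i ih =>
      intro h
      have hc := core_le M (seq M g i ⊓ cj g (seq M g i))
      have hY := hc.trans inf_le_right
      exact hhi i (by omega) _ (hc.trans inf_le_left) (normIn_core _ _)
        ((hY.trans inf_le_left).trans (ih (by omega)))
        ((hY.trans inf_le_right).trans (Subgroup.map_mono (ih (by omega))))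
  have hlow : ∀ i, i ≤ 5 → lo i ≤ seq M g i := by
    intro i
    induction i with
    | zero => intro _; exact hlo0
    | succ i ih =>
      intro h
      refine le_core ?_ (le_inf ((hlo i (by omega)).trans (ih (by omega)))
        ((hlog i (by omega)).trans (Subgroup.map_mono (ih (by omega))))) (hlon _)
      exact ((hlo i (by omega)).trans (ih (by omega))).trans (hle i)
  have h6 : seq M g 6 = ⊥ := le_bot_iff.1 ((hup 6 le_rfl).trans hhi6.le)
  have h5 : seq M g 5 ≠ ⊥ := fun h => hlo5 (le_bot_iff.1 ((hlow 5 le_rfl).trans h.le))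
  refine ⟨cj g M, seq M g, fun i => cj g (seq M g i), hco, rfl, ?_, ?_, rfl, rfl, fun i => rfl,
    fun i => ?_, h6, h5⟩
  · intro heq
    have hall : ∀ i, seq M g i = M := by
      intro i
      induction i with
      | zero => rfl
      | succ i ih =>
        refine le_antisymm (hle _) (le_core le_rfl ?_ fun m hm x hx =>
          mul_mem (mul_mem hm hx) (inv_mem hm))
        rw [ih, ← heq, inf_idem]
    exact h5 ((hall 5).trans ((hall 6).symm.trans h6))
  · have hn : NormIn M M.normalCore := fun m _ x hx =>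
      (Subgroup.normalCore_normal M).conj_mem x hx m
    have hall : ∀ i, M.normalCore ≤ seq M g i := by
      intro i
      induction i with
      | zero => exact Subgroup.normalCore_le M
      | succ i ih =>
        refine le_core (Subgroup.normalCore_le M) (le_inf ih fun x hx => ?_) hn
        rw [mem_cj hg]
        refine ih ?_
        have := (Subgroup.normalCore_normal M).conj_mem x hx g
        rwa [inv_eq_of_mul_eq_one_right hg] at this
    exact le_bot_iff.1 ((hall 6).trans h6.le)
  · show cj g (core M _) = core (cj g M) _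
    rw [cj_core hg, show cj g (seq M g i ⊓ cj g (seq M g i)) =
      seq M g i ⊓ cj g (seq M g i) from ?_]
    ext x
    simp only [Subgroup.mem_inf, mem_cj hg]
    rw [show g * (g * x * g) * g = (g * g) * x * (g * g) by group, hg, one_mul, mul_one]
    exact And.comm

end Cfsg.Agent.H41.IterCore
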