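import Cfsg.Agent.H37.Chev.All
import Cfsg.Agent.Chevalley.Coordinate
import Cfsg.Agent.Chevalley.Mono
import Cfsg.Agent.H27.BNPair
import Cfsg.Agent.H41.IterCore
import Cfsg.Agent.H41.E8Levels

/-!
The maximal parabolic of E8(2) at the branch node and its conjugate by that reflection: the iterated
cores are the level subgroups of the radical.
-/

set_option autoImplicit false
set_option maxRecDepth 100000

namespace Cfsg.Agent.H41.E8Cores

open Cfsg.Lie Cfsg.Agent.H37 Cfsg.Agent.H37.RootSys Cfsg.Agent.H41.E8Levels IterCore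


attribute [local irreducible] lvl start seqAt

abbrev F2 : Type := ZMod 2

/-- The root data. -/
noncomputable abbrev Q : Chev.Data chevE8 F2 := Chev.dataE8 F2

/-- The group E8(2). -/
abbrev Gr : Type := ↥(chevE8.group F2)

theorem cf_eq : Q.K.cf = Chevalley.E8.tab.cf chevE8 := rfl

theorem w_eq : Q.K.w = Chevalley.E8.tab.w := rfl

theorem nroots_eq : chevE8.nroots = 240 := rfl

theorem half_eq : chevE8.nroots / 2 = 120 := rfl

theorem rank_eq8 : chevE8.rank = 8 := rfl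

theorem eq_one_of_ne {t : F2} (h : t ≠ 0) : t = 1 := by
  revert t; decide

theorem neg_self (t : F2) : -t = t := by
  revert t; decide

/-- A root element. -/
noncomputable def el (r : ℕ) (t : F2) : Gr := Q.sys.x r t

/-- A fundamental monomial element. -/
noncomputable def nEl (i : ℕ) : Gr := nG Q.K F2 i

theorem coe_el (r : ℕ) (t : F2) : (el r t : GL chevE8.Idx F2) = Q.K.xU F2 r t := rfl

theorem el_inv (r : ℕ) (t : F2) : (el r t)⁻¹ = el r t := by
  refine Subtype.ext ?_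
  rw [InvMemClass.coe_inv, coe_el, Q.K.xU_inv, neg_self]

theorem el_zero (r : ℕ) : el r 0 = 1 := Subtype.ext (Q.K.xU_zero F2 r)

theorem el_sq (r : ℕ) (t : F2) : el r t * el r t = 1 := by
  nth_rewrite 2 [← el_inv r t]
  exact mul_inv_cancel (el r t)

theorem diag_bot : chevE8.diagonalSubgroup F2 = ⊥ := by
  rw [eq_bot_iff]
  refine (Subgroup.closure_le _).2 ?_
  rintro g ⟨r, t, hr, ht, hg⟩
  obtain rfl : g = Q.K.hU F2 r t := Units.ext (hg.trans (Q.K.coe_hU F2 r t).symm)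
  rw [eq_one_of_ne ht, Q.K.hU_one]
  exact Subgroup.mem_bot.2 rfl

theorem H_eq_one {h : Gr} (hh : h ∈ Q.sys.H) : h = 1 := by
  have h1 : (h : GL chevE8.Idx F2) ∈ chevE8.diagonalSubgroup F2 := hh
  rw [diag_bot, Subgroup.mem_bot] at h1
  exact Subtype.ext h1

theorem nEl_sq {i : ℕ} (hi : i < 8) : nEl i * nEl i = 1 :=
  H_eq_one (Q.sys.sq i (Q.rank_eq ▸ hi : i < Q.X.n))

theorem nEl_inv {i : ℕ} (hi : i < 8) : (nEl i)⁻¹ = nEl i := inv_eq_of_mul_eq_one_right (nEl_sq hi)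

theorem sg_one (i r : ℕ) : ((Q.K.sg i r : ℤ) : F2) = 1 := by
  rcases Q.K.sg_pm i r with h | h <;> simp [h]

theorem nEl_conj {i r : ℕ} (hi : i < 8) (hr : r < 240) (t : F2) :
    nEl i * el r t * nEl i = el (Chevalley.E8.tab.w i r) t := by
  refine Eq.trans ?_ (show nEl i * el r t * (nEl i)⁻¹ = _ from Subtype.ext
    ((Q.K.nS_conj_xU F2 (i := i) hi hr t).trans (by rw [sg_one, one_mul]; rfl)))
  rw [nEl_inv hi]

/-- The subgroup of the roots of level at least `j`. -/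
noncomputable def Lv (j : ℕ) : Subgroup Gr := XS Q.sys.x (↑(lvl j) : Set ℕ)

theorem mem_lvl {j r : ℕ} : r ∈ lvl j ↔ r < 240 ∧ (j : ℤ) ≤ co r := by
  simp [lvl, Finset.mem_filter]

theorem co_cf (r : ℕ) : co r = Q.K.cf r 3 := rfl

theorem el_mem_Lv {j r : ℕ} (hr : r < 240) (h : (j : ℤ) ≤ co r) (t : F2) : el r t ∈ Lv j :=
  x_mem_XS (Finset.mem_coe.2 (mem_lvl.2 ⟨hr, h⟩)) t

theorem mem_pos {r : ℕ} : r ∈ posSet chevE8 ↔ r < 240 ∧ 120 ≤ r := mem_posSet

theorem U_le_M : Q.sys.U ≤ Lv 0 :=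
  XS_le fun r hr t => by
    obtain ⟨h1, h2⟩ := mem_posSet.1 (Finset.mem_coe.1 hr)
    exact el_mem_Lv h1 (Q.K.cf_nonneg r h1 h2 3 (by decide)) t

theorem nEl_mem_M {i : ℕ} (hi : i < 8) (h3 : i ≠ 3) : nEl i ∈ Lv 0 := by
  have hs := Q.K.simple_lt i (hi : i < chevE8.rank)
  have hc : co (chevE8.simple i) = 0 := by
    rw [co_cf, Q.K.cf_simple i hi 3 (by decide), if_neg (Ne.symm h3)]
  have hcn : co (chevE8.neg (chevE8.simple i)) = 0 := by
    rw [co_cf, Q.K.cf_neg _ hs.1 3 (by decide), ← co_cf, hc, neg_zero]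
  have e : nEl i = el (chevE8.simple i) 1 * el (chevE8.neg (chevE8.simple i)) (-1⁻¹) *
      el (chevE8.simple i) 1 := Subtype.ext (Q.K.nU_eq F2 _ 1)
  rw [e]
  exact mul_mem (mul_mem (el_mem_Lv hs.1 hc.ge _) (el_mem_Lv (Q.K.neg_lt hs.1) hcn.ge _))
    (el_mem_Lv hs.1 hc.ge _)

theorem Lv_le_M (j : ℕ) : Lv j ≤ Lv 0 :=
  XS_mono fun r hr => by
    obtain ⟨h1, h2⟩ := mem_lvl.1 (Finset.mem_coe.1 hr)
    exact Finset.mem_coe.2 (mem_lvl.2 ⟨h1, le_trans (Int.natCast_nonneg j) h2⟩)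

theorem normIn_Lv {j : ℕ} (hj : 1 ≤ j) : NormIn (Lv 0) (Lv j) := by
  suffices h : Lv 0 ≤ Subgroup.normalizer (Lv j : Set Gr) from
    fun m hm x hx => (Subgroup.mem_normalizer_iff.1 (h hm) x).1 hx
  refine XS_le fun s hs t => ?_
  obtain ⟨hs1, hs2⟩ := mem_lvl.1 (Finset.mem_coe.1 hs)
  have key : ∀ x ∈ Lv j, el s t * x * (el s t)⁻¹ ∈ Lv j := by
    intro x hx
    refine conj_mem_XS (fun r hr u => ?_) hx
    obtain ⟨hr1, hr2⟩ := mem_lvl.1 (Finset.mem_coe.1 hr)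
    by_cases hsr : s = r
    · subst hsr
      show el s t * el s u * (el s t)⁻¹ ∈ _
      rw [show el s t * el s u = el s u * el s t from by
        show Q.sys.x s t * Q.sys.x s u = Q.sys.x s u * Q.sys.x s t
        rw [← Q.sys.x_add' s hs1, add_comm, Q.sys.x_add' s hs1], mul_inv_cancel_right]
      exact el_mem_Lv hr1 hr2 u
    have hne : s ≠ chevE8.neg r := by
      intro e
      rw [co_cf, e, Q.K.cf_neg r hr1 3 (by decide), ← co_cf] at hs2
      omega
    rw [show Q.sys.x r u = el r u from rfl, show el s t * el r u * (el s t)⁻¹ =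
      el s t * el r u * (el s t)⁻¹ * (el r u)⁻¹ * el r u by group]
    refine mul_mem (XS_mono (S' := (↑(lvl j) : Set ℕ)) ?_ (xG_comm Q.K hs1 hr1 hsr hne t u))
      (el_mem_Lv hr1 hr2 u)
    rintro k ⟨hk, a, b, ha, hb, e⟩
    refine Finset.mem_coe.2 (mem_lvl.2 ⟨hk, ?_⟩)
    rw [co_cf, e 3 (by decide), ← co_cf, ← co_cf]
    have ha' : (1 : ℤ) ≤ a := by exact_mod_cast ha
    have hb' : (1 : ℤ) ≤ b := by exact_mod_cast hb
    have hs3 : (0 : ℤ) ≤ co s := by exact_mod_cast hs2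
    nlinarith
  rw [Subgroup.mem_normalizer_iff]
  refine fun x => ⟨key x, fun hx => ?_⟩
  change el s t * x * (el s t)⁻¹ ∈ Lv j at hx
  have := key _ hx
  rw [el_inv] at this
  have h2 := el_sq s t
  rwa [show el s t * (el s t * x * el s t) * el s t = (el s t * el s t) * x * (el s t * el s t)
    by group, h2, one_mul, mul_one] at this

/-- The intersection of the subgroups of two closed sets. -/
theorem inf_closed {G F : Type*} [Group G] [Field F] (Y : Unip G F) {S T : Finset ℕ}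
    (hS : Y.Closed S) (hT : Y.Closed T) :
    Y.Closed (S ∩ T) ∧ XS Y.x (↑S : Set ℕ) ⊓ XS Y.x (↑T : Set ℕ) ≤ XS Y.x (↑(S ∩ T) : Set ℕ) := by
  refine ⟨⟨fun r hr => hS.1 (Finset.mem_inter.1 hr).1, fun r hr s hs hne k hk =>
    Finset.mem_inter.2 ⟨hS.2 r (Finset.mem_inter.1 hr).1 s (Finset.mem_inter.1 hs).1 hne k hk,
      hT.2 r (Finset.mem_inter.1 hr).2 s (Finset.mem_inter.1 hs).2 hne k hk⟩⟩, ?_⟩
  suffices ∀ m k, S.sup id < k + m → ∀ x, x ∈ XS Y.x {r | r ∈ S ∧ k ≤ r} →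
      x ∈ XS Y.x {r | r ∈ T ∧ k ≤ r} → x ∈ XS Y.x (↑(S ∩ T) : Set ℕ) from fun x hx =>
    this (S.sup id + 1) 0 (by omega) x
      (XS_mono (S' := {r | r ∈ S ∧ 0 ≤ r}) (fun r hr => ⟨hr, Nat.zero_le r⟩) hx.1)
      (XS_mono (S' := {r | r ∈ T ∧ 0 ≤ r}) (fun r hr => ⟨hr, Nat.zero_le r⟩) hx.2)
  intro m
  induction m with
  | zero =>
    intro k hk x hx _
    have : {r | r ∈ S ∧ k ≤ r} = (∅ : Set ℕ) := by
      refine Set.eq_empty_iff_forall_notMem.2 fun r hr => ?_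
      have h1 := Finset.le_sup (f := id) hr.1
      have := hr.2
      simp only [id_eq] at h1
      omega
    rw [this, XS_empty, Subgroup.mem_bot] at hx
    rw [hx]
    exact one_mem _
  | succ m ih =>
    intro k hk x hxS hxT
    by_cases hkS : k ∈ S
    · obtain ⟨t, p, hp, e⟩ := Y.exists_head hS hkS hxS
      have hkP := hS.1 hkS
      have hp' : p ∈ XS Y.x {r | r ∈ Y.P ∧ k < r} := XS_mono (fun r hr => by exact ⟨hS.1 hr.1, hr.2⟩) hp
      by_cases hkT : k ∈ T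
      · obtain ⟨u, q, hq, e'⟩ := Y.exists_head hT hkT hxT
        have hq' : q ∈ XS Y.x {r | r ∈ Y.P ∧ k < r} := XS_mono (fun r hr => by exact ⟨hT.1 hr.1, hr.2⟩) hq
        obtain ⟨-, rfl⟩ := Y.head_unique Y.closed_P hkP hp' hq' (e.symm.trans e')
        rw [e]
        exact mul_mem (x_mem_XS (Finset.mem_coe.2 (Finset.mem_inter.2 ⟨hkS, hkT⟩)) t)
          (ih (k + 1) (by omega) p hp hq)
      · rw [Unip.tail_of_not_mem hkT] at hxT
        have hx' : x ∈ XS Y.x {r | r ∈ Y.P ∧ k < r} := XS_mono (fun r hr => by exact ⟨hT.1 hr.1, hr.2⟩) hxT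
        have e2 : Y.x k t * p = Y.x k 0 * x := by rw [Y.x_zero hkP, one_mul, e]
        obtain ⟨-, rfl⟩ := Y.head_unique Y.closed_P hkP hp' hx' e2
        exact ih (k + 1) (by omega) p hp hxT
    · rw [Unip.tail_of_not_mem hkS] at hxS
      refine ih (k + 1) (by omega) x hxS ?_
      by_cases hkT : k ∈ T
      · obtain ⟨u, q, hq, e'⟩ := Y.exists_head hT hkT hxT
        have hkP := hT.1 hkT
        have hq' : q ∈ XS Y.x {r | r ∈ Y.P ∧ k < r} := XS_mono (fun r hr => by exact ⟨hT.1 hr.1, hr.2⟩) hq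
        have hx' : x ∈ XS Y.x {r | r ∈ Y.P ∧ k < r} := XS_mono (fun r hr => by exact ⟨hS.1 hr.1, hr.2⟩) hxS
        have e2 : Y.x k u * q = Y.x k 0 * x := by rw [Y.x_zero hkP, one_mul, e']
        obtain ⟨-, rfl⟩ := Y.head_unique Y.closed_P hkP hq' hx' e2
        exact hq
      · rwa [Unip.tail_of_not_mem hkT] at hxT

theorem closed_image {T : Finset ℕ} (hc : Q.sys.toUnip.Closed T) {i : ℕ} (hi : i < 8)
    (hw : ∀ r ∈ T, 120 ≤ Chevalley.E8.tab.w i r) :
    Q.sys.toUnip.Closed (T.image (Chevalley.E8.tab.w i)) := by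
  have hlt : ∀ r ∈ T, r < 240 := fun r hr => (mem_pos.1 (hc.1 hr)).1
  refine ⟨fun r hr => ?_, fun r hr s hs hne k hk => ?_⟩
  · obtain ⟨a, ha, rfl⟩ := Finset.mem_image.1 hr
    exact mem_pos.2 ⟨(Q.K.w_lt i hi a (hlt a ha)).1, hw a ha⟩
  · obtain ⟨a, ha, rfl⟩ := Finset.mem_image.1 hr
    obtain ⟨b, hb, rfl⟩ := Finset.mem_image.1 hs
    have ha' := Q.K.w_lt i hi a (hlt a ha)
    have hb' := Q.K.w_lt i hi b (hlt b hb)
    have h2 : Combo Q.K (Q.K.w i (Q.K.w i a)) (Q.K.w i (Q.K.w i b)) (Q.K.w i k) :=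
      combo_w Q.K hi ha'.1 hb'.1 hk
    rw [ha'.2, hb'.2] at h2
    have hk' : Q.K.w i k ∈ T := hc.2 a ha b hb (fun e => hne (by rw [e])) _ h2
    exact Finset.mem_image.2 ⟨_, hk', (Q.K.w_lt i hi k hk.1).2⟩

theorem conj_XS {T : Finset ℕ} (hT : ∀ r ∈ T, r < 240) {i : ℕ} (hi : i < 8) {y : Gr}
    (hy : y ∈ XS Q.sys.x (↑T : Set ℕ)) :
    nEl i * y * nEl i ∈ XS Q.sys.x (↑(T.image (Chevalley.E8.tab.w i)) : Set ℕ) := by
  conv in nEl i * y * nEl i => arg 2; rw [← nEl_inv hi]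
  refine conj_mem_XS (fun r hr t => ?_) hy
  rw [nEl_inv hi]
  show nEl i * el r t * nEl i ∈ _
  rw [nEl_conj hi (hT r (Finset.mem_coe.1 hr))]
  exact x_mem_XS (Finset.mem_coe.2 (Finset.mem_image_of_mem _ (Finset.mem_coe.1 hr))) t

theorem step {T : Finset ℕ} (hc : Q.sys.toUnip.Closed T) {i : ℕ} (hi : i < 8)
    (hw : ∀ r ∈ T, 120 ≤ Chevalley.E8.tab.w i r) :
    Q.sys.toUnip.Closed (stepT T i) ∧ ∀ x : Gr, x ∈ XS Q.sys.x (↑T : Set ℕ) →
      nEl i * x * nEl i ∈ XS Q.sys.x (↑T : Set ℕ) → x ∈ XS Q.sys.x (↑(stepT T i) : Set ℕ) := by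
  have hlt : ∀ r ∈ T, r < 240 := fun r hr => (mem_pos.1 (hc.1 hr)).1
  obtain ⟨h1, h2⟩ := inf_closed Q.sys.toUnip hc (closed_image hc hi hw)
  have e : T ∩ T.image (Chevalley.E8.tab.w i) = stepT T i := by
    ext r
    simp only [Finset.mem_inter, Finset.mem_image, stepT, Finset.mem_filter]
    refine and_congr_right fun hr => ⟨?_, fun h => ⟨_, h, (Q.K.w_lt i hi r (hlt r hr)).2⟩⟩
    rintro ⟨a, ha, rfl⟩
    rw [← w_eq, (Q.K.w_lt i hi a (hlt a ha)).2]
    exact ha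
  rw [e] at h1 h2
  refine ⟨h1, fun x hx hx' => h2 ⟨hx, ?_⟩⟩
  have := conj_XS hlt hi hx'
  rwa [show nEl i * (nEl i * x * nEl i) * nEl i = (nEl i * nEl i) * x * (nEl i * nEl i) by group,
    nEl_sq hi, one_mul, mul_one] at this

theorem descend {X : Subgroup Gr} (hn : NormIn (Lv 0) X) :
    ∀ (l : List ℕ) (T : Finset ℕ), Q.sys.toUnip.Closed T → okSeq T l = true →
      (∀ i ∈ l, i < 8 ∧ i ≠ 3) → X ≤ XS Q.sys.x (↑T : Set ℕ) →
      X ≤ XS Q.sys.x (↑(l.foldl stepT T) : Set ℕ)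
  | [], _, _, _, _, h => h
  | i :: l, T, hc, hok, hl, h => by
    obtain ⟨hi, h3⟩ := hl i List.mem_cons_self
    simp only [okSeq, Bool.and_eq_true, decide_eq_true_eq] at hok
    obtain ⟨h1, h2⟩ := step hc hi hok.1
    rw [List.foldl_cons]
    refine descend hn l _ h1 hok.2 (fun j hj => hl j (List.mem_cons_of_mem i hj))
      fun x hx => h2 x (h hx) (h ?_)
    have := hn _ (nEl_mem_M hi h3) x hx
    rwa [nEl_inv hi] at this

/-- A linear form on the coordinates. -/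
noncomputable def formI (z : List ℤ) (a : chevE8.Idx) : ℤ :=
  ((List.range 8).map fun m => z.getD m 0 * Q.K.cfI a m).sum

theorem formI_inr (z : List ℤ) (r : Fin chevE8.nroots) : formI z (.inr r) = form z r := rfl

/-- The matrices not lowering a form. -/
def stab (z : List ℤ) : Subgroup (GL chevE8.Idx F2) :=
  let S : Submonoid (GL chevE8.Idx F2) :=
    { carrier := {g | ∀ a b, (g : Matrix chevE8.Idx chevE8.Idx F2) a b ≠ 0 → formI z b ≤ formI z a}
      one_mem' := fun a b h => by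
        by_cases hab : a = b
        · rw [hab]
        · exact absurd (by rw [Units.val_one, Matrix.one_apply_ne hab]) h
      mul_mem' := fun {g h} hg hh a b hab => by
        rw [Units.val_mul, Matrix.mul_apply] at hab
        obtain ⟨c, -, hc⟩ := Finset.exists_ne_zero_of_sum_ne_zero hab
        exact le_trans (hh c b (right_ne_zero_of_mul hc)) (hg a c (left_ne_zero_of_mul hc)) }
  { S with
    inv_mem' := fun {g} hg => by
      have h1 : g⁻¹ = g ^ (orderOf g - 1) := by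
        refine inv_eq_of_mul_eq_one_right ?_
        rw [← pow_succ', Nat.sub_add_cancel (orderOf_pos g), pow_orderOf_eq_one]
      show g⁻¹ ∈ S
      rw [h1]
      exact pow_mem hg _ }

theorem el_mem_stab {z : List ℤ} {r : ℕ} (hr : r < 240) (h : 0 ≤ form z r) (t : F2) :
    (el r t : GL chevE8.Idx F2) ∈ stab z := by
  intro a b hab
  by_cases e : a = b
  · rw [e]
  have h1 : (chevE8.x F2 r t - 1) a b ≠ 0 := by
    rw [Matrix.sub_apply, Matrix.one_apply_ne e, sub_zero]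
    rwa [coe_el, Q.K.coe_xU] at hab
  rw [Q.K.x_eq hr, Matrix.sub_apply] at h1
  have h0 : (1 : Matrix chevE8.Idx chevE8.Idx F2) a b =
      (Chevalley.aMat chevE8 r 0 a b : F2) := by
    rw [Q.K.aMat_zero, Matrix.one_apply, Matrix.one_apply]; split_ifs <;> simp
  rw [h0] at h1
  simp only [Chevalley.xR, Matrix.of_apply] at h1
  rw [Finset.sum_range_succ' _ 3, pow_zero, mul_one, add_sub_cancel_right] at h1
  obtain ⟨k, -, hk⟩ := Finset.exists_ne_zero_of_sum_ne_zero h1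
  have hne : Chevalley.aMat chevE8 r (k + 1) a b ≠ 0 := fun e => hk (by simp [e])
  have key : formI z a = ((k + 1 : ℕ) : ℤ) * form z r + formI z b := by
    show (∑ m ∈ Finset.range 8, z.getD m 0 * Q.K.cfI a m) =
      _ * (∑ m ∈ Finset.range 8, z.getD m 0 * Q.K.cf r m) +
        ∑ m ∈ Finset.range 8, z.getD m 0 * Q.K.cfI b m
    rw [Finset.mul_sum, ← Finset.sum_add_distrib]
    refine Finset.sum_congr rfl fun m hm => ?_
    rw [Q.K.aMat_homog hr (k + 1) a b hne m (Finset.mem_range.1 hm)]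
    ring
  have hk' : (0 : ℤ) ≤ ((k + 1 : ℕ) : ℤ) * form z r := mul_nonneg (Int.natCast_nonneg _) h
  omega

theorem row_nEl {i : ℕ} (hi : i < 8) (u : Fin chevE8.nroots) (col : chevE8.Idx) :
    ((nEl i : GL chevE8.Idx F2) : Matrix chevE8.Idx chevE8.Idx F2) (.inr u) col =
      if col = .inr ⟨Q.K.w i u, (Q.K.w_lt i hi u u.isLt).1⟩ then 1 else 0 := by
  show ((Q.K.nS F2 i : GL chevE8.Idx F2) : Matrix chevE8.Idx chevE8.Idx F2) _ _ = _
  rw [Q.K.coe_nS F2 hi]
  simp only [Chevalley.Cert.nR, Matrix.map_apply]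
  rcases col with b | s
  · simp
  · rw [Chevalley.Cert.nMatZ_rr]
    have hiff : (u : ℕ) = Q.K.w i s ↔
        (Sum.inr s : chevE8.Idx) = .inr ⟨Q.K.w i u, (Q.K.w_lt i hi u u.isLt).1⟩ := by
      constructor
      · intro e
        refine congrArg _ (Fin.ext ?_)
        show (s : ℕ) = Q.K.w i u
        rw [e, (Q.K.w_lt i hi s s.isLt).2]
      · intro e
        have e' : (s : ℕ) = Q.K.w i u := congrArg Fin.val (Sum.inr_injective e)
        rw [e', (Q.K.w_lt i hi u u.isLt).2]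
    by_cases hu : (u : ℕ) = Q.K.w i s
    · rw [if_pos hu, if_pos (hiff.1 hu), sg_one]
    · rw [if_neg hu, if_neg (fun e => hu (hiff.2 e)), Int.cast_zero]

theorem row_rep (w : Q.X.M.Group) : ∀ (v : Fin chevE8.nroots) (col : chevE8.Idx),
    ((Q.sys.rep w : GL chevE8.Idx F2) : Matrix chevE8.Idx chevE8.Idx F2)
      (.inr (Q.X.good.hom w v)) col = if col = .inr v then 1 else 0 := by
  refine Sys.gen_induction (p := fun w => ∀ (v : Fin chevE8.nroots) (col : chevE8.Idx),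
    ((Q.sys.rep w : GL chevE8.Idx F2) : Matrix chevE8.Idx chevE8.Idx F2)
      (.inr (Q.X.good.hom w v)) col = if col = .inr v then 1 else 0) ?_ ?_ w
  · intro v col
    rw [Q.sys.rep_one, OneMemClass.coe_one, Units.val_one, map_one, Equiv.Perm.one_apply,
      Matrix.one_apply]
    simp only [eq_comm]
  · intro i w ih v col
    obtain ⟨h, hh, e⟩ := Q.sys.ns_rep (i := i) w
    rw [H_eq_one hh, one_mul] at e
    rw [← e, Subgroup.coe_mul, Units.val_mul, map_mul, Equiv.Perm.mul_apply,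
      Q.X.good.hom_simple, Matrix.mul_apply]
    have hi : (i : ℕ) < 8 := (Q.rank_eq.symm ▸ i.isLt : (i : ℕ) < chevE8.rank)
    set u := Q.X.good.hom w v
    have hu : (⟨Q.K.w i (Q.X.good.sigmaPerm i u), (Q.K.w_lt i hi _ (Fin.isLt _)).1⟩ :
        Fin chevE8.nroots) = u := by
      refine Fin.ext ?_
      show Q.K.w i (Q.X.good.sigmaPerm i u).val = u.val
      rw [Q.X.good.sigmaPerm_val, sigma_eq_w Q.X.good Q.K i.isLt u.isLt,
        (Q.K.w_lt i hi u u.isLt).2]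
    rw [Finset.sum_eq_single (Sum.inr u : chevE8.Idx)]
    · rw [show Q.sys.ns i = nEl i from rfl, row_nEl hi, hu, if_pos rfl, one_mul, ih v col]
    · intro c _ hc
      rw [show Q.sys.ns i = nEl i from rfl, row_nEl hi, hu, if_neg hc, zero_mul]
    · simp

/-- A product of fundamental monomial elements. -/
noncomputable def nList (L : List ℕ) : Gr := (L.map nEl).prod

theorem nList_spec : ∀ L : List ℕ, (∀ i ∈ L, i < 8 ∧ i ≠ 3) → nList L ∈ Lv 0 ∧
    ∀ r, r < 240 → ∀ t, nList L * el r t * (nList L)⁻¹ = el (L.foldr Chevalley.E8.tab.w r) t ∧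
      L.foldr Chevalley.E8.tab.w r < 240
  | [], _ => ⟨one_mem _, fun r hr t => by simp [nList, hr]⟩
  | i :: L, h => by
    obtain ⟨hi, h3⟩ := h i List.mem_cons_self
    obtain ⟨h1, h2⟩ := nList_spec L fun j hj => h j (List.mem_cons_of_mem i hj)
    have e : nList (i :: L) = nEl i * nList L := by simp [nList]
    refine ⟨e ▸ mul_mem (nEl_mem_M hi h3) h1, fun r hr t => ?_⟩
    obtain ⟨e1, hlt⟩ := h2 r hr t
    refine ⟨?_, (Q.K.w_lt i hi _ hlt).1⟩
    rw [e, List.foldr_cons, show nEl i * nList L * el r t * (nEl i * nList L)⁻¹ =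
      nEl i * (nList L * el r t * (nList L)⁻¹) * (nEl i)⁻¹ by group, e1, nEl_inv hi,
      nEl_conj hi hlt]

theorem M_le_stab : ∀ y ∈ Lv 0, (y : GL chevE8.Idx F2) ∈ stab [0, 0, 0, 1, 0, 0, 0, 0] := by
  intro y hy
  refine coe_mem_of_XS Q.K (fun r hr t => ?_) hy
  obtain ⟨h1, h2⟩ := mem_lvl.1 (Finset.mem_coe.1 hr)
  exact el_mem_stab h1 (by rw [co_form r h1]; exact_mod_cast h2) t

/-- The branch reflection. -/
noncomputable def gEl : Gr := nEl 3

theorem g_sq : gEl * gEl = 1 := nEl_sq (by decide)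

theorem gEl_inv : gEl⁻¹ = gEl := nEl_inv (by decide)

theorem mem_cjg {X : Subgroup Gr} {x : Gr} : x ∈ cj gEl X ↔ gEl * x * gEl ∈ X :=
  ⟨fun h => by
    obtain ⟨y, hy, rfl⟩ := Subgroup.mem_map.1 h
    rw [MulEquiv.coe_toMonoidHom, MulAut.conj_apply, gEl_inv,
      show gEl * (gEl * y * gEl) * gEl = (gEl * gEl) * y * (gEl * gEl) by group, g_sq, one_mul,
      mul_one]
    exact hy,
  fun h => Subgroup.mem_map.2 ⟨gEl * x * gEl, h, by
    rw [MulEquiv.coe_toMonoidHom, MulAut.conj_apply, gEl_inv,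
      show gEl * (gEl * x * gEl) * gEl = (gEl * gEl) * x * (gEl * gEl) by group, g_sq, one_mul,
      mul_one]⟩⟩

theorem g_not_mem : gEl ∉ Lv 0 := by
  intro h
  have hs := Q.K.simple_lt 3 (by decide)
  set u : Fin chevE8.nroots := ⟨chevE8.neg (chevE8.simple 3), Q.K.neg_lt hs.1⟩
  set v : Fin chevE8.nroots := ⟨Q.K.w 3 u, (Q.K.w_lt 3 (by decide) u u.isLt).1⟩
  have h1 := M_le_stab _ h (.inr u) (.inr v) (by
    rw [show gEl = nEl 3 from rfl, row_nEl (by decide), if_pos rfl]; exact one_ne_zero)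
  rw [formI_inr, formI_inr, co_form _ v.isLt, co_form _ u.isLt, co_cf, co_cf] at h1
  have e1 : Q.K.cf u 3 = -1 := by
    show Q.K.cf (chevE8.neg (chevE8.simple 3)) 3 = -1
    rw [Q.K.cf_neg _ hs.1 3 (by decide), Q.K.cf_simple 3 (by decide) 3 (by decide), if_pos rfl]
  have e2 : Q.K.cf v 3 = 1 := by
    show Q.K.cf (Q.K.w 3 (chevE8.neg (chevE8.simple 3))) 3 = 1
    rw [← Q.K.w_simple (by decide : 3 < chevE8.rank), (Q.K.w_lt 3 (by decide) _ hs.1).2,
      Q.K.cf_simple 3 (by decide) 3 (by decide), if_pos rfl]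
  omega

theorem coatom : IsCoatom (Lv 0) := by
  refine ⟨fun h => g_not_mem (h ▸ Subgroup.mem_top _), fun M' hlt => ?_⟩
  have hB : Q.amb.pair.B ≤ Lv 0 := by
    rw [Q.amb.pair_B, Q.amb.B_eq_sup]
    exact sup_le U_le_M fun h hh => by rw [H_eq_one hh]; exact one_mem _
  by_cases hg : gEl ∈ M'
  · refine Q.sys.top M' (fun r hr hp t => hlt.le (U_le_M (Q.sys.x_mem_U hr hp t)))
      (fun h hh => by rw [H_eq_one hh]; exact one_mem _) fun i hi => ?_
    have hi' : i < 8 := (Q.rank_eq.symm ▸ hi : i < chevE8.rank)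
    by_cases h3 : i = 3
    · subst h3; exact hg
    · exact hlt.le (nEl_mem_M hi' h3)
  · refine absurd ?_ (not_le_of_gt hlt)
    rw [H27.BN.eq_parabolic_of_le Q.amb.pair M' (hB.trans hlt.le)]
    refine H27.BN.parabolic_le Q.amb.pair hB ?_
    rintro x ⟨hxS, hxM⟩
    have hxS' : x ∈ Q.amb.n '' Q.amb.S := hxS
    rw [Q.amb_S] at hxS'
    obtain ⟨i, hi, hx⟩ := hxS'
    obtain rfl : x = nEl i := Subtype.ext (Units.ext (hx.trans (Q.K.coe_nU F2 _ _).symm))
    exact nEl_mem_M hi fun h3 => hg (by subst h3; exact hxM)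

theorem le_U {X : Subgroup Gr} (hXM : X ≤ Lv 0) (hn : NormIn (Lv 0) X)
    (hg : X ≤ cj gEl (Lv 0)) : X ≤ Q.sys.U := by
  intro x hx
  obtain ⟨u, hu, h, hh, w, v, hv, e⟩ := Q.amb.exists_eq x
  have hvU : v ∈ Q.sys.U := Q.sys.Uw_le w hv
  have hh1 : h = 1 := H_eq_one hh
  set y := Q.sys.rep w * (v * u) with hy
  have hyX : y ∈ X := by
    have := hn _ (inv_mem (U_le_M hu)) x hx
    convert this using 1
    rw [e, hh1, hy]
    show Q.sys.rep w * (v * u) = u⁻¹ * (u * 1 * Q.sys.rep w * v) * (u⁻¹)⁻¹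
    group
  have hentry : ∀ r : Fin chevE8.nroots, ((y : GL chevE8.Idx F2) :
      Matrix chevE8.Idx chevE8.Idx F2) (.inr (Q.X.good.hom w r)) (.inr r) ≠ 0 := by
    intro r
    rw [hy, Subgroup.coe_mul, Units.val_mul, Matrix.mul_apply,
      Finset.sum_eq_single (Sum.inr r : chevE8.Idx)]
    · rw [row_rep w r, if_pos rfl, one_mul]
      have h1 : v * u ∈ Q.amb.U := mul_mem hvU hu
      rw [Q.amb_U, Subgroup.mem_subgroupOf] at h1
      rw [Chevalley.Uni.pos_diag_one Q h1]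
      exact one_ne_zero
    · intro c _ hc
      rw [row_rep w r, if_neg hc, zero_mul]
    · simp
  have hmono : ∀ z : List ℤ, (y : GL chevE8.Idx F2) ∈ stab z →
      ∀ r, form z r.val = form z (Q.X.good.hom w r).val := by
    intro z hz
    have hle : ∀ r : Fin chevE8.nroots, form z r.val ≤ form z (Q.X.good.hom w r).val := fun r => by
      simpa only [formI_inr] using hz _ _ (hentry r)
    by_contra hcon
    simp only [not_forall] at hcon
    obtain ⟨r, hr⟩ := hcon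
    have h1 := Finset.sum_lt_sum (s := Finset.univ) (fun a _ => hle a)
      ⟨r, Finset.mem_univ r, lt_of_le_of_ne (hle r) hr⟩
    exact lt_irrefl _ (h1.trans_eq (Equiv.sum_comp (Q.X.good.hom w)
      fun r : Fin chevE8.nroots => form z r.val))
  have hforms : ∀ p ∈ forms, (y : GL chevE8.Idx F2) ∈ stab p.2 := by
    intro p hp
    obtain ⟨hL, hpos⟩ := forms_ok p hp
    obtain ⟨hLM, hconj⟩ := nList_spec p.1 hL
    have hy0 := hn _ (inv_mem hLM) y hyX
    have hy1 := mem_cjg.1 (hg hy0)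
    have hle : Lv 0 ≤ ((stab p.2).comap (chevE8.group F2).subtype).comap
        (MulAut.conj (nList p.1 * gEl)).toMonoidHom := by
      refine XS_le fun r hr t => ?_
      obtain ⟨h1, -⟩ := mem_lvl.1 (Finset.mem_coe.1 hr)
      show (((nList p.1 * gEl) * el r t * (nList p.1 * gEl)⁻¹ : Gr) : GL chevE8.Idx F2) ∈ stab p.2
      rw [show (nList p.1 * gEl) * el r t * (nList p.1 * gEl)⁻¹ =
        nList p.1 * (gEl * el r t * gEl⁻¹) * (nList p.1)⁻¹ by group,
        gEl_inv,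
        show gEl * el r t * gEl = el (Chevalley.E8.tab.w 3 r) t from nEl_conj (i := 3) (by decide) h1 t]
      obtain ⟨e1, hlt⟩ := hconj (Chevalley.E8.tab.w 3 r) (Q.K.w_lt 3 (by decide) r h1).1 t
      rw [e1]
      exact el_mem_stab hlt (hpos r (Finset.mem_coe.1 hr)) t
    have h2 := hle hy1
    simp only [Subgroup.mem_comap, MulEquiv.coe_toMonoidHom, MulAut.conj_apply, Subgroup.coe_subtype,
      inv_inv] at h2
    rw [show nList p.1 * gEl * (gEl * ((nList p.1)⁻¹ * y * nList p.1) * gEl) * (nList p.1 * gEl)⁻¹ =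
      nList p.1 * (gEl * gEl) * (nList p.1)⁻¹ * y * (nList p.1 * (gEl * gEl⁻¹) * (nList p.1)⁻¹)
      by group] at h2
    simpa [g_sq] using h2
  have hco : (y : GL chevE8.Idx F2) ∈ stab [0, 0, 0, 1, 0, 0, 0, 0] := M_le_stab _ (hXM hyX)
  have hfix : ∀ r : Fin chevE8.nroots, (Q.X.good.hom w r).val = r.val := by
    intro r
    have hs : sig (Q.X.good.hom w r).val = sig r.val := by
      refine congrArg₂ List.cons ?_ (List.map_congr_left fun p hp => ?_)
      · rw [← co_form (Q.X.good.hom w r).val (Q.X.good.hom w r).isLt, ← co_form r.val r.isLt]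
        exact (hmono _ hco r).symm
      · exact (hmono _ (hforms p hp) r).symm
    exact List.inj_on_of_nodup_map sig_inj (List.mem_range.2 (Fin.isLt _))
      (List.mem_range.2 r.isLt) hs
  have hw : w = 1 := by
    by_contra hw
    obtain ⟨i, hi, hlt⟩ := Q.X.good.exists_descent hw
    rw [hfix] at hlt
    have := (Q.X.good.simple_spec hi).1
    simp only at hlt
    omega
  rw [e, hh1, hw]
  show u * 1 * Q.sys.rep 1 * v ∈ Q.sys.U
  rw [Q.sys.rep_one, mul_one, mul_one]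
  exact mul_mem hu hvU

theorem exists_el_of_singleton {r : ℕ} (hr : r < 240) {a : Gr}
    (ha : a ∈ XS Q.sys.x ({r} : Set ℕ)) : ∃ t, a = el r t := by
  induction ha using Subgroup.closure_induction with
  | mem a ha => obtain ⟨s, rfl, t, rfl⟩ := ha; exact ⟨t, rfl⟩
  | one => exact ⟨0, (el_zero r).symm⟩
  | mul a b _ _ iha ihb =>
    obtain ⟨t, rfl⟩ := iha
    obtain ⟨u, rfl⟩ := ihb
    exact ⟨t + u, (Q.sys.x_add' r hr t u).symm⟩
  | inv a _ iha =>
    obtain ⟨t, rfl⟩ := iha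
    exact ⟨t, el_inv r t⟩

theorem le_erase {X : Subgroup Gr} (hn : NormIn (Lv 0) X) (hU : X ≤ Q.sys.U)
    (hg : X ≤ cj gEl (Lv 0)) {i : ℕ} (hi : i < 8) :
    X ≤ XS Q.sys.x (↑((posSet chevE8).erase (chevE8.simple i)) : Set ℕ) := by
  intro x hx
  have hs := Q.K.simple_lt i hi
  obtain ⟨a, ha, b, hb, e⟩ := Q.sys.toUnip.exists_split Q.sys.toUnip.closed_P
    ({chevE8.simple i} : Set ℕ) (↑((posSet chevE8).erase (chevE8.simple i)) : Set ℕ)
    (fun r hr => by
      by_cases h : r = chevE8.simple i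
      · exact Or.inl h
      · exact Or.inr (Finset.mem_coe.2 (Finset.mem_erase.2 ⟨h, hr⟩)))
    (hU hx)
  obtain ⟨t, rfl⟩ := exists_el_of_singleton hs.1 ha
  have hb' : nEl i * b * nEl i ∈ Q.sys.U := by
    refine XS_mono ?_ (conj_XS (fun r hr => (mem_pos.1 (Finset.mem_of_mem_erase hr)).1) hi hb)
    intro r hr
    obtain ⟨c, hc, rfl⟩ := Finset.mem_image.1 (Finset.mem_coe.1 hr)
    obtain ⟨h1, h2⟩ := Finset.mem_erase.1 hc
    obtain ⟨h3, h4⟩ := mem_pos.1 h2
    exact Finset.mem_coe.2 (mem_pos.2 ⟨(Q.K.w_lt i hi c h3).1, Q.K.w_pos i hi c h3 h4 h1⟩)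
  have hwi : Chevalley.E8.tab.w i (chevE8.simple i) = chevE8.neg (chevE8.simple i) :=
    Q.K.w_simple hi
  have econj : nEl i * x * nEl i =
      el (chevE8.neg (chevE8.simple i)) t * (nEl i * b * nEl i) := by
    rw [← hwi, ← nEl_conj hi hs.1, e, show nEl i * el (chevE8.simple i) t * nEl i *
      (nEl i * b * nEl i) = nEl i * el (chevE8.simple i) t * (nEl i * nEl i) * b * nEl i by group,
      nEl_sq hi, mul_one]
    group
  have hel : el (chevE8.neg (chevE8.simple i)) t =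
      nEl i * x * nEl i * (nEl i * b * nEl i)⁻¹ := by
    rw [econj, mul_inv_cancel_right]
  have ht : t = 0 := by
    by_cases h3 : i = 3
    · subst h3
      by_contra ht
      rw [eq_one_of_ne ht] at hel
      have hm : el (chevE8.neg (chevE8.simple 3)) 1 ∈ Lv 0 :=
        hel ▸ mul_mem (mem_cjg.1 (hg hx)) (inv_mem (U_le_M hb'))
      refine g_not_mem ?_
      have e3 : gEl = el (chevE8.simple 3) 1 * el (chevE8.neg (chevE8.simple 3)) (-1⁻¹) *
        el (chevE8.simple 3) 1 := Subtype.ext (Q.K.nU_eq F2 _ 1)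
      rw [e3, show (-1⁻¹ : F2) = 1 by rw [inv_one, neg_self]]
      exact mul_mem (mul_mem (U_le_M (Q.sys.x_mem_U hs.1 hs.2 1)) hm)
        (U_le_M (Q.sys.x_mem_U hs.1 hs.2 1))
    · have hm : el (chevE8.neg (chevE8.simple i)) t ∈ Q.sys.U := by
        rw [hel]
        refine mul_mem (hU ?_) (inv_mem hb')
        have := hn _ (nEl_mem_M hi h3) x hx
        rwa [nEl_inv hi] at this
      have hneg : chevE8.neg (chevE8.simple i) < chevE8.nroots / 2 := by
        rw [Q.K.neg_eq _ hs.1]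
        have h1 := hs.1
        have h2 := hs.2
        rw [nroots_eq] at h1 h2 ⊢
        omega
      exact (Q.K.xU_eq_one_iff F2 (Q.K.neg_lt hs.1) t).1
        (congrArg Subtype.val (Q.sys.x_neg_eq_one (Q.K.neg_lt hs.1) hneg hm))
  rw [e, ht, el_zero, one_mul]
  exact hb

theorem le_start {X : Subgroup Gr} (hn : NormIn (Lv 0) X) (hU : X ≤ Q.sys.U)
    (hg : X ≤ cj gEl (Lv 0)) :
    Q.sys.toUnip.Closed start ∧ X ≤ XS Q.sys.x (↑start : Set ℕ) := by
  have hbase : (Finset.range 240).filter (120 ≤ ·) = posSet chevE8 := by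
    ext r; rw [mem_pos]; simp [Finset.mem_filter]
  suffices ∀ (l : List ℕ) (T : Finset ℕ), (∀ i ∈ l, i < 8) → Q.sys.toUnip.Closed T →
      X ≤ XS Q.sys.x (↑T : Set ℕ) →
      Q.sys.toUnip.Closed (l.foldl (fun T i => T.erase (chevE8.simple i)) T) ∧
        X ≤ XS Q.sys.x (↑(l.foldl (fun T i => T.erase (chevE8.simple i)) T) : Set ℕ) by
    unfold start
    rw [hbase]
    exact this _ _ (fun i hi => List.mem_range.1 hi) Q.sys.toUnip.closed_P hU
  intro l
  induction l with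
  | nil => intro T _ h1 h2; exact ⟨h1, h2⟩
  | cons i l ih =>
    intro T hl hc hX
    have hi := hl i List.mem_cons_self
    obtain ⟨h1, h2⟩ := inf_closed Q.sys.toUnip hc (Chevalley.Uni.closed_erase Q (i := i) hi)
    have e : T ∩ (posSet chevE8).erase (chevE8.simple i) = T.erase (chevE8.simple i) := by
      ext r
      simp only [Finset.mem_inter, Finset.mem_erase]
      exact ⟨fun h => ⟨h.2.1, h.1⟩, fun h => ⟨h.2, h.1, hc.1 h.2⟩⟩
    rw [e] at h1 h2
    exact ih _ (fun j hj => hl j (List.mem_cons_of_mem i hj)) h1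
      fun x hx => h2 ⟨hX hx, le_erase hn hU hg hi hx⟩

theorem up_one {X : Subgroup Gr} (hXM : X ≤ Lv 0) (hn : NormIn (Lv 0) X)
    (hg : X ≤ cj gEl (Lv 0)) : X ≤ Lv 2 := by
  obtain ⟨h1, h2⟩ := le_start hn (le_U hXM hn hg) hg
  obtain ⟨hok, hfin, hl⟩ := seq_one
  have := descend hn _ _ h1 hok hl h2
  rwa [hfin] at this

theorem closed_lvl {j : ℕ} (hj : 1 ≤ j) : Q.sys.toUnip.Closed (lvl j) := by
  have hsub : ∀ r ∈ lvl j, r ∈ posSet chevE8 := fun r hr => by
    obtain ⟨h1, h2⟩ := mem_lvl.1 hr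
    exact mem_pos.2 ⟨h1, lvl_pos r (mem_lvl.2 ⟨h1, le_trans (by exact_mod_cast hj) h2⟩)⟩
  refine ⟨hsub, fun r hr s hs _ k hk => ?_⟩
  obtain ⟨hk1, a, b, ha, hb, e⟩ := (hk : Combo Q.K r s k)
  refine mem_lvl.2 ⟨hk1, ?_⟩
  have hr2 := (mem_lvl.1 hr).2
  have hs2 := (mem_lvl.1 hs).2
  rw [co_cf, e 3 (by decide), ← co_cf, ← co_cf]
  have ha' : (1 : ℤ) ≤ a := by exact_mod_cast ha
  have hb' : (1 : ℤ) ≤ b := by exact_mod_cast hb
  nlinarith

theorem up_succ {j : ℕ} (hj : j ∈ [2, 3, 4, 5, 6]) {X : Subgroup Gr} (hn : NormIn (Lv 0) X)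
    (h : X ≤ Lv j) (hg : X ≤ cj gEl (Lv j)) : X ≤ Lv (j + 1) := by
  obtain ⟨hpos, hok, hfin, hl⟩ := seq_high j hj
  have h1 : 1 ≤ j := by
    simp only [List.mem_cons, List.not_mem_nil, or_false] at hj
    omega
  obtain ⟨hc, hs⟩ := step (closed_lvl h1) (i := 3) (by decide) (fun r hr => (hpos r hr).2)
  have := descend hn _ _ hc hok hl fun x hx => hs x (h hx) (mem_cjg.1 (hg hx))
  rwa [hfin] at this

theorem low_g {j : ℕ} (hj : j ∈ [1, 2, 3, 4, 5]) : Lv (j + 1) ≤ cj gEl (Lv j) :=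
  XS_le fun r hr t => by
    obtain ⟨h1, -⟩ := mem_lvl.1 (Finset.mem_coe.1 hr)
    rw [mem_cjg, show gEl * Q.sys.x r t * gEl = el (Chevalley.E8.tab.w 3 r) t from
      nEl_conj (i := 3) (by decide) h1 t]
    exact el_mem_Lv (Q.K.w_lt 3 (by decide) r h1).1 (lower j hj r (Finset.mem_coe.1 hr)) t

theorem main :
    ∃ (G : Type) (_ : Group G) (_ : Finite G) (M₁ M₂ : Subgroup G) (g : G) (A B : ℕ → Subgroup G),
      IsCoatom M₁ ∧ M₂ = M₁.map (MulAut.conj g).toMonoidHom ∧ M₁ ≠ M₂ ∧ M₁.normalCore = ⊥ ∧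
      A 0 = M₁ ∧ B 0 = M₂ ∧
      (∀ i, A (i + 1) = ((A i ⊓ B i).subgroupOf M₁).normalCore.map M₁.subtype) ∧
      (∀ i, B (i + 1) = ((A i ⊓ B i).subgroupOf M₂).normalCore.map M₂.subtype) ∧
      A 6 = ⊥ ∧ A 5 ≠ ⊥ := by
  have h6 : Lv 6 ≠ ⊥ := by
    intro h
    have hm := el_mem_Lv (j := 6) (r := 239) (by decide) (mem_lvl.1 top_mem).2 1
    rw [h, Subgroup.mem_bot] at hm
    exact Q.sys.x_one_ne (r := 239) (by decide) (by decide) hm
  have hup : ∀ i, i < 6 → ∀ X : Subgroup Gr, X ≤ Lv 0 → NormIn (Lv 0) X →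
      X ≤ (if i = 0 then Lv 0 else Lv (i + 1)) →
      X ≤ cj gEl (if i = 0 then Lv 0 else Lv (i + 1)) →
      X ≤ (if i + 1 = 0 then Lv 0 else Lv (i + 1 + 1)) := by
    intro i hi X hXM hn h1 h2
    rw [if_neg (Nat.succ_ne_zero i)]
    by_cases h0 : i = 0
    · subst h0
      rw [if_pos rfl] at h2
      exact up_one hXM hn h2
    · rw [if_neg h0] at h1 h2
      exact up_succ (by interval_cases i <;> simp_all) hn h1 h2
  obtain ⟨M₂, A, B, h⟩ := exists_sequences (M := Lv 0) g_sq coatom (fun i => Lv (i + 1))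
    (fun i => if i = 0 then Lv 0 else Lv (i + 1)) (Lv_le_M 1)
    (fun i _ => XS_mono fun r hr => Finset.mem_coe.2 (mem_lvl.2
      ⟨(mem_lvl.1 (Finset.mem_coe.1 hr)).1, by
        have := (mem_lvl.1 (Finset.mem_coe.1 hr)).2
        push_cast at this ⊢
        omega⟩))
    (fun i hi => low_g (by interval_cases i <;> decide))
    (fun i => normIn_Lv (Nat.le_add_left 1 i)) h6 rfl
    (by show Lv 7 = ⊥; rw [Lv, lvl_seven, Finset.coe_empty, XS_empty]) hup
  exact ⟨Gr, inferInstance, inferInstance, Lv 0, M₂, gEl, A, B, h⟩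

end Cfsg.Agent.H41.E8Cores
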