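import Cfsg.Prelude.Def_OddOrderLocal
import Cfsg.Agent.H41.Uniqueness
import Cfsg.Agent.H41.NormalElementary
import Cfsg.Agent.H41.RankTwo
import Cfsg.Agent.S1399
import Cfsg.Agent.S0126

/-!
Propagating membership in exactly one maximal subgroup along centralizers.
-/

set_option autoImplicit false

namespace Cfsg.Agent.H41

open Subgroup

variable {G : Type*} [Group G]

theorem inUniqueMaximal_map_equiv {H : Type*} [Group H] (e : G ≃* H) {X : Subgroup G}
    (h : Cfsg.InUniqueMaximal X) : Cfsg.InUniqueMaximal (X.map e.toMonoidHom) := by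
  obtain ⟨M, ⟨hM, hXM⟩, hu⟩ := h
  refine ⟨e.mapSubgroup M, ⟨(OrderIso.isCoatom_iff e.mapSubgroup M).mpr hM, Subgroup.map_mono hXM⟩, ?_⟩
  rintro N ⟨hN, hXN⟩
  have h1 : IsCoatom (e.mapSubgroup.symm N) := (OrderIso.isCoatom_iff e.mapSubgroup.symm N).mpr hN
  have h2 : X ≤ e.mapSubgroup.symm N :=
    e.mapSubgroup.le_symm_apply.mpr hXN
  rw [← hu _ ⟨h1, h2⟩, OrderIso.apply_symm_apply]

theorem inUniqueMaximal_of_le [Finite G] {X Y : Subgroup G} (h : Cfsg.InUniqueMaximal X) (hXY : X ≤ Y)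
    (hY : Y ≠ ⊤) : Cfsg.InUniqueMaximal Y := by
  obtain ⟨M, -, hu⟩ := h
  obtain ⟨N, hN, hYN⟩ := (eq_top_or_exists_le_coatom Y).resolve_left hY
  exact ⟨N, ⟨hN, hYN⟩, fun N' hN' =>
    (hu N' ⟨hN'.1, hXY.trans hN'.2⟩).trans (hu N ⟨hN, hXY.trans hYN⟩).symm⟩

theorem not_pRankLE {p : ℕ} (hp : 1 < p) {k : ℕ} {X E : Subgroup G} (hEX : E ≤ X)
    (hc : IsMulCommutative E) (he : ∀ a ∈ E, a ^ p = 1) (hcard : p ^ (k + 1) ≤ Nat.card E) :
    ¬ Cfsg.PRankLE p k X := by
  intro h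
  have h1 := h (E.subgroupOf X) (PGroups.isMulCommutative_of_comm fun a ha b hb =>
    Subtype.ext (PGroups.comm_of_isMulCommutative hc ha hb))
    (fun a ha => Subtype.ext (by simpa using he (a : G) ha))
  rw [Nat.card_congr (subgroupOfEquivOfLe hEX).toEquiv] at h1
  exact absurd (hcard.trans h1) (not_le.mpr (Nat.pow_lt_pow_right hp (Nat.lt_succ_self k)))

theorem not_rankLE {p : ℕ} (hp : p.Prime) {k : ℕ} {X E : Subgroup G} (hEX : E ≤ X)
    (hc : IsMulCommutative E) (he : ∀ a ∈ E, a ^ p = 1) (hcard : p ^ (k + 1) ≤ Nat.card E) :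
    ¬ Cfsg.RankLE k X := fun h => not_pRankLE hp.one_lt hEX hc he hcard (h p hp)

/-- An elementary abelian subgroup of order `p ^ (k+1)` from a failure of `PRankLE`. -/
theorem exists_elementary_of_not_pRankLE [Finite G] {p : ℕ} [Fact p.Prime] {k : ℕ} {X : Subgroup G}
    (h : ¬ Cfsg.PRankLE p k X) :
    ∃ E : Subgroup G, E ≤ X ∧ IsMulCommutative E ∧ (∀ a ∈ E, a ^ p = 1) ∧ Nat.card E = p ^ (k + 1) := by
  have hpr : p.Prime := Fact.out
  simp only [Cfsg.PRankLE] at h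
  push Not at h
  obtain ⟨E₀, hc, he, hcard⟩ := h
  have hE : IsPGroup p E₀ := fun x => ⟨1, Subtype.ext (by simpa using he x x.2)⟩
  obtain ⟨n, hn⟩ := IsPGroup.iff_card.1 hE
  rw [hn] at hcard
  have hkn : p ^ (k + 1) ≤ Nat.card E₀ := by
    rw [hn]
    exact Nat.pow_le_pow_right hpr.pos ((Nat.pow_lt_pow_iff_right hpr.one_lt).1 hcard)
  obtain ⟨F, hF, hFc⟩ := exists_le_card_eq (p := p) he hkn
  refine ⟨F.map X.subtype, map_subtype_le F, PGroups.isMulCommutative_of_comm ?_, ?_, ?_⟩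
  · rintro _ ⟨a, ha, rfl⟩ _ ⟨b, hb, rfl⟩
    rw [← map_mul, ← map_mul, PGroups.comm_of_isMulCommutative hc (hF ha) (hF hb)]
  · rintro _ ⟨a, ha, rfl⟩
    exact congrArg Subtype.val (he a (hF ha))
  · rw [Nat.card_congr (F.equivMapOfInjective _ X.subtype_injective).symm.toEquiv, hFc]

/-- A noncyclic `p`-subgroup (`p` odd) contains an elementary abelian subgroup of order `p ^ 2`. -/
theorem exists_elementary_sq_of_not_isCyclic [Finite G] {p : ℕ} [Fact p.Prime] (hp : p ≠ 2)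
    {B : Subgroup G} (hB : IsPGroup p B) (hnc : ¬ IsCyclic B) :
    ∃ E : Subgroup G, E ≤ B ∧ IsMulCommutative E ∧ (∀ a ∈ E, a ^ p = 1) ∧ Nat.card E = p ^ 2 := by
  obtain ⟨A, -, ⟨hAc, hAe⟩, hA⟩ := Cfsg.Agent.S0126.result hp hB hnc
  refine ⟨A.map B.subtype, map_subtype_le A, PGroups.isMulCommutative_of_comm ?_, ?_, ?_⟩
  · rintro _ ⟨a, ha, rfl⟩ _ ⟨b, hb, rfl⟩
    rw [← map_mul, ← map_mul, PGroups.comm_of_isMulCommutative hAc ha hb]
  · rintro _ ⟨a, ha, rfl⟩
    rw [← map_pow, hAe a ha, map_one]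
  · rw [Nat.card_congr (A.equivMapOfInjective _ B.subtype_injective).symm.toEquiv, hA]

theorem pne2_of_card_dvd (hG : Odd (Nat.card G)) {p : ℕ} (h : p ∣ Nat.card G) : p ≠ 2 := by
  rintro rfl
  exact Nat.not_even_iff_odd.mpr hG (even_iff_two_dvd.mpr h)

theorem prime_dvd_card_of_elementary [Finite G] {p : ℕ} [Fact p.Prime] {E : Subgroup G} {k : ℕ}
    (hE : Nat.card E = p ^ (k + 1)) : p ∣ Nat.card G :=
  (dvd_pow_self p (Nat.succ_ne_zero k)).trans (hE ▸ card_subgroup_dvd_card E)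

/-- Two elementary subgroups of order `p ^ 3` in one `p`-group: uniqueness passes from one to the
other. -/
theorem inUniqueMaximal_transfer [Finite G] (hG : Cfsg.IsMinSimpleOddOrder G) {p : ℕ} [Fact p.Prime]
    {Q A E₁ E₂ : Subgroup G} (hQ : IsPGroup p Q) (hAc : IsMulCommutative A) (hAU : Cfsg.InUniqueMaximal A)
    (h1A : E₁ ≤ A) (h1Q : E₁ ≤ Q) (h1c : IsMulCommutative E₁) (h1e : ∀ a ∈ E₁, a ^ p = 1)
    (h1 : Nat.card E₁ = p ^ 3) (h2Q : E₂ ≤ Q) (h2c : IsMulCommutative E₂) (h2e : ∀ a ∈ E₂, a ^ p = 1)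
    (h2 : Nat.card E₂ = p ^ 3) : Cfsg.InUniqueMaximal E₂ := by
  have hpr : p.Prime := Fact.out
  have hp2 : p ≠ 2 := pne2_of_card_dvd hG.1 (prime_dvd_card_of_elementary (k := 2) h1)
  obtain ⟨E₀, hE₀n, hE₀c, hE₀e, hE₀⟩ := exists_normal_elementary_sq hp2 hQ (E := E₁.subgroupOf Q)
    (PGroups.isMulCommutative_of_comm fun a ha b hb =>
      Subtype.ext (PGroups.comm_of_isMulCommutative h1c ha hb))
    (fun a ha => Subtype.ext (by simpa using h1e (a : G) ha))
    (by rw [Nat.card_congr (subgroupOfEquivOfLe h1Q).toEquiv, h1]; exact Nat.pow_le_pow_right hpr.pos (by norm_num))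
  set E := E₀.map Q.subtype with hE
  have hEc : IsMulCommutative E := PGroups.isMulCommutative_of_comm fun a ha b hb => by
    obtain ⟨a', ha', rfl⟩ := ha
    obtain ⟨b', hb', rfl⟩ := hb
    rw [← map_mul, ← map_mul, PGroups.comm_of_isMulCommutative hE₀c ha' hb']
  have hEe : ∀ a ∈ E, a ^ p = 1 := by
    rintro _ ⟨a, ha, rfl⟩
    rw [← map_pow, hE₀e a ha, map_one]
  have hEcard : Nat.card E = p ^ 2 := by
    rw [hE, Nat.card_congr (E₀.equivMapOfInjective _ Q.subtype_injective).symm.toEquiv, hE₀]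
  -- an elementary subgroup of order `p ^ 3` meets `C(E)` in order at least `p ^ 2`
  have key : ∀ F : Subgroup G, F ≤ Q → Nat.card F = p ^ 3 →
      p ^ (1 + 1) ≤ Nat.card ↥(F ⊓ centralizer (E : Set G)) := by
    intro F hFQ hF
    haveI := hE₀n
    have h := card_le_mul_inf_centralizer hQ E₀ hE₀.le (F.subgroupOf Q)
    rw [Nat.card_congr (subgroupOfEquivOfLe hFQ).toEquiv, hF, pow_succ'] at h
    refine (Nat.le_of_mul_le_mul_left h hpr.pos).trans (le_of_eq ?_)
    have h4 : F.subgroupOf Q ⊓ centralizer (E₀ : Set Q) = (F ⊓ centralizer (E : Set G)).subgroupOf Q := by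
      ext x
      simp only [mem_inf, mem_subgroupOf, and_congr_right_iff]
      intro _
      constructor
      · rintro hx _ ⟨y, hy, rfl⟩
        exact congrArg Subtype.val (hx y hy)
      · intro hx y hy
        exact Subtype.ext (hx (y : G) ⟨y, hy, rfl⟩)
    rw [h4, Nat.card_congr (subgroupOfEquivOfLe (inf_le_left.trans hFQ)).toEquiv]
  have hcle : ∀ {X Y : Subgroup G}, IsMulCommutative X → Y ≤ X → X ≤ centralizer (Y : Set G) :=
    fun hX hY x hx y hy => PGroups.comm_of_isMulCommutative hX (hY hy) hx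
  have hsub : ∀ {X Y : Subgroup G}, IsMulCommutative X → Y ≤ X → IsMulCommutative Y :=
    fun hX hY => PGroups.isMulCommutative_of_comm fun x hx y hy =>
      PGroups.comm_of_isMulCommutative hX (hY hx) (hY hy)
  set F := E₁ ⊓ centralizer (E : Set G) with hF
  have hFU : Cfsg.InUniqueMaximal F := Cfsg.Agent.S1399.result hG A F hAU
    ((inf_le_left.trans h1A).trans fun x hx y hy => PGroups.comm_of_isMulCommutative hAc hy hx)
    (not_rankLE hpr le_rfl (hsub h1c inf_le_left) (fun a ha => h1e a ha.1) (key E₁ h1Q h1))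
  have hEU : Cfsg.InUniqueMaximal E := Cfsg.Agent.S1399.result hG F E hFU
    (le_centralizer_iff.mp inf_le_right) (not_rankLE hpr le_rfl hEc hEe hEcard.ge)
  set F' := E₂ ⊓ centralizer (E : Set G) with hF'
  have hF'U : Cfsg.InUniqueMaximal F' := Cfsg.Agent.S1399.result hG E F' hEU inf_le_right
    (not_rankLE hpr le_rfl (hsub h2c inf_le_left) (fun a ha => h2e a ha.1) (key E₂ h2Q h2))
  exact Cfsg.Agent.S1399.result hG F' E₂ hF'U (hcle h2c inf_le_left)
    (not_rankLE hpr le_rfl h2c h2e (by rw [h2]; exact Nat.pow_le_pow_right hpr.pos (by norm_num)))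

/-- Any two elementary subgroups of order `p ^ 3`, not nec. in one Sylow subgroup. -/
theorem inUniqueMaximal_transfer' [Finite G] (hG : Cfsg.IsMinSimpleOddOrder G) {p : ℕ} [Fact p.Prime]
    {A E₁ E₂ : Subgroup G} (hAc : IsMulCommutative A) (hAU : Cfsg.InUniqueMaximal A)
    (h1A : E₁ ≤ A) (h1e : ∀ a ∈ E₁, a ^ p = 1) (h1 : Nat.card E₁ = p ^ 3)
    (h2c : IsMulCommutative E₂) (h2e : ∀ a ∈ E₂, a ^ p = 1) (h2 : Nat.card E₂ = p ^ 3) :
    Cfsg.InUniqueMaximal E₂ := by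
  obtain ⟨P, hP⟩ := (IsPGroup.of_card h1 : IsPGroup p E₁).exists_le_sylow
  obtain ⟨P', hP'⟩ := (IsPGroup.of_card h2 : IsPGroup p E₂).exists_le_sylow
  obtain ⟨g, hg⟩ := MulAction.exists_smul_eq G P P'
  set c := (MulAut.conj g) with hc
  have hPP' : (P : Subgroup G).map c.toMonoidHom = (P' : Subgroup G) := by
    rw [← hg, Sylow.coe_subgroup_smul]; rfl
  have hcomm : ∀ {X : Subgroup G}, IsMulCommutative X → IsMulCommutative (X.map c.toMonoidHom) :=
    fun hX => PGroups.isMulCommutative_of_comm fun a ha b hb => by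
      obtain ⟨a', ha', rfl⟩ := ha
      obtain ⟨b', hb', rfl⟩ := hb
      rw [← map_mul, ← map_mul, PGroups.comm_of_isMulCommutative hX ha' hb']
  have h1c : IsMulCommutative E₁ := PGroups.isMulCommutative_of_comm fun x hx y hy =>
    PGroups.comm_of_isMulCommutative hAc (h1A hx) (h1A hy)
  refine inUniqueMaximal_transfer hG P'.isPGroup' (hcomm hAc) (inUniqueMaximal_map_equiv c hAU)
    (Subgroup.map_mono h1A) ((Subgroup.map_mono hP).trans hPP'.le) (hcomm h1c) ?_ ?_ hP' h2c h2e h2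
  · rintro _ ⟨a, ha, rfl⟩
    rw [← map_pow, h1e a ha, map_one]
  · rw [Nat.card_congr (E₁.equivMapOfInjective _ c.injective).symm.toEquiv, h1]

end Cfsg.Agent.H41
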