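import Cfsg.Agent.H41.FittingMax
import Cfsg.Agent.H41.UMaximal
import Cfsg.Agent.H42.FixedLift
import Cfsg.Agent.S1393
import Cfsg.Agent.S1395

/-!
`X = F(M) ∩ C_G(A₀)` satisfies the transitivity hypothesis and has no nontrivial invariant
`π(F(M))'`-subgroup.
-/

set_option autoImplicit false

namespace Cfsg.Agent.H41

open Subgroup

variable {G : Type*} [Group G] [Finite G]

/-- Standing assumptions: `A₀ ≤ O_p(M)` elementary of order at least `p ^ 3`, and `O_q(M) ≠ 1`
for some `q ≠ p`. -/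
structure FittingSetup (M : Subgroup G) (p : ℕ) (A₀ : Subgroup G) (q : ℕ) : Prop where
  hG : Cfsg.IsMinSimpleOddOrder G
  hM : IsCoatom M
  hA₀ : A₀ ≤ fcomp p M
  hA₀c : IsMulCommutative A₀
  hA₀e : ∀ a ∈ A₀, a ^ p = 1
  hA₀3 : p ^ 3 ≤ Nat.card A₀
  hqp : q ≠ p
  hq0 : fcomp q M ≠ ⊥

variable {M A₀ : Subgroup G} {p q : ℕ} [hp : Fact p.Prime] [hq : Fact q.Prime]

/-- `X = F(M) ∩ C(A₀)`. -/
def fitX (M A₀ : Subgroup G) : Subgroup G := Cfsg.fittingOf M ⊓ centralizer (A₀ : Set G)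

theorem fitX_le (M A₀ : Subgroup G) : fitX M A₀ ≤ M := inf_le_left.trans (fittingOf_le_self M)

namespace FittingSetup

variable (S : FittingSetup M p A₀ q)
include S

theorem A₀_ne_bot : A₀ ≠ ⊥ := fun h => by
  have := S.hA₀3
  rw [h, card_eq_one.mpr rfl] at this
  exact absurd this (not_le.mpr (Nat.one_lt_pow (by norm_num) hp.out.one_lt))

theorem A₀_le_X : A₀ ≤ fitX M A₀ :=
  le_inf (S.hA₀.trans (fcomp_le_fittingOf hp.out M)) fun a ha b hb =>
    PGroups.comm_of_isMulCommutative S.hA₀c hb ha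

theorem fcomp_le_X {r : ℕ} [Fact r.Prime] (hr : r ≠ p) : fcomp r M ≤ fitX M A₀ :=
  le_inf (fcomp_le_fittingOf Fact.out M) ((fcomp_le_centralizer_fcomp hr M).trans (centralizer_le S.hA₀))

theorem fcomp_p_ne_bot : fcomp p M ≠ ⊥ := ne_bot_of_le_ne_bot S.A₀_ne_bot S.hA₀

theorem X_ne_bot : fitX M A₀ ≠ ⊥ := ne_bot_of_le_ne_bot S.A₀_ne_bot S.A₀_le_X

theorem prime_dvd_X {r : ℕ} [hr : Fact r.Prime] (h : fcomp r M ≠ ⊥) :
    r ∣ Nat.card (fitX M A₀) := by
  by_cases hrp : r = p
  · subst hrp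
    obtain ⟨n, hn⟩ := IsPGroup.iff_card.mp ((isPGroup_fcomp r M).to_le S.hA₀)
    refine dvd_trans ?_ (card_dvd_of_le S.A₀_le_X)
    rw [hn]
    exact dvd_pow_self r fun h0 => S.A₀_ne_bot (card_eq_one.mp (by rw [hn, h0, pow_zero]))
  · exact (prime_dvd_card_fcomp h).trans (card_dvd_of_le (S.fcomp_le_X hrp))

omit S in
theorem prime_dvd_fitting {r : ℕ} [Fact r.Prime] (h : r ∣ Nat.card (fitX M A₀)) : fcomp r M ≠ ⊥ :=
  fcomp_ne_bot_of_dvd (h.trans (card_dvd_of_le inf_le_left))

theorem odd_prime {r : ℕ} [Fact r.Prime] (h : fcomp r M ≠ ⊥) : r ≠ 2 :=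
  pne2_of_card_dvd S.hG.1 ((prime_dvd_card_fcomp h).trans (card_subgroup_dvd_card _))

/-- A subgroup of `M` of order prime to `p` centralizing all `O_r(M)`, `r ≠ p`, and
`O_p(M) ∩ C(A₀)` lies in `F(M)`. -/
theorem le_fittingOf_of_centralizes {Z : Subgroup G} (hZM : Z ≤ M) (hZ : (Nat.card Z).Coprime p)
    (hr : ∀ r : ℕ, r.Prime → r ≠ p → Z ≤ centralizer (fcomp r M : Set G))
    (hp' : Z ≤ centralizer ((fcomp p M ⊓ centralizer (A₀ : Set G) : Subgroup G) : Set G)) :
    Z ≤ Cfsg.fittingOf M := by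
  haveI : Group.IsSolvable M := S.hG.2.2.2 M S.hM.1
  refine centralizer_fittingOf_le hZM fun r hr' => ?_
  by_cases hrp : r = p
  · subst hrp
    have hA₀p : IsPGroup r A₀ := (isPGroup_fcomp r M).to_le S.hA₀
    have hA₀F : A₀ ≤ fcomp r M ⊓ centralizer (A₀ : Set G) :=
      le_inf S.hA₀ (le_trans S.A₀_le_X inf_le_right)
    refine Coprime.thompson_AxB hA₀p hZ (le_centralizer_iff.mp (hp'.trans (centralizer_le hA₀F)))
      (fcomp r M) (isPGroup_fcomp r M) ((S.hA₀.trans (fcomp_le r M)).trans (le_normalizer_fcomp r M))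
      (hZM.trans (le_normalizer_fcomp r M)) (le_centralizer_iff.mp hp')
  · exact hr r hr' hrp

theorem le_fittingOf_of_centralizes_X {Z : Subgroup G} (hZM : Z ≤ M) (hZ : (Nat.card Z).Coprime p)
    (hc : Z ≤ centralizer (fitX M A₀ : Set G)) : Z ≤ Cfsg.fittingOf M :=
  S.le_fittingOf_of_centralizes hZM hZ
    (fun r hr hrp => by
      haveI := Fact.mk hr
      exact hc.trans (centralizer_le (S.fcomp_le_X hrp)))
    (hc.trans (centralizer_le (le_inf (inf_le_left.trans (fcomp_le_fittingOf hp.out M)) inf_le_right)))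

theorem coprime_of_pi' {Y : Subgroup G}
    (hY : ∀ r : ℕ, r.Prime → r ∣ Nat.card Y → ¬ r ∣ Nat.card (fitX M A₀)) :
    (Nat.card Y).Coprime (Nat.card (Cfsg.fittingOf M)) :=
  Nat.coprime_of_dvd fun r hr h1 h2 => by
    haveI := Fact.mk hr
    exact hY r hr h1 (S.prime_dvd_X (fcomp_ne_bot_of_dvd h2))

theorem coprime_p_of_pi' {Y : Subgroup G}
    (hY : ∀ r : ℕ, r.Prime → r ∣ Nat.card Y → ¬ r ∣ Nat.card (fitX M A₀)) :
    (Nat.card Y).Coprime p := by
  rw [Nat.coprime_comm, hp.out.coprime_iff_not_dvd]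
  exact fun h => hY p hp.out h (S.prime_dvd_X S.fcomp_p_ne_bot)

/-- `M` contains no nontrivial `X`-invariant `π'`-subgroup. -/
theorem eq_bot_of_le {Y : Subgroup G} (hYM : Y ≤ M) (hXY : fitX M A₀ ≤ normalizer (Y : Set G))
    (hY : ∀ r : ℕ, r.Prime → r ∣ Nat.card Y → ¬ r ∣ Nat.card (fitX M A₀)) : Y = ⊥ := by
  have hdisj : Y ⊓ Cfsg.fittingOf M = ⊥ := Subgroup.inf_eq_bot_of_coprime (S.coprime_of_pi' hY)
  have hc : Y ≤ centralizer (fitX M A₀ : Set G) := by
    intro y hy x hx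
    have h1 : x * y * x⁻¹ * y⁻¹ ∈ Y ⊓ Cfsg.fittingOf M := by
      refine ⟨Y.mul_mem (Coprime.conj_mem (hXY hx) hy) (Y.inv_mem hy), ?_⟩
      rw [show x * y * x⁻¹ * y⁻¹ = x * (y * x⁻¹ * y⁻¹) by group]
      exact mul_mem hx.1 (Coprime.conj_mem (le_normalizer_fittingOf M (hYM hy)) (inv_mem hx.1))
    rw [hdisj, mem_bot, mul_inv_eq_one, mul_inv_eq_iff_eq_mul] at h1
    exact h1
  have hYF := S.le_fittingOf_of_centralizes_X hYM (S.coprime_p_of_pi' hY) hc
  exact (inf_eq_left.mpr hYF).symm.trans hdisj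

/-- `O_q(M)` moves every `X`-invariant `π'`-subgroup without fixed points. -/
theorem inf_centralizer_eq_bot {r : ℕ} [Fact r.Prime] (hr : fcomp r M ≠ ⊥) (hrp : r ≠ p)
    {Y : Subgroup G} (hXY : fitX M A₀ ≤ normalizer (Y : Set G))
    (hY : ∀ s : ℕ, s.Prime → s ∣ Nat.card Y → ¬ s ∣ Nat.card (fitX M A₀)) :
    Y ⊓ centralizer (fcomp r M : Set G) = ⊥ := by
  refine S.eq_bot_of_le (inf_le_right.trans
    ((centralizer_le_normalizer _).trans (normalizer_fcomp S.hG.2 S.hM hr).le)) ?_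
    fun s hs hd => hY s hs (hd.trans (card_dvd_of_le inf_le_left))
  rw [le_normalizer_iff]
  intro x hx y hy
  refine ⟨Coprime.conj_mem (hXY hx) hy.1, fun f hf => ?_⟩
  have hxn : x ∈ normalizer (fcomp r M : Set G) := le_normalizer_fcomp r M (fitX_le M A₀ hx)
  have hf' : x⁻¹ * f * x ∈ fcomp r M := (mem_normalizer_iff''.1 hxn f).1 hf
  calc f * (x * y * x⁻¹) = x * ((x⁻¹ * f * x) * y) * x⁻¹ := by group
    _ = x * (y * (x⁻¹ * f * x)) * x⁻¹ := by rw [hy.2 _ hf']
    _ = x * y * x⁻¹ * f := by group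

/-- The transitivity hypothesis for `X`. -/
theorem transitivityHypothesis : Cfsg.TransitivityHypothesis (fitX M A₀) := by
  have hXtop : fitX M A₀ ≠ ⊤ := fun h => S.hM.1 (top_le_iff.mp (h ▸ fitX_le M A₀))
  refine ⟨S.X_ne_bot, hXtop, fun W hW hXW => le_antisymm (sSup_le ?_) ?_⟩
  swap
  · exact le_sSup ⟨piCoreOf_le _ _, piCoreOf_isPiNumber _ _,
      (hXW.trans le_normalizer).trans (normalizer_le_normalizer_piCoreOf _ _)⟩
  rintro Y ⟨hYW, hYπ, hYX⟩
  have hY : ∀ r : ℕ, r.Prime → r ∣ Nat.card Y → ¬ r ∣ Nat.card (fitX M A₀) :=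
    fun r hr hd => (hYπ r hr hd).2
  haveI : Group.IsSolvable W := S.hG.2.2.2 W hW
  set π := Cfsg.primesNotDvd (Nat.card (fitX M A₀)) with hπ
  set N := Cfsg.piCore π W with hN
  set φ := QuotientGroup.mk' N with hφ
  have hNn : ∀ r : ℕ, r.Prime → r ∣ Nat.card N → ¬ r ∣ Nat.card (fitX M A₀) := fun r hr hd =>
    (Cores.piCore_isPiNumber π r hr hd).2
  set Y₀ := Y.subgroupOf W with hY₀
  set Y' := Y₀.map φ with hY'
  have hY₀c : Nat.card Y₀ = Nat.card Y := Nat.card_congr (subgroupOfEquivOfLe hYW).toEquiv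
  have hY'd : Nat.card Y' ∣ Nat.card Y := hY₀c ▸ card_map_dvd Y₀ φ
  have hcoprime : ∀ r : ℕ, r.Prime → fcomp r M ≠ ⊥ → (Nat.card Y').Coprime r := fun r hr hr0 => by
    haveI := Fact.mk hr
    rw [Nat.coprime_comm, hr.coprime_iff_not_dvd]
    exact fun hd => hY r hr (hd.trans hY'd) (S.prime_dvd_X hr0)
  have hcopN : ∀ r : ℕ, r.Prime → fcomp r M ≠ ⊥ → (Nat.card N).Coprime r := fun r hr hr0 => by
    haveI := Fact.mk hr
    rw [Nat.coprime_comm, hr.coprime_iff_not_dvd]
    exact fun hd => hNn r hr hd (S.prime_dvd_X hr0)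
  have hXY₀ : ∀ x : W, (x : G) ∈ fitX M A₀ → ∀ y ∈ Y₀, x * y * x⁻¹ ∈ Y₀ := fun x hx y hy => by
    show (x : G) * (y : G) * (x : G)⁻¹ ∈ Y
    exact Coprime.conj_mem (hYX hx) hy
  have hzero : ∀ r : ℕ, r.Prime → fcomp r M = ⊥ → pCore r (W ⧸ N) = ⊥ := by
    intro r hr hr0
    haveI := Fact.mk hr
    rw [← le_bot_iff, ← Cores.piCore_quotient_piCore (G := W) π]
    haveI : (pCore r (W ⧸ N)).Normal := pCore_normal r _
    refine Cores.le_piCore fun s hs hd => ⟨hs, fun hd' => ?_⟩
    haveI := Fact.mk hs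
    obtain ⟨n, hn⟩ := IsPGroup.iff_card.mp (Cores.pCore_isPGroup (p := r) (G := W ⧸ N))
    rw [hn] at hd
    exact prime_dvd_fitting (A₀ := A₀) hd'
      ((Nat.prime_dvd_prime_iff_eq hs hr).mp (hs.dvd_of_dvd_pow hd) ▸ hr0)
  have hcent : ∀ r : ℕ, r.Prime → Y' ≤ centralizer (pCore r (W ⧸ N) : Set (W ⧸ N)) := by
    intro r hr
    haveI := Fact.mk hr
    by_cases hr0 : fcomp r M = ⊥
    · rw [hzero r hr hr0]
      intro y _ z hz
      rw [mem_bot.mp hz, one_mul, mul_one]
    set U := pCore r (W ⧸ N) with hU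
    haveI hUn : U.Normal := pCore_normal r _
    have hUnorm : ∀ Z : Subgroup (W ⧸ N), Z ≤ normalizer (U : Set _) := fun Z =>
      (normalizer_eq_top_iff.mpr hUn).symm ▸ le_top
    by_cases hrp : r = p
    · -- `O_q(M)` centralizes `O_p` and moves `Y` without fixed points
      subst hrp
      have hQW : fcomp q M ≤ W := (S.fcomp_le_X S.hqp).trans hXW
      set Q₀ := (fcomp q M).subgroupOf W with hQ₀
      have hQY : Q₀.map φ ≤ centralizer (U : Set _) := by
        have h1 : fcomp q M ≤ pCorePrime r W :=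
          le_pCorePrime_of_fcomp S.hG.2 S.hM (fcomp_le_pCorePrime S.hqp M) A₀ S.hA₀ S.A₀_ne_bot W hW
            (S.A₀_le_X.trans hXW) hQW
        rintro _ ⟨z, hz, rfl⟩
        obtain ⟨z', hz', he⟩ := h1 hz
        obtain rfl : z' = z := Subtype.ext he
        have h2 : φ z' ∈ pPrimeCore r (W ⧸ N) :=
          Cores.pPrimeCore_map_le (QuotientGroup.mk'_surjective N) (mem_map_of_mem φ hz')
        exact fun u hu => Cores.commute_pCore_pPrimeCore hu h2
      have hQY₀ : fcomp q M ≤ normalizer (Y : Set G) := (S.fcomp_le_X S.hqp).trans hYX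
      have hcop : (Nat.card (fcomp q M)).Coprime (Nat.card Y) := by
        obtain ⟨n, hn⟩ := IsPGroup.iff_card.mp (isPGroup_fcomp q M)
        rw [hn]
        refine Nat.Coprime.pow_left n ?_
        rw [hq.out.coprime_iff_not_dvd]
        exact fun hd => hY q hq.out hd (S.prime_dvd_X S.hq0)
      haveI : Group.IsSolvable (fcomp q M) := by
        haveI := (isPGroup_fcomp q M).isNilpotent
        infer_instance
      have hYQ : ⁅Y, fcomp q M⁆ = Y := by
        have h := Coprime.commutator_sup_centralizer hQY₀ hcop (Or.inl inferInstance)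
        rwa [S.inf_centralizer_eq_bot S.hq0 S.hqp hYX hY, sup_bot_eq] at h
      have hY'Q : Y' ≤ ⁅Y', Q₀.map φ⁆ := by
        rw [hY', ← Subgroup.map_commutator]
        refine Subgroup.map_mono fun y hy => ?_
        have h1 : ⁅Y₀, Q₀⁆.map W.subtype = Y := by
          rw [Subgroup.map_commutator, map_subgroupOf_eq_of_le hYW, map_subgroupOf_eq_of_le hQW, hYQ]
        obtain ⟨z, hz, he⟩ := h1.ge hy
        exact (Subtype.ext he : z = y) ▸ hz
      refine hY'Q.trans ?_
      rw [← commutator_eq_bot_iff_le_centralizer]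
      refine commutator_commutator_eq_bot_of_rotate ?_ ?_
      · rw [commutator_eq_bot_iff_le_centralizer.mpr hQY, commutator_bot_left]
      · refine le_bot_iff.mp ((commutator_mono
          (Coprime.commutator_le_left_of_normalizer (hUnorm Y')) le_rfl).trans ?_)
        rw [commutator_eq_bot_iff_le_centralizer.mpr (le_centralizer_iff.mp hQY)]
    · -- fixed points of `O_r(M)` come from `O_r(M)`
      have hRW : fcomp r M ≤ W := (S.fcomp_le_X hrp).trans hXW
      set E₀ := (fcomp r M).subgroupOf W with hE₀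
      have hEp : IsPGroup r E₀ := (isPGroup_fcomp r M).comap_subtype
      have hEY : E₀.map φ ≤ normalizer (Y' : Set _) := by
        refine le_trans (Subgroup.map_mono ?_) (le_normalizer_map φ)
        rw [le_normalizer_iff]
        exact fun e he y hy => hXY₀ e (S.fcomp_le_X hrp he) y hy
      refine H42.centralizes_of_fixed_le (S.odd_prime hr0) (hEp.map φ) (hcoprime r hr hr0) hEY U
        Cores.pCore_isPGroup (hUnorm _) (hUnorm _) ?_
      rintro x ⟨hxU, hxC⟩
      have hxC' : x ∈ (centralizer (E₀ : Set W)).map φ := by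
        rw [Cores.map_centralizer_of_coprime N (hcopN r hr hr0) hEp]
        exact hxC
      obtain ⟨u, hu, rfl⟩ := hxC'
      obtain ⟨k, hk, hk'⟩ := H42.exists_pPart (p := r) u
      obtain ⟨m, hm⟩ := Cores.pCore_isPGroup (p := r) ⟨φ u, hxU⟩
      have hφk : φ (u ^ k) = φ u := by
        rw [map_pow]
        exact hk' _ φ m (by simpa using congrArg Subtype.val hm)
      have hk₂ : IsPGroup r (zpowers ((u ^ k : W) : G)) := by
        have h1 := hk.map W.subtype
        rwa [MonoidHom.map_zpowers] at h1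
      set v := u ^ k with hv
      have hvC : (v : G) ∈ centralizer (fcomp r M : Set G) := fun e he =>
        congrArg Subtype.val (pow_mem hu k ⟨e, hRW he⟩ he)
      have hvM : (v : G) ∈ M := (normalizer_fcomp S.hG.2 S.hM hr0).le (centralizer_le_normalizer _ hvC)
      have hvF : zpowers (v : G) ≤ Cfsg.fittingOf M := by
        have hother : ∀ s : ℕ, s.Prime → s ≠ r →
            zpowers (v : G) ≤ centralizer ((fcomp s M ⊓ fitX M A₀ : Subgroup G) : Set G) := by
          intro s hs hsr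
          haveI := Fact.mk hs
          rw [zpowers_le]
          intro t ht
          set c : W := v * ⟨t, hXW ht.2⟩ * v⁻¹ * (⟨t, hXW ht.2⟩ : W)⁻¹ with hc
          have hcF : (c : G) ∈ fcomp s M := by
            simpa [hc] using mul_mem (Coprime.conj_mem (le_normalizer_fcomp s M hvM) ht.1) (inv_mem ht.1)
          have hcU : φ c ∈ U := by
            rw [show c = v * (⟨t, hXW ht.2⟩ * v⁻¹ * (⟨t, hXW ht.2⟩ : W)⁻¹) by rw [hc]; group,
              map_mul, hφk]
            refine U.mul_mem hxU ?_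
            rw [map_mul, map_mul, map_inv φ (⟨t, hXW ht.2⟩ : W), map_inv φ v, hφk]
            exact hUn.conj_mem _ (U.inv_mem hxU) _
          obtain ⟨i, hi⟩ := Cores.pCore_isPGroup (p := r) ⟨φ c, hcU⟩
          obtain ⟨j, hj⟩ := IsPGroup.iff_card.mp (isPGroup_fcomp s M)
          have hc1 : φ c = 1 := by
            refine orderOf_eq_one_iff.mp (Nat.eq_one_of_dvd_coprimes
              ((((Nat.coprime_primes hs hr).mpr hsr).pow_left j).pow_right i) ?_
              (orderOf_dvd_of_pow_eq_one (by simpa using congrArg Subtype.val hi)))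
            exact (orderOf_map_dvd φ c).trans
              (by rw [← orderOf_coe, ← hj]; exact orderOf_dvd_natCard _ hcF)
          have hcN : c ∈ N := (QuotientGroup.eq_one_iff c).mp hc1
          have hc2 : (c : G) = 1 := by
            by_cases hs0 : fcomp s M = ⊥
            · exact mem_bot.mp (hs0 ▸ hcF)
            refine orderOf_eq_one_iff.mp (Nat.eq_one_of_dvd_coprimes ((hcopN s hs hs0).pow_right j) ?_ ?_)
            · rw [orderOf_coe]; exact orderOf_dvd_natCard _ hcN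
            · rw [← hj]; exact orderOf_dvd_natCard _ hcF
          have hc3 : (v : G) * t * (v : G)⁻¹ * t⁻¹ = 1 := by simpa [hc] using hc2
          rw [mul_inv_eq_one, mul_inv_eq_iff_eq_mul] at hc3
          exact hc3.symm
        refine S.le_fittingOf_of_centralizes (zpowers_le.mpr hvM) ?_ (fun s hs hsp => ?_) ?_
        · exact coprime_card_of_isPGroup hrp hk₂
        · haveI := Fact.mk hs
          by_cases hsr : s = r
          · subst hsr; exact zpowers_le.mpr hvC
          · exact (hother s hs hsr).trans (centralizer_le (le_inf le_rfl (S.fcomp_le_X hsp)))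
        · exact (hother p hp.out (Ne.symm hrp)).trans (centralizer_le
            (le_inf inf_le_left (le_inf (inf_le_left.trans (fcomp_le_fittingOf hp.out M)) inf_le_right)))
      have hvR : v ∈ E₀ := le_fcomp_of_le_fittingOf hvF hk₂ (mem_zpowers _)
      intro y hy
      have hmem : φ v * y * (φ v)⁻¹ * y⁻¹ ∈ U ⊓ Y' := by
        refine ⟨?_, Y'.mul_mem (Coprime.conj_mem (hEY (mem_map_of_mem φ hvR)) hy) (Y'.inv_mem hy)⟩
        rw [hφk, show ∀ a b : W ⧸ N, a * b * a⁻¹ * b⁻¹ = a * (b * a⁻¹ * b⁻¹) from fun a b => by group]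
        exact U.mul_mem hxU (hUn.conj_mem _ (U.inv_mem hxU) _)
      rw [Cores.disjoint_of_isPGroup_of_coprime Cores.pCore_isPGroup (hcoprime r hr hr0), mem_bot,
        mul_inv_eq_one, mul_inv_eq_iff_eq_mul, hφk] at hmem
      exact hmem.symm
  have hYF : Y' ≤ fittingSubgroup (W ⧸ N) := by
    refine le_trans ?_ (Cores.centralizer_fittingSubgroup_le (G := W ⧸ N))
    rw [le_centralizer_iff, Cores.iSup_pCore_eq_fittingSubgroup]
    exact iSup_le fun r => le_centralizer_iff.mp (hcent r r.2)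
  have hbot : Y' = ⊥ := by
    by_contra hne
    obtain ⟨y, hy, hord⟩ := Coprime.exists_prime_orderOf_mem hne
    haveI := Fact.mk hord
    have h2 : y ∈ pCore (orderOf y) (W ⧸ N) := by
      refine Cores.le_pCore_of_le_sup (A := zpowers y) (IsPGroup.of_card (n := 1)
        (by rw [Nat.card_zpowers, pow_one])) ?_ (mem_zpowers y)
      refine (zpowers_le.mpr ?_).trans (Cores.iSup_pCore_le_sup (orderOf y))
      rw [← Cores.iSup_pCore_eq_fittingSubgroup]
      exact hYF hy
    have hr0 : fcomp (orderOf y) M ≠ ⊥ := fun h0 => by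
      rw [hzero _ hord h0, mem_bot] at h2
      rw [h2, orderOf_one] at hord
      exact Nat.not_prime_one hord
    exact hord.one_lt.ne' (Nat.eq_one_of_dvd_coprimes (hcoprime _ hord hr0)
      (orderOf_dvd_natCard _ hy) dvd_rfl)
  rw [hY', Subgroup.map_eq_bot_iff, hφ, QuotientGroup.ker_mk'] at hbot
  exact (map_subgroupOf_eq_of_le hYW).ge.trans (Subgroup.map_mono hbot)

/-- No nontrivial `X`-invariant subgroup of order a power of a prime outside `π(F(M))`. -/
theorem eq_bot_of_invariant {Y : Subgroup G} {r : ℕ} [hr : Fact r.Prime]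
    (hrX : ¬ r ∣ Nat.card (fitX M A₀)) (hY : IsPGroup r Y)
    (hXY : fitX M A₀ ≤ normalizer (Y : Set G)) : Y = ⊥ := by
  set X := fitX M A₀ with hX
  set F := Cfsg.fittingOf M with hF
  have hTH := S.transitivityHypothesis
  have hZ : ¬ Cfsg.RankLE 2 ↥(X ⊓ centralizer (X : Set G)) := by
    refine not_rankLE hp.out (le_inf S.A₀_le_X ?_) S.hA₀c S.hA₀e S.hA₀3
    exact le_centralizer_iff.mp inf_le_right
  have htr := Cfsg.Agent.S1393.result S.hG X hTH hZ r hr.out hrX
  haveI : Group.IsNilpotent F := by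
    haveI := Cores.fittingSubgroup_isNilpotent (G := M)
    exact Group.nilpotent_of_mulEquiv (Subgroup.equivMapOfInjective _ M.subtype M.subtype_injective)
  have hFtop : F ≠ ⊤ := fun h => S.hM.1 (top_le_iff.mp (h ▸ fittingOf_le_self M))
  have hFπ : ∀ s : ℕ, s.Prime → s ∣ Nat.card F → s ∣ Nat.card X := fun s hs hd => by
    haveI := Fact.mk hs
    exact S.prime_dvd_X (fcomp_ne_bot_of_dvd hd)
  obtain ⟨-, -, hc, hd⟩ := Cfsg.Agent.S1395.result S.hG X hTH r hr.out hrX F hFtop hFπ inf_le_left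
    (isSubnormal_of_isNilpotent _) htr
  have hcard : ∀ Z : Subgroup G, IsPGroup r Z → ∀ s : ℕ, s.Prime → s ∣ Nat.card Z → s = r := by
    intro Z hZ s hs hds
    obtain ⟨n, hn⟩ := IsPGroup.iff_card.mp hZ
    rw [hn] at hds
    exact (Nat.prime_dvd_prime_iff_eq hs hr.out).mp (hs.dvd_of_dvd_pow hds)
  obtain ⟨Q, hQ, -⟩ := exists_maxInvSubgroups_ge (X := (⊤ : Subgroup G)) (A := F) (π := {r}) (Q := ⊥)
    ⟨le_top, fun s hs hds => absurd hds (by rw [card_eq_one.mpr rfl]; exact hs.not_dvd_one),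
      le_normalizer_iff.mpr fun a _ x hx => by rw [mem_bot.mp hx]; simp⟩
  have hQr := isPGroup_of_invSubgroups hr.out hQ.1
  have hF0 : F ≠ ⊥ := ne_bot_of_le_ne_bot S.X_ne_bot inf_le_left
  have hNF : normalizer (F : Set G) = M :=
    normalizer_eq_of_isCoatom S.hG.2 S.hM (fittingOf_le_self M) hF0 (le_normalizer_fittingOf M)
  have hK : Cfsg.piCoreOf (Cfsg.primesNotDvd (Nat.card X)) (centralizer (F : Set G)) = ⊥ := by
    set K := Cfsg.piCoreOf (Cfsg.primesNotDvd (Nat.card X)) (centralizer (F : Set G)) with hKdef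
    have hKC : K ≤ centralizer (F : Set G) := piCoreOf_le _ _
    refine S.eq_bot_of_le (hKC.trans ((centralizer_le_normalizer F).trans hNF.le)) ?_
      fun s hs hds => (piCoreOf_isPiNumber _ _ s hs hds).2
    refine le_normalizer_iff.mpr fun x hx k hk => ?_
    rw [show x * k * x⁻¹ = k by rw [hKC hk x hx.1, mul_inv_cancel_right]]
    exact hk
  have hMQ : M ≤ normalizer (Q : Set G) := by
    have h1 := (hd Q hQ).2
    rw [hK, bot_sup_eq, hNF] at h1
    exact h1.le.trans inf_le_right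
  have hQ0 : Q = ⊥ := by
    by_contra hne
    have hNQ : normalizer (Q : Set G) = M :=
      (eq_or_lt_of_le hMQ).elim Eq.symm fun h =>
        absurd (S.hM.2 _ h) (normalizer_ne_top S.hG.2 hne (ne_top_of_isPGroup S.hG.2 hQr))
    exact hne (S.eq_bot_of_le (le_normalizer.trans hNQ.le) (inf_le_left.trans hQ.1.2.2)
      fun s hs hds => hcard Q hQr s hs hds ▸ hrX)
  have hbot := hc hQ
  rw [hQ0] at hbot
  obtain ⟨R, hR, hYR⟩ := exists_maxInvSubgroups_ge (X := (⊤ : Subgroup G)) (A := X) (π := {r}) (Q := Y)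
    ⟨le_top, fun s hs hds => hcard Y hY s hs hds, hXY⟩
  rw [hbot.2 R hR.1 bot_le] at hYR
  exact le_bot_iff.mp hYR

end FittingSetup

end Cfsg.Agent.H41
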