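import Cfsg.Agent.H41.FittingTH

/-!
`X = F(M) ∩ C_G(A₀)` lies in no maximal subgroup other than `M` when `F(M)` is not a `p`-group.
-/

set_option autoImplicit false

namespace Cfsg.Agent.H41

open Subgroup

variable {G : Type*} [Group G] [Finite G] {M A₀ : Subgroup G} {p q : ℕ} [hp : Fact p.Prime]
  [hq : Fact q.Prime]

omit [Finite G] in
theorem commute_of_le_pCorePrime [Finite G] {s : ℕ} [Fact s.Prime] {H T : Subgroup G}
    (hT : T ≤ pCorePrime s H) : fcomp s H ≤ centralizer (T : Set G) :=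
  le_centralizer_iff.mp (hT.trans (pCorePrime_le_centralizer_fcomp s H))

namespace FittingSetup

variable (S : FittingSetup M p A₀ q)
include S

theorem fcomp_eq_bot_of_not_dvd {H : Subgroup G} (hXH : fitX M A₀ ≤ H) {r : ℕ} [Fact r.Prime]
    (hr : ¬ r ∣ Nat.card (fitX M A₀)) : fcomp r H = ⊥ :=
  S.eq_bot_of_invariant hr (isPGroup_fcomp r H) (hXH.trans (le_normalizer_fcomp r H))

/-- The parts of `X` away from `s` centralize `O_s(H)`. -/
theorem le_centralizer_fcomp_other {H : Subgroup G} (hH : H ≠ ⊤) (hXH : fitX M A₀ ≤ H) {s r : ℕ}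
    [Fact s.Prime] [Fact r.Prime] (hrs : r ≠ s) :
    fcomp r M ⊓ fitX M A₀ ≤ centralizer (fcomp s H : Set G) := by
  by_cases hs0 : fcomp s M = ⊥
  · rw [S.fcomp_eq_bot_of_not_dvd hXH (r := s) fun hd => prime_dvd_fitting hd hs0]
    intro x _ z hz
    rw [mem_bot.mp hz, one_mul, mul_one]
  obtain ⟨F', hF', hF'0, hF'X⟩ : ∃ F' : Subgroup G, F' ≤ fcomp s M ∧ F' ≠ ⊥ ∧ F' ≤ fitX M A₀ := by
    by_cases hsp : s = p
    · subst hsp; exact ⟨A₀, S.hA₀, S.A₀_ne_bot, S.A₀_le_X⟩
    · exact ⟨_, le_rfl, hs0, S.fcomp_le_X hsp⟩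
  have h := le_pCorePrime_of_fcomp S.hG.2 S.hM (T := fcomp r M ⊓ fitX M A₀)
    (inf_le_left.trans (fcomp_le_pCorePrime hrs M)) F' hF' hF'0 H hH (hF'X.trans hXH)
    (inf_le_right.trans hXH)
  exact h.trans (pCorePrime_le_centralizer_fcomp s H)

/-- A subgroup of `H` centralizing all `O_r(H)` lies in `F(H)`; its `s`-elements in `O_s(H)`. -/
theorem le_fcomp_of_centralizes {H Z : Subgroup G} (hH : H ≠ ⊤) (hZH : Z ≤ H) {s : ℕ} [Fact s.Prime]
    (hZ : IsPGroup s Z) (hc : ∀ r : ℕ, r.Prime → Z ≤ centralizer (fcomp r H : Set G)) :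
    Z ≤ fcomp s H := by
  haveI : Group.IsSolvable H := S.hG.2.2.2 H hH
  exact le_fcomp_of_le_fittingOf (centralizer_fittingOf_le hZH hc) hZ

/-- `X` lies in no maximal subgroup other than `M`. -/
theorem eq_of_le_coatom {H : Subgroup G} (hH : IsCoatom H) (hXH : fitX M A₀ ≤ H) : H = M := by
  have hmin := S.hG.2
  have hHtop := hH.1
  haveI hMsol : Group.IsSolvable M := hmin.2.2 M S.hM.1
  haveI hHsol : Group.IsSolvable H := hmin.2.2 H hHtop
  set R := fcomp p H with hR
  have hQH : fcomp q M ≤ H := (S.fcomp_le_X S.hqp).trans hXH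
  -- `O_p(H)` centralizes `O_{p'}(F(M))`
  have hRC : ∀ r : ℕ, r.Prime → r ≠ p → R ≤ centralizer (fcomp r M : Set G) := by
    intro r hr hrp
    haveI := Fact.mk hr
    rw [le_centralizer_iff]
    refine le_trans ?_ (S.le_centralizer_fcomp_other hHtop hXH (r := r) (s := p) hrp)
    exact le_inf le_rfl (S.fcomp_le_X hrp)
  have hRM : R ≤ M := (hRC q hq.out S.hqp).trans
    ((centralizer_le_normalizer _).trans (normalizer_fcomp hmin S.hM S.hq0).le)
  -- `O_p(H) ≠ 1`
  have hR0 : R ≠ ⊥ := by
    intro h0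
    refine S.A₀_ne_bot (le_bot_iff.mp (h0 ▸ ?_))
    refine S.le_fcomp_of_centralizes hHtop (S.A₀_le_X.trans hXH) ((isPGroup_fcomp p M).to_le S.hA₀) fun r hr => ?_
    haveI := Fact.mk hr
    by_cases hrp : r = p
    · subst hrp
      rw [← hR, h0]
      intro x _ z hz
      rw [mem_bot.mp hz, one_mul, mul_one]
    · exact (le_inf S.hA₀ S.A₀_le_X).trans (S.le_centralizer_fcomp_other hHtop hXH (Ne.symm hrp))
  -- `O_q(H) ≠ 1`
  have hq0' : fcomp q H ≠ ⊥ := by
    intro h0
    refine S.hq0 (le_bot_iff.mp (h0 ▸ ?_))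
    refine S.le_fcomp_of_centralizes hHtop hQH (isPGroup_fcomp q M) fun r hr => ?_
    haveI := Fact.mk hr
    by_cases hrq : r = q
    · subst hrq
      rw [h0]
      intro x _ z hz
      rw [mem_bot.mp hz, one_mul, mul_one]
    · exact (le_inf le_rfl (S.fcomp_le_X S.hqp)).trans (S.le_centralizer_fcomp_other hHtop hXH (Ne.symm hrq))
  -- `O_{p'}(M) ≤ H`
  set D₁ := pCorePrime p M with hD₁
  have hD₁M : D₁ ≤ M := pCorePrime_le M
  have hD₁H : D₁ ≤ H := by
    have hDR : R ≤ normalizer (D₁ : Set G) := hRM.trans (le_normalizer_pCorePrime M)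
    have hcop : (Nat.card R).Coprime (Nat.card D₁) := by
      obtain ⟨n, hn⟩ := IsPGroup.iff_card.mp (isPGroup_fcomp p H)
      rw [hR, hn]
      exact ((coprime_pCorePrime M).pow_right n).symm
    have hcomm : ⁅D₁, R⁆ ≤ centralizer (R : Set G) := by
      have hKn : ∀ r : ℕ, r.Prime → r ≠ p → ⁅D₁, R⁆ ≤ centralizer (fcomp r M : Set G) := by
        intro r hr hrp
        rw [commutator_le]
        intro d hd x hx
        have hdn : d ∈ normalizer (fcomp r M : Set G) := le_normalizer_fcomp r M (hD₁M hd)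
        have hxC : x ∈ centralizer (fcomp r M : Set G) := hRC r hr hrp hx
        rw [commutatorElement_def]
        refine mul_mem ?_ (inv_mem hxC)
        intro f hf
        have hf' : d⁻¹ * f * d ∈ fcomp r M := (mem_normalizer_iff''.1 hdn f).1 hf
        calc f * (d * x * d⁻¹) = d * ((d⁻¹ * f * d) * x) * d⁻¹ := by group
          _ = d * (x * (d⁻¹ * f * d)) * d⁻¹ := by rw [hxC _ hf']
          _ = d * x * d⁻¹ * f := by group
      have hle : ⁅D₁, R⁆ ≤ D₁ := Coprime.commutator_le_left_of_normalizer hDR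
      have hF : ⁅D₁, R⁆ ≤ Cfsg.fittingOf M := by
        refine centralizer_fittingOf_le (hle.trans hD₁M) fun r hr => ?_
        by_cases hrp : r = p
        · subst hrp; exact hle.trans (pCorePrime_le_centralizer_fcomp r M)
        · exact hKn r hr hrp
      rw [le_centralizer_iff]
      refine fun x hx z hz => ?_
      by_contra hne
      -- reduce to prime power parts
      have key : ⁅D₁, R⁆ ≤ centralizer (zpowers x : Set G) := by
        refine Coprime.le_of_exists_sylow_le fun r hr => ?_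
        haveI := Fact.mk hr
        obtain ⟨Q⟩ : Nonempty (Sylow r ↥⁅D₁, R⁆) := inferInstance
        refine ⟨Q, ?_⟩
        by_cases hrp : r = p
        · subst hrp
          have h1 : (Q : Subgroup ↥⁅D₁, R⁆).map (⁅D₁, R⁆).subtype = ⊥ :=
            (inf_eq_right.mpr ((map_subtype_le _).trans hle)).symm.trans
              (inf_comm D₁ _ ▸ Cores.disjoint_of_isPGroup_of_coprime (Q.isPGroup'.map _) (coprime_pCorePrime M))
          rw [h1]; exact bot_le
        · refine (le_fcomp_of_le_fittingOf ((map_subtype_le _).trans hF) (Q.isPGroup'.map _)).trans ?_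
          exact le_centralizer_iff.mp (zpowers_le.mpr (hRC r hr hrp hx))
      exact hne ((key hz x (mem_zpowers x)).symm)
    have h := Coprime.le_centralizer_of_commutator_le_centralizer hDR hcop hcomm
    exact (le_centralizer_iff.mp h).trans
      ((centralizer_le_normalizer R).trans
        (normalizer_fcomp hmin hH hR0).le)
  have hK : ∀ (Z : Subgroup G), M ≤ normalizer (Z : Set G) → M ≤ normalizer (centralizer (Z : Set G) : Set G) := by
    intro Z hZ
    rw [le_normalizer_iff]
    intro m hm c hc f hf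
    have hf' : m⁻¹ * f * m ∈ Z := (mem_normalizer_iff''.1 (hZ hm) f).1 hf
    calc f * (m * c * m⁻¹) = m * ((m⁻¹ * f * m) * c) * m⁻¹ := by group
      _ = m * (c * (m⁻¹ * f * m)) * m⁻¹ := by rw [hc _ hf']
      _ = m * c * m⁻¹ * f := by group
  -- `O_r(H) ≤ O_r(M)` for `r ≠ p`
  have hle : ∀ r : ℕ, r.Prime → r ≠ p → fcomp r H ≤ fcomp r M := by
    intro r hr hrp
    haveI := Fact.mk hr
    by_cases hr0 : fcomp r M = ⊥
    · rw [S.fcomp_eq_bot_of_not_dvd hXH (r := r) fun hd => prime_dvd_fitting hd hr0]; exact bot_le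
    have hQ : fcomp r M ≤ H := (S.fcomp_le_X hrp).trans hXH
    set T := fcomp r H ⊓ M with hT
    have hTr : IsPGroup r T := (isPGroup_fcomp r H).to_le inf_le_left
    have hTD : T ≤ D₁ := le_pCorePrime_of_fcomp hmin hH (inf_le_left.trans (fcomp_le_pCorePrime hrp H))
      R le_rfl hR0 M S.hM.1 hRM inf_le_right
    have hTc : ∀ s : ℕ, s.Prime → s ≠ r → T ≤ centralizer (fcomp s M : Set G) := by
      intro s hs hsr
      haveI := Fact.mk hs
      by_cases hsp : s = p
      · subst hsp; exact hTD.trans (pCorePrime_le_centralizer_fcomp s M)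
      · refine inf_le_left.trans (le_centralizer_iff.mp ?_)
        exact (le_inf le_rfl (S.fcomp_le_X hsp)).trans (S.le_centralizer_fcomp_other hHtop hXH hsr)
    set K : Subgroup G := D₁ ⊓ ⨅ s : {s : ℕ // s.Prime ∧ s ≠ r}, centralizer (fcomp (s : ℕ) M : Set G) with hKdef
    have hKM : M ≤ normalizer (K : Set G) := by
      rw [le_normalizer_iff]
      intro m hm c hc
      refine ⟨Coprime.conj_mem (le_normalizer_pCorePrime M hm) hc.1, ?_⟩
      have hc2 : ∀ i : {s : ℕ // s.Prime ∧ s ≠ r}, c ∈ centralizer (fcomp (i : ℕ) M : Set G) :=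
        Subgroup.mem_iInf.mp hc.2
      exact Subgroup.mem_iInf.mpr fun i =>
        Coprime.conj_mem (hK _ (le_normalizer_fcomp _ M) hm) (hc2 i)
    have hTK : T ≤ K := le_inf hTD (le_iInf fun i => hTc i i.2.1 i.2.2)
    have hTn : K ≤ normalizer (T : Set G) := by
      rw [le_normalizer_iff]
      intro k hk t ht
      exact ⟨Coprime.conj_mem (le_normalizer_fcomp r H (hD₁H hk.1)) ht.1,
        M.mul_mem (M.mul_mem (hD₁M hk.1) ht.2) (M.inv_mem (hD₁M hk.1))⟩
    have hTM : T ≤ fcomp r M := by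
      haveI : (T.subgroupOf K).Normal := (normal_subgroupOf_iff_le_normalizer hTK).2 hTn
      have h1 : T ≤ fcomp r K := le_fcomp hTK hTn hTr
      refine h1.trans (le_fcomp ((fcomp_le r K).trans (inf_le_left.trans hD₁M)) ?_ (isPGroup_fcomp r K))
      intro m hm
      refine Coprime.mem_normalizer_of_map_conj ?_
      have hm' := hKM hm
      have h2 : K.map (MulAut.conj m).toMonoidHom = K := Subgroup.mem_normalizer_iff_map_conj_eq.1 hm'
      let e : K ≃* K := ((Subgroup.equivMapOfInjective K (MulAut.conj m).toMonoidHom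
        (MulAut.conj m).injective).trans (MulEquiv.subgroupCongr h2))
      have h3 := Cores.pCore_map_mulEquiv (p := r) e
      rw [fcomp]
      conv_rhs => rw [← h3]
      rw [Subgroup.map_map, Subgroup.map_map]
      rfl
    by_contra hnot
    have hSp : IsPGroup r ↥(fcomp r H ⊔ fcomp r M) :=
      (isPGroup_fcomp r H).to_sup_of_normal_left' (isPGroup_fcomp r M) (hQ.trans (le_normalizer_fcomp r H))
    obtain ⟨x, hx, hxn, hxN⟩ := exists_mem_notMem_normalizer' hSp
      (lt_of_le_of_ne le_sup_right fun h => hnot (h ▸ le_sup_left))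
    rw [← SetLike.mem_coe, Subgroup.coe_mul_of_right_le_normalizer_left (fcomp r H) (fcomp r M)
      (hQ.trans (le_normalizer_fcomp r H))] at hx
    obtain ⟨a, ha, b, hb, rfl⟩ := hx
    refine hxn (mul_mem (hTM ⟨ha, ?_⟩) hb)
    rw [← normalizer_fcomp hmin S.hM hr0]
    simpa using mul_mem hxN (inv_mem (le_normalizer hb))
  -- `O_p(M) ≤ H` and `O_p(H) ≤ O_p(M)`
  have hNq : normalizer (fcomp q H : Set G) = H := normalizer_fcomp hmin hH hq0'
  have hFpH : fcomp p M ≤ H := by
    refine le_trans ?_ ((centralizer_le_normalizer _).trans hNq.le)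
    exact (fcomp_le_centralizer_fcomp (Ne.symm S.hqp) M).trans (centralizer_le (hle q hq.out S.hqp))
  set K₂ := M ⊓ ⨅ s : {s : ℕ // s.Prime ∧ s ≠ p}, centralizer (fcomp (s : ℕ) M : Set G) with hK₂
  have hK₂H : K₂ ≤ H := by
    refine (inf_le_right.trans (iInf_le _ (⟨q, hq.out, S.hqp⟩ : {s : ℕ // s.Prime ∧ s ≠ p}))).trans ?_
    exact (centralizer_le (hle q hq.out S.hqp)).trans ((centralizer_le_normalizer _).trans hNq.le)
  have hRp : R ≤ fcomp p M := by
    have hRK : R ≤ K₂ := le_inf hRM (le_iInf fun i => hRC i i.2.1 i.2.2)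
    have hKM : M ≤ normalizer (K₂ : Set G) := by
      rw [le_normalizer_iff]
      intro m hm c hc
      refine ⟨M.mul_mem (M.mul_mem hm hc.1) (M.inv_mem hm), Subgroup.mem_iInf.mpr fun i =>
        Coprime.conj_mem (hK _ (le_normalizer_fcomp _ M) hm) (Subgroup.mem_iInf.mp hc.2 i)⟩
    have h1 : R ≤ fcomp p K₂ :=
      le_fcomp hRK (hK₂H.trans (le_normalizer_fcomp p H)) (isPGroup_fcomp p H)
    refine h1.trans (le_fcomp ((fcomp_le p K₂).trans inf_le_left) ?_ (isPGroup_fcomp p K₂))
    intro m hm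
    refine Coprime.mem_normalizer_of_map_conj ?_
    have h2 : K₂.map (MulAut.conj m).toMonoidHom = K₂ :=
      Subgroup.mem_normalizer_iff_map_conj_eq.1 (hKM hm)
    let e : K₂ ≃* K₂ := ((Subgroup.equivMapOfInjective K₂ (MulAut.conj m).toMonoidHom
      (MulAut.conj m).injective).trans (MulEquiv.subgroupCongr h2))
    have h3 := Cores.pCore_map_mulEquiv (p := p) e
    rw [fcomp]
    conv_rhs => rw [← h3]
    rw [Subgroup.map_map, Subgroup.map_map]
    rfl
  -- `O_{p'}(H)` centralizes `O_p(M)`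
  set D₂ := pCorePrime p H with hD₂
  have hD₂H : D₂ ≤ H := pCorePrime_le H
  set P := fcomp p M with hP
  have hPD₂ : P ≤ normalizer (D₂ : Set G) := hFpH.trans (le_normalizer_pCorePrime H)
  have hcle : ⁅D₂, P⁆ ≤ D₂ := Coprime.commutator_le_left_of_normalizer hPD₂
  have hD₂P : D₂ ≤ centralizer (P : Set G) := by
    refine le_centralizer_iff.mp (Coprime.le_centralizer_of_commutator_le_centralizer hPD₂ ?_ ?_)
    · obtain ⟨n, hn⟩ := IsPGroup.iff_card.mp (isPGroup_fcomp p M)
      rw [hP, hn]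
      exact ((coprime_pCorePrime H).pow_right n).symm
    have hF : ⁅D₂, P⁆ ≤ Cfsg.fittingOf H := by
      refine centralizer_fittingOf_le (hcle.trans hD₂H) fun r hr => ?_
      haveI := Fact.mk hr
      rw [← commutator_eq_bot_iff_le_centralizer]
      by_cases hrp : r = p
      · subst hrp
        refine commutator_commutator_eq_bot_of_rotate (G := G) ?_ ?_
        · rw [commutator_eq_bot_iff_le_centralizer]
          exact ((commutator_comm _ _).le.trans
            (Coprime.commutator_le_left_of_normalizer (hFpH.trans (le_normalizer_fcomp r H)))).trans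
            (commute_of_le_pCorePrime le_rfl)
        · rw [commutator_eq_bot_iff_le_centralizer.mpr (commute_of_le_pCorePrime (s := r) (T := D₂) le_rfl),
            commutator_bot_left]
      · have hc : P ≤ centralizer (fcomp r H : Set G) :=
          (fcomp_le_centralizer_fcomp (Ne.symm hrp) M).trans (centralizer_le (hle r hr hrp))
        refine commutator_commutator_eq_bot_of_rotate (G := G) ?_ ?_
        · rw [commutator_eq_bot_iff_le_centralizer.mpr hc, commutator_bot_left]
        · refine le_bot_iff.mp ((commutator_mono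
            (Coprime.commutator_le_left_of_normalizer (hD₂H.trans (le_normalizer_fcomp r H))) le_rfl).trans ?_)
          rw [commutator_eq_bot_iff_le_centralizer.mpr (le_centralizer_iff.mp hc)]
    refine Coprime.le_of_exists_sylow_le fun r hr => ?_
    haveI := Fact.mk hr
    obtain ⟨Q⟩ : Nonempty (Sylow r ↥⁅D₂, P⁆) := inferInstance
    refine ⟨Q, ?_⟩
    by_cases hrp : r = p
    · subst hrp
      have h1 : (Q : Subgroup ↥⁅D₂, P⁆).map (⁅D₂, P⁆).subtype = ⊥ :=
        (inf_eq_right.mpr ((map_subtype_le _).trans hcle)).symm.trans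
          (inf_comm D₂ _ ▸ Cores.disjoint_of_isPGroup_of_coprime (Q.isPGroup'.map _) (coprime_pCorePrime H))
      rw [h1]; exact bot_le
    · exact ((le_fcomp_of_le_fittingOf ((map_subtype_le _).trans hF) (Q.isPGroup'.map _)).trans
        (hle r hr hrp)).trans (fcomp_le_centralizer_fcomp hrp M)
  -- the two cores agree
  have hNP : normalizer (P : Set G) = M := normalizer_fcomp hmin S.hM S.fcomp_p_ne_bot
  have hD₂M : D₂ ≤ M := hD₂P.trans ((centralizer_le_normalizer P).trans hNP.le)
  have hNR : centralizer (R : Set G) ≤ H := (centralizer_le_normalizer R).trans (normalizer_fcomp hmin hH hR0).le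
  have h21 : D₂ ≤ D₁ := le_pCorePrime_of_centralizer (fcomp_le p M) (isPGroup_fcomp p M) hD₂M
    (coprime_pCorePrime H) le_rfl (le_centralizer_iff.mp hD₂P)
    (inf_le_right.trans (((centralizer_le hRp).trans hNR).trans (le_normalizer_pCorePrime H)))
  have h12 : D₁ ≤ D₂ := le_pCorePrime_of_centralizer hFpH (isPGroup_fcomp p M) hD₁H
    (coprime_pCorePrime M) le_rfl (commute_of_le_pCorePrime le_rfl)
    (inf_le_right.trans (((centralizer_le_normalizer P).trans hNP.le).trans (le_normalizer_pCorePrime M)))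
  have hD0 : D₁ ≠ ⊥ := ne_bot_of_le_ne_bot S.hq0 (fcomp_le_pCorePrime S.hqp M)
  have hM' := normalizer_eq_of_isCoatom hmin S.hM hD₁M hD0 (le_normalizer_pCorePrime M)
  have hH' := normalizer_eq_of_isCoatom hmin hH (pCorePrime_le H) (le_antisymm h12 h21 ▸ hD0)
    (le_normalizer_pCorePrime H)
  rw [← hH', ← hM', show pCorePrime p H = pCorePrime p M from le_antisymm h21 h12]

end FittingSetup

end Cfsg.Agent.H41
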