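import Mathlib

/-!
# The sign of a permutation of order dividing four
-/

set_option autoImplicit false

namespace Cfsg.Agent.H41

open Equiv Equiv.Perm

variable {X : Type*} [Fintype X] [DecidableEq X]

/-- The sign of a permutation `σ` with `σ ^ 4 = 1`, from the supports of `σ` and `σ ^ 2`. -/
theorem sign_of_pow_four (σ : Perm X) (h : σ ^ 4 = 1) :
    ∃ k : ℕ, 2 * σ.support.card = (σ ^ 2).support.card + 4 * k ∧ Perm.sign σ = (-1) ^ k := by
  revert h
  induction σ using Equiv.Perm.cycle_induction_on with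
  | base_one => exact fun _ => ⟨0, by simp, by simp⟩
  | base_cycles σ hσ =>
    intro h
    have hd : orderOf σ ∣ 2 ^ 2 := orderOf_dvd_of_pow_eq_one h
    rw [hσ.orderOf] at hd
    obtain ⟨i, hi, hc⟩ := (Nat.dvd_prime_pow Nat.prime_two).1 hd
    have h2 := hσ.two_le_card_support
    interval_cases i
    · omega
    · have hp : σ ^ 2 = 1 := by
        rw [← orderOf_dvd_iff_pow_eq_one, hσ.orderOf, hc]; rfl
      refine ⟨1, by simp [hp, hc], ?_⟩
      rw [hσ.sign, hc]; decide
    · have hp : (σ ^ 2).support = σ.support := by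
        rw [hσ.support_pow_eq_iff, hσ.orderOf, hc]; decide
      refine ⟨1, by rw [hp, hc]; rfl, ?_⟩
      rw [hσ.sign, hc]; decide
  | induction_disjoint σ τ hd _ ihσ ihτ =>
    intro h
    rw [hd.commute.mul_pow] at h
    obtain ⟨h1, h2⟩ := (Disjoint.mul_eq_one_iff (hd.pow_disjoint_pow 4 4)).1 h
    obtain ⟨a, ha, ha'⟩ := ihσ h1
    obtain ⟨b, hb, hb'⟩ := ihτ h2
    refine ⟨a + b, ?_, by rw [map_mul, ha', hb', pow_add]⟩
    rw [hd.card_support_mul, hd.commute.mul_pow, (hd.pow_disjoint_pow 2 2).card_support_mul]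
    omega

end Cfsg.Agent.H41
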