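import Mathlib
import Cfsg.Agent.H41.PermCycleFour

/-!
# Four-fold transitive groups with a four-point stabilizer of odd order: involutions

Lifting of patterns on four points to involutions, commuting adjustments, and the fact that an
involution fixes at most three points.
-/

set_option autoImplicit false
set_option linter.unusedSectionVars false
set_option linter.style.haveILetI false

namespace Cfsg.Agent.H41

open MulAction Finset

variable {G X : Type*} [Group G] [MulAction G X]

/-- Four distinct points. -/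
def D4 (a b c d : X) : Prop := a ≠ b ∧ a ≠ c ∧ a ≠ d ∧ b ≠ c ∧ b ≠ d ∧ c ≠ d

/-- `g` maps the four points `a b c d` to `a' b' c' d'`. -/
def Maps (g : G) (a b c d a' b' c' d' : X) : Prop :=
  g • a = a' ∧ g • b = b' ∧ g • c = c' ∧ g • d = d'

/-- The stabilizer of four points. -/
def fix4 (G : Type*) [Group G] [MulAction G X] (a b c d : X) : Subgroup G :=
  stabilizer G a ⊓ stabilizer G b ⊓ stabilizer G c ⊓ stabilizer G d

theorem mem_fix4 {g : G} {a b c d : X} : g ∈ fix4 G a b c d ↔ Maps g a b c d a b c d := by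
  simp [fix4, Maps, and_assoc]

/-- Four-fold transitive with stabilizers of odd order. -/
structure HallCfg (G X : Type*) [Group G] [MulAction G X] : Prop where
  trans : ∀ {a b c d a' b' c' d' : X}, D4 a b c d → D4 a' b' c' d' →
    ∃ g : G, Maps g a b c d a' b' c' d'
  odd : ∀ {a b c d : X}, D4 a b c d → Odd (Nat.card (fix4 G a b c d))

/-- An involution. -/
def IsInv (t : G) : Prop := t * t = 1 ∧ t ≠ 1

theorem IsInv.inv_eq {t : G} (ht : IsInv t) : t⁻¹ = t := inv_eq_of_mul_eq_one_right ht.1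

theorem IsInv.smul_smul {t : G} (ht : IsInv t) (x : X) : t • t • x = x := by
  rw [← mul_smul, ht.1, one_smul]

theorem IsInv.conj {t : G} (ht : IsInv t) (g : G) : IsInv (g * t * g⁻¹) := by
  refine ⟨?_, fun e => ht.2 ?_⟩
  · rw [show g * t * g⁻¹ * (g * t * g⁻¹) = g * (t * t) * g⁻¹ by group, ht.1, mul_one,
      mul_inv_cancel]
  · rw [show t = g⁻¹ * (g * t * g⁻¹) * g by group, e, mul_one, inv_mul_cancel]

/-- A product of commuting involutions. -/
theorem IsInv.mul {t u : G} (ht : IsInv t) (hu : IsInv u) (hc : Commute t u) (hne : t ≠ u) :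
    IsInv (t * u) :=
  ⟨by rw [hc.symm.mul_mul_mul_comm, ht.1, hu.1, mul_one],
    fun e => hne (by rw [eq_inv_of_mul_eq_one_left e, hu.inv_eq])⟩

/-- An element and an involution inverting it. -/
theorem IsInv.conj_mul {t u : G} (ht : IsInv t) (hu : IsInv u) : u * (t * u) * u = (t * u)⁻¹ := by
  rw [mul_inv_rev, ht.inv_eq, hu.inv_eq, mul_assoc, mul_assoc t u u, hu.1, mul_one]

theorem IsInv.conj_pow {d u : G} (hu : IsInv u) (h : u * d * u = d⁻¹) (j : ℕ) :
    u * d ^ j * u = (d ^ j)⁻¹ := by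
  induction j with
  | zero => simp [hu.1]
  | succ j ih =>
    calc u * d ^ (j + 1) * u = u * d ^ j * (u * u) * d * u := by rw [hu.1, mul_one, pow_succ, ← mul_assoc]
      _ = (u * d ^ j * u) * (u * d * u) := by group
      _ = _ := by rw [ih, h, ← mul_inv_rev, ← pow_succ']

/-- The fixed points. -/
def fx [Fintype X] [DecidableEq X] (g : G) : Finset X := Finset.univ.filter fun x => g • x = x

section
variable [Fintype X] [DecidableEq X]

@[simp] theorem mem_fx {g : G} {x : X} : x ∈ fx (X := X) g ↔ g • x = x := by simp [fx]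

theorem smul_mem_fx_iff {g h : G} (hc : Commute g h) {x : X} :
    h • x ∈ fx (X := X) g ↔ x ∈ fx (X := X) g := by
  rw [mem_fx, mem_fx, ← mul_smul, hc.eq, mul_smul]
  exact (smul_left_cancel_iff h)

theorem compl_support (g : G) : (MulAction.toPermHom G X g).supportᶜ = fx g := by
  ext x; simp

theorem card_fx_add (g : G) :
    (fx (X := X) g).card + (MulAction.toPermHom G X g).support.card = Fintype.card X := by
  rw [← compl_support, Finset.card_compl_add_card]

theorem card_fx_conj (g h : G) : (fx (X := X) (h * g * h⁻¹)).card = (fx (X := X) g).card := by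
  refine Finset.card_bij' (fun x _ => h⁻¹ • x) (fun x _ => h • x) ?_ ?_ (by simp) (by simp)
  · intro x hx
    simp only [mem_fx, mul_smul] at hx ⊢
    exact (eq_inv_smul_iff.2 hx)
  · intro x hx
    simp only [mem_fx, mul_smul] at hx ⊢
    simp [hx]

theorem fx_mod_two {t : G} (ht : IsInv t) :
    (fx (X := X) t).card % 2 = Fintype.card X % 2 := by
  haveI : Fact (Nat.Prime 2) := ⟨Nat.prime_two⟩
  rw [← compl_support]
  exact Equiv.Perm.card_compl_support_modEq (n := 1)
    (by rw [pow_one, ← map_pow, sq, ht.1, map_one])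

end

namespace HallCfg

variable (hG : HallCfg G X) [Finite G]
include hG

theorem odd_orderOf {a b c d : X} (hd : D4 a b c d) {g : G} (hg : g ∈ fix4 G a b c d) :
    Odd (orderOf g) := by
  rw [← Subgroup.orderOf_mk g hg]
  exact (hG.odd hd).of_dvd_nat (orderOf_dvd_natCard _)

theorem eq_one_of_sq {a b c d : X} (hd : D4 a b c d) {g : G} (hg : g ∈ fix4 G a b c d)
    (h2 : g * g = 1) : g = 1 := by
  have h := hG.odd_orderOf hd hg
  have h' : orderOf g ∣ 2 := orderOf_dvd_of_pow_eq_one (by rw [sq, h2])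
  rw [← orderOf_eq_one_iff]
  rcases (Nat.dvd_prime Nat.prime_two).1 h' with h' | h'
  · exact h'
  · rw [h'] at h; exact absurd h (by decide)

/-- A nontrivial pattern of order two lifts to an involution. -/
theorem exists_inv {a b c d a' b' c' d' : X} (hd : D4 a b c d) (hd' : D4 a' b' c' d')
    (hsq : ∀ g : G, Maps g a b c d a' b' c' d' → g * g ∈ fix4 G a b c d)
    (hne : ¬ (a' = a ∧ b' = b ∧ c' = c ∧ d' = d)) :
    ∃ t : G, IsInv t ∧ Maps t a b c d a' b' c' d' := by
  obtain ⟨g, hg⟩ := hG.trans hd hd'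
  have h2 := hsq g hg
  set m := orderOf (g * g)
  obtain ⟨j, hj⟩ := hG.odd_orderOf hd h2
  have hm : Maps (g ^ m) a b c d a' b' c' d' := by
    have h3 := mem_fix4.1 (pow_mem h2 j)
    rw [show m = 1 + 2 * j by omega, pow_add, pow_one, pow_mul, sq]
    simp only [Maps, mul_smul] at h3 ⊢
    exact ⟨by rw [h3.1, hg.1], by rw [h3.2.1, hg.2.1], by rw [h3.2.2.1, hg.2.2.1],
      by rw [h3.2.2.2, hg.2.2.2]⟩
  refine ⟨g ^ m, ⟨?_, fun e => hne ?_⟩, hm⟩
  · rw [← sq, ← pow_mul, mul_comm, pow_mul, sq, pow_orderOf_eq_one]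
  · simp only [Maps, e, one_smul] at hm
    exact ⟨hm.1.symm, hm.2.1.symm, hm.2.2.1.symm, hm.2.2.2.symm⟩

/-- Two involutions agreeing on four points are conjugate. -/
theorem conj_of_agree {a b c d : X} (hd : D4 a b c d) {t t' : G} (ht : IsInv t) (ht' : IsInv t')
    (h : t * t' ∈ fix4 G a b c d) : ∃ k : G, t' = k * t * k⁻¹ := by
  obtain ⟨j, hj⟩ := hG.odd_orderOf hd h
  set P := (t * t') ^ j with hP
  have hpow : t' * P * t' = P⁻¹ := ht'.conj_pow (ht.conj_mul ht') j
  have h1 : P * P * (t * t') = 1 := by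
    rw [hP, ← pow_add, ← pow_succ, show j + j + 1 = 2 * j + 1 by ring, ← hj, pow_orderOf_eq_one]
  have h2 : t * t' = P⁻¹ * P⁻¹ := by
    rw [eq_inv_of_mul_eq_one_right h1, mul_inv_rev]
  refine ⟨P, ?_⟩
  have h4 : t' * P = P⁻¹ * t' := by rw [← hpow, mul_assoc, ht'.1, mul_one]
  have h3 : t = P⁻¹ * t' * P := by
    rw [mul_assoc, h4, ← mul_assoc, ← h2, mul_assoc, ht'.1, mul_one]
  rw [h3]; group

/-- Adjusting an involution to commute with another one. -/
theorem exists_commute {a b c d : X} (hd : D4 a b c d) {t u : G} (ht : IsInv t) (hu : IsInv u)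
    (h : t * u * (t * u) ∈ fix4 G a b c d) :
    ∃ k ∈ fix4 G a b c d, k * t * (k * t) = 1 ∧ Commute (k * t) u := by
  obtain ⟨j, hj⟩ := hG.odd_orderOf hd h
  set k := (t * u * (t * u)) ^ j
  have h1 : k * (t * u) * (k * (t * u)) = 1 := by
    have e : (t * u * (t * u)) ^ (2 * j + 1) = 1 := hj ▸ pow_orderOf_eq_one _
    have hc : Commute k (t * u) := ((Commute.refl (t * u)).mul_left (Commute.refl _)).pow_left j
    rw [hc.symm.mul_mul_mul_comm, ← pow_add, ← pow_succ, show j + j + 1 = 2 * j + 1 by ring, e]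
  have h2 : t * k * t = k⁻¹ := by
    refine IsInv.conj_pow ht ?_ j
    simp only [mul_inv_rev, ht.inv_eq, hu.inv_eq, ← mul_assoc, ht.1, one_mul]
  have h3 : k * t * (k * t) = 1 := by
    rw [show k * t * (k * t) = k * (t * k * t) by group, h2, mul_inv_cancel]
  refine ⟨k, pow_mem h j, h3, ?_⟩
  have h4 : k * t * u * (k * t * u) = 1 := by rw [mul_assoc k t u]; exact h1
  have h5 : (k * t * u)⁻¹ = k * t * u := inv_eq_of_mul_eq_one_right h4
  rw [mul_inv_rev, hu.inv_eq, inv_eq_of_mul_eq_one_right h3] at h5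
  exact h5.symm

end HallCfg

end Cfsg.Agent.H41
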