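import Cfsg.Agent.H41.FourTransUnique

/-!
# Four-fold transitive groups with a four-point stabilizer of odd order: degree at least eight

The degree is eleven and the stabilizer of four points is trivial.
-/

set_option autoImplicit false
set_option linter.unusedSectionVars false

namespace Cfsg.Agent.H41

open MulAction Finset

variable {G X : Type*} [Group G] [MulAction G X]

theorem IsInv.smul_ne {t : G} (ht : IsInv t) {x : X} {s : Finset X} [Fintype X] [DecidableEq X]
    (hs : ∀ u ∈ s, t • u ∈ s) (hx : x ∉ s) : t • x ∉ s := fun h => hx (by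
  simpa [ht.smul_smul] using hs _ h)

namespace HallCfg

variable (hG : HallCfg G X) [Finite G] [Fintype X] [DecidableEq X] [FaithfulSMul G X]
  (hn : 8 ≤ Fintype.card X)
include hG hn

theorem exists_swap {x y z w : X} (hd : D4 x y z w) :
    ∃ t : G, IsInv t ∧ t • x = y ∧ t • z = z ∧ t • w = w := by
  obtain ⟨t, ht, h1, -, h3, h4⟩ := hG.exists_inv hd (a' := y) (b' := x) (c' := z) (d' := w)
    ⟨Ne.symm hd.1, hd.2.2.2.1, hd.2.2.2.2.1, hd.2.1, hd.2.2.1, hd.2.2.2.2.2⟩ (fun g hg => by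
      simp only [mem_fix4, Maps, mul_smul g g] at hg ⊢
      simp [hg.1, hg.2.1, hg.2.2.1, hg.2.2.2]) (fun h => hd.1 h.1.symm)
  exact ⟨t, ht, h1, h3, h4⟩

/-- Exactly one involution swaps `x, y` and fixes `z, w`. -/
theorem swap_unique {x y z w : X} (hd : D4 x y z w) {t t' : G} (ht : IsInv t) (ht' : IsInv t')
    (hx : t • x = y) (hz : t • z = z) (hw : t • w = w) (hx' : t' • x = y) (hz' : t' • z = z)
    (hw' : t' • w = w) : t = t' := by
  classical
  set Y : Finset X := ({z, w} : Finset X)ᶜ with hY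
  have hzw := hd.2.2.2.2.2
  have memY : ∀ {u : X}, u ∈ Y ↔ u ≠ z ∧ u ≠ w := fun {u} => by simp [hY]
  have hT : ∀ p : X, ∃ s : G, p ∈ Y → IsInv s ∧ s • z = z ∧ s • w = w ∧ s • p = p := fun p => by
    by_cases hp : p ∈ Y
    · obtain ⟨h1, h2⟩ := memY.1 hp
      obtain ⟨s, hs, a, b, c⟩ := hG.exists_inv_fix_three hn hzw (Ne.symm h1) (Ne.symm h2)
      exact ⟨s, fun _ => ⟨hs, a, b, c⟩⟩
    · exact ⟨1, fun h => absurd h hp⟩
  choose T hT using hT
  have hne : ∀ q : X × X, q ∈ Y.offDiag → (q.2, T q.1 • q.2) ∈ Y.offDiag := by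
    intro q hq
    obtain ⟨h1, h2, h3⟩ := Finset.mem_offDiag.1 hq
    obtain ⟨hs, a, b, c⟩ := hT _ h1
    refine Finset.mem_offDiag.2 ⟨h2, memY.2 ⟨fun e => (memY.1 h2).1 (smul_left_cancel _ (e.trans a.symm)),
      fun e => (memY.1 h2).2 (smul_left_cancel _ (e.trans b.symm))⟩, fun e => ?_⟩
    rcases hG.fx_eq_three hn hs hzw (Ne.symm (memY.1 h1).1) (Ne.symm (memY.1 h1).2) a b c e.symm with
      h | h | h
    exacts [(memY.1 h2).1 h, (memY.1 h2).2 h, h3 h.symm]
  let F : {q // q ∈ Y.offDiag} → {q // q ∈ Y.offDiag} := fun q => ⟨_, hne q.1 q.2⟩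
  -- the third fixed point
  have hthird : ∀ s : G, IsInv s → s • z = z → s • w = w → ∀ u : X, s • u ≠ u →
      ∃ p, ∃ hp : (p, u) ∈ Y.offDiag, T p = s := by
    intro s hs a b u hu
    obtain ⟨p, hp⟩ : ∃ p, p ∈ fx (X := X) s ∧ p ∈ Y := by
      by_contra h
      push Not at h
      have hsub : fx (X := X) s ⊆ {z, w} := fun p hp => by
        have := h p hp; rw [memY] at this; simp only [Finset.mem_insert, Finset.mem_singleton]
        tauto
      have := Finset.card_le_card hsub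
      rw [hG.card_fx hn hs, Finset.card_pair hzw] at this
      omega
    obtain ⟨hp1, hp2⟩ := hp
    rw [mem_fx] at hp1
    obtain ⟨hs', a', b', c'⟩ := hT p hp2
    refine ⟨p, Finset.mem_offDiag.2 ⟨hp2, memY.2 ⟨fun e => hu ((congrArg (s • ·) e).trans (a.trans e.symm)), fun e => hu ((congrArg (s • ·) e).trans (b.trans e.symm))⟩,
      fun e : p = u => hu (e ▸ hp1)⟩, ?_⟩
    exact hG.inv_fix_three_unique hn hs' hs hzw (Ne.symm (memY.1 hp2).1) (Ne.symm (memY.1 hp2).2)
      a' b' c' a b hp1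
  have hsurj : Function.Surjective F := by
    rintro ⟨⟨u, v⟩, huv⟩
    obtain ⟨h1, h2, h3⟩ := Finset.mem_offDiag.1 huv
    obtain ⟨s, hs, su, sz, sw⟩ := hG.exists_swap hn (x := u) (y := v) (z := z) (w := w)
      ⟨h3, (memY.1 h1).1, (memY.1 h1).2, (memY.1 h2).1, (memY.1 h2).2, hzw⟩
    obtain ⟨p, hp, e⟩ := hthird s hs sz sw u (by rw [su]; exact Ne.symm h3)
    exact ⟨⟨(p, u), hp⟩, Subtype.ext (Prod.ext rfl (by simp only [F, e, su]))⟩
  have hinj := Finite.injective_iff_surjective.2 hsurj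
  obtain ⟨p, hp, e⟩ := hthird t ht hz hw x (by rw [hx]; exact Ne.symm hd.1)
  obtain ⟨p', hp', e'⟩ := hthird t' ht' hz' hw' x (by rw [hx']; exact Ne.symm hd.1)
  have h := @hinj ⟨(p, x), hp⟩ ⟨(p', x), hp'⟩ (Subtype.ext (Prod.ext rfl (by
    simp only [F, e, e', hx, hx'])))
  rw [← e, ← e', show p = p' from congrArg (fun q : {q // q ∈ Y.offDiag} => q.1.1) h]

/-- The commuting transpositions of a pattern. -/
theorem exists_pair {x y z w : X} (hd : D4 x y z w) : ∃ a b : G, IsInv a ∧ IsInv b ∧ Commute a b ∧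
    a • x = y ∧ a • z = z ∧ a • w = w ∧ b • z = w ∧ b • x = x ∧ b • y = y := by
  have hd' : D4 z w x y := ⟨hd.2.2.2.2.2, Ne.symm hd.2.1, Ne.symm hd.2.2.2.1, Ne.symm hd.2.2.1,
    Ne.symm hd.2.2.2.2.1, hd.1⟩
  obtain ⟨a, ha, a1, a2, a3⟩ := hG.exists_swap hn hd
  obtain ⟨b, hb, b1, b2, b3⟩ := hG.exists_swap hn hd'
  refine ⟨a, b, ha, hb, ?_, a1, a2, a3, b1, b2, b3⟩
  have h := hG.swap_unique hn hd (ha.conj b) ha
    (by simp [mul_smul, hb.inv_eq, b2, a1, b3]) ?_ ?_ a1 a2 a3
  · exact (mul_inv_eq_iff_eq_mul.1 h).symm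
  all_goals simp only [mul_smul, hb.inv_eq]
  · rw [b1, a3, ← b1, hb.smul_smul]
  · rw [← b1, hb.smul_smul, a2]

/-- An involution swapping two pairs is the product of the two transpositions. -/
theorem double_eq {x y z w : X} (hd : D4 x y z w) {a b t : G} (ha : IsInv a) (hb : IsInv b)
    (hab : Commute a b) (a1 : a • x = y) (a2 : a • z = z) (a3 : a • w = w) (b1 : b • z = w)
    (b2 : b • x = x) (b3 : b • y = y) (ht : IsInv t) (t1 : t • x = y) (t2 : t • z = w) :
    t = a * b := by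
  have t1' : t • y = x := by rw [← t1, ht.smul_smul]
  have t2' : t • w = z := by rw [← t2, ht.smul_smul]
  have a1' : a • y = x := by rw [← a1, ha.smul_smul]
  have b1' : b • w = z := by rw [← b1, hb.smul_smul]
  have hd' : D4 z w x y := ⟨hd.2.2.2.2.2, Ne.symm hd.2.1, Ne.symm hd.2.2.2.1, Ne.symm hd.2.2.1,
    Ne.symm hd.2.2.2.2.1, hd.1⟩
  have hta : Commute t a := by
    have h := hG.swap_unique hn hd (ha.conj t) ha (by simp [mul_smul, ht.inv_eq, t1, a1', t1'])
      (by simp [mul_smul, ht.inv_eq, t2, a3, t2']) (by simp [mul_smul, ht.inv_eq, t2', a2, t2])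
      a1 a2 a3
    exact mul_inv_eq_iff_eq_mul.1 h
  have htb : Commute t b := by
    have h := hG.swap_unique hn hd' (hb.conj t) hb (by simp [mul_smul, ht.inv_eq, t2, b1', t2'])
      (by simp [mul_smul, ht.inv_eq, t1, b3, t1']) (by simp [mul_smul, ht.inv_eq, t1', b2, t1])
      b1 b2 b3
    exact mul_inv_eq_iff_eq_mul.1 h
  have h := hG.eq_one_of_sq hd (g := t * (a * b)) (by
    simp [mem_fix4, Maps, mul_smul, a1, a1', a2, a3, b1, b1', b2, b3, t1, t1', t2, t2']) (by
    rw [((hta.mul_right htb).symm).mul_mul_mul_comm, ht.1, one_mul, hab.symm.mul_mul_mul_comm,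
      ha.1, hb.1, one_mul])
  rw [eq_inv_of_mul_eq_one_left h, mul_inv_rev, ha.inv_eq, hb.inv_eq, hab.eq]

theorem degree_eq : Fintype.card X = 11 := by
  classical
  haveI := Fintype.ofFinite G
  obtain ⟨x, hx⟩ := hG.exists_other hn ∅ (by simp)
  obtain ⟨y, hy⟩ := hG.exists_other hn {x} (by simp)
  rw [Finset.mem_singleton] at hy
  set R : Finset X := ({x, y} : Finset X)ᶜ with hR
  have memR : ∀ {u : X}, u ∈ R ↔ u ≠ x ∧ u ≠ y := fun {u} => by simp [hR]
  have hcR : R.card = Fintype.card X - 2 := by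
    rw [hR, Finset.card_compl, Finset.card_pair (Ne.symm hy)]
  set U : Finset G := Finset.univ.filter fun t => IsInv t ∧ t • x = y with hU
  have memU : ∀ {t : G}, t ∈ U ↔ IsInv t ∧ t • x = y := fun {t} => by simp [hU]
  have hD : ∀ {u v : X}, (u, v) ∈ R.offDiag → D4 x y u v := fun {u v} h => by
    obtain ⟨h1, h2, h3⟩ := Finset.mem_offDiag.1 h
    exact ⟨Ne.symm hy, Ne.symm (memR.1 h1).1, Ne.symm (memR.1 h2).1, Ne.symm (memR.1 h1).2,
      Ne.symm (memR.1 h2).2, h3⟩
  have hfix : ∀ t ∈ U, ∀ u : X, t • u = u → u ∈ R := fun t ht u hu => by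
    obtain ⟨ht, hxy⟩ := memU.1 ht
    refine memR.2 ⟨fun e => hy (by rw [← hxy, ← e, hu]), fun e => hy ?_⟩
    rw [← ht.smul_smul x, hxy, ← e, hu]
  have e1 : 6 * U.card = R.offDiag.card := by
    have h : (U.sigma fun t => (fx (X := X) t).offDiag).card = 6 * U.card := by
      rw [Finset.card_sigma, Finset.sum_congr rfl fun t ht => (by
        rw [Finset.offDiag_card, hG.card_fx hn (memU.1 ht).1] :
          (fx (X := X) t).offDiag.card = 6), Finset.sum_const, smul_eq_mul, mul_comm]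
    rw [← h]
    refine Finset.card_bij (fun q _ => q.2) (fun q hq => ?_) (fun q hq q' hq' e => ?_) (fun p hp => ?_)
    · obtain ⟨h1, h2⟩ := Finset.mem_sigma.1 hq
      obtain ⟨a, b, c⟩ := Finset.mem_offDiag.1 h2
      rw [mem_fx] at a b
      exact Finset.mem_offDiag.2 ⟨hfix _ h1 _ a, hfix _ h1 _ b, c⟩
    · obtain ⟨h1, h2⟩ := Finset.mem_sigma.1 hq
      obtain ⟨h1', h2'⟩ := Finset.mem_sigma.1 hq'
      obtain ⟨t, u, v⟩ := q
      obtain ⟨t', u', v'⟩ := q'
      obtain ⟨a, b, c⟩ := Finset.mem_offDiag.1 h2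
      obtain ⟨a', b', -⟩ := Finset.mem_offDiag.1 h2'
      simp only [Prod.mk.injEq] at e
      obtain ⟨rfl, rfl⟩ := e
      rw [mem_fx] at a b a' b'
      obtain rfl := hG.swap_unique hn (hD (Finset.mem_offDiag.2 ⟨hfix _ h1 _ a, hfix _ h1 _ b, c⟩))
        (memU.1 h1).1 (memU.1 h1').1 (memU.1 h1).2 a b (memU.1 h1').2 a' b'
      rfl
    · obtain ⟨s, hs, s1, s2, s3⟩ := hG.exists_swap hn (hD hp)
      exact ⟨⟨s, p⟩, Finset.mem_sigma.2 ⟨memU.2 ⟨hs, s1⟩, Finset.mem_offDiag.2
        ⟨mem_fx.2 s2, mem_fx.2 s3, (Finset.mem_offDiag.1 hp).2.2⟩⟩, rfl⟩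
  have e2 : (Fintype.card X - 5) * U.card = R.offDiag.card := by
    have h : (U.sigma fun t => R \ fx (X := X) t).card = (Fintype.card X - 5) * U.card := by
      rw [Finset.card_sigma, Finset.sum_congr rfl fun t ht => (by
        rw [Finset.card_sdiff_of_subset fun u hu => hfix t ht u (mem_fx.1 hu),
          hG.card_fx hn (memU.1 ht).1, hcR]; omega :
          (R \ fx (X := X) t).card = Fintype.card X - 5), Finset.sum_const, smul_eq_mul, mul_comm]
    rw [← h]
    refine Finset.card_bij (fun q _ => (q.2, q.1 • q.2)) (fun q hq => ?_) (fun q hq q' hq' e => ?_)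
      (fun p hp => ?_)
    · obtain ⟨h1, h2⟩ := Finset.mem_sigma.1 hq
      obtain ⟨a, b⟩ := Finset.mem_sdiff.1 h2
      obtain ⟨ht, hxy⟩ := memU.1 h1
      rw [mem_fx] at b
      refine Finset.mem_offDiag.2 ⟨a, memR.2 ⟨fun e => (memR.1 a).2 ?_, fun e => (memR.1 a).1
        (smul_left_cancel _ (e.trans hxy.symm))⟩, Ne.symm b⟩
      exact (ht.smul_smul q.2).symm.trans ((congrArg (q.1 • ·) e).trans hxy)
    · obtain ⟨h1, h2⟩ := Finset.mem_sigma.1 hq
      obtain ⟨h1', h2'⟩ := Finset.mem_sigma.1 hq'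
      obtain ⟨t, u⟩ := q
      obtain ⟨t', u'⟩ := q'
      obtain ⟨e1, e2⟩ := Prod.mk.inj e
      obtain rfl : u = u' := e1
      obtain ⟨a, b⟩ := Finset.mem_sdiff.1 h2
      rw [mem_fx] at b
      obtain ⟨ht, hxy⟩ := memU.1 h1
      obtain ⟨ht', hxy'⟩ := memU.1 h1'
      have hd : D4 x y u (t • u) := hD (Finset.mem_offDiag.2 ⟨a, memR.2 ⟨fun e => (memR.1 a).2
        ((ht.smul_smul u).symm.trans ((congrArg (t • ·) e).trans hxy)), fun e => (memR.1 a).1
        (smul_left_cancel _ (e.trans hxy.symm))⟩, Ne.symm b⟩)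
      obtain ⟨α, β, hα, hβ, hαβ, a1, a2, a3, b1, b2, b3⟩ := hG.exists_pair hn hd
      obtain rfl : t = t' :=
        (hG.double_eq hn hd hα hβ hαβ a1 a2 a3 b1 b2 b3 ht hxy rfl).trans
          (hG.double_eq hn hd hα hβ hαβ a1 a2 a3 b1 b2 b3 ht' hxy' e2.symm).symm
      rfl
    · obtain ⟨u, v⟩ := p
      obtain ⟨α, β, hα, hβ, hαβ, a1, a2, a3, b1, b2, b3⟩ := hG.exists_pair hn (hD hp)
      have hd := hD hp
      have hne : α ≠ β := fun e => hd.1 (by rw [← a1, e, b2])
      refine ⟨⟨α * β, u⟩, Finset.mem_sigma.2 ⟨memU.2 ⟨hα.mul hβ hαβ hne, by rw [mul_smul, b2, a1]⟩,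
        Finset.mem_sdiff.2 ⟨(Finset.mem_offDiag.1 hp).1, fun h => ?_⟩⟩, ?_⟩
      · rw [mem_fx, mul_smul, b1, a3] at h
        exact (Finset.mem_offDiag.1 hp).2.2 h.symm
      · simp [mul_smul, b1, a3]
  have hpos : 0 < U.card := by
    obtain ⟨u, hu⟩ := hG.exists_other hn {x, y} (Finset.card_le_two.trans (by omega))
    obtain ⟨v, hv⟩ := hG.exists_other hn {x, y, u} (Finset.card_le_three.trans (by omega))
    simp only [Finset.mem_insert, Finset.mem_singleton, not_or] at hu hv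
    obtain ⟨s, hs, s1, -, -⟩ := hG.exists_swap hn (x := x) (y := y) (z := u) (w := v)
      ⟨Ne.symm hy, Ne.symm hu.1, Ne.symm hv.1, Ne.symm hu.2, Ne.symm hv.2.1, Ne.symm hv.2.2⟩
    exact Finset.card_pos.2 ⟨s, memU.2 ⟨hs, s1⟩⟩
  have := Nat.eq_of_mul_eq_mul_right hpos (e1.trans e2.symm)
  omega

/-- The stabilizer of four points is trivial. -/
theorem fix4_eq_bot {x y z w : X} (hd : D4 x y z w) : fix4 G x y z w = ⊥ := by
  classical
  rw [Subgroup.eq_bot_iff_forall]
  intro h hh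
  obtain ⟨hx, hy, hz, hw⟩ := mem_fix4.1 hh
  obtain ⟨a, b, ha, hb, hab, a1, a2, a3, b1, b2, b3⟩ := hG.exists_pair hn hd
  have hne : a ≠ b := fun e => hd.1 (by rw [← a1, e, b2])
  set t := a * b with ht'
  have ht : IsInv t := ha.mul hb hab hne
  have hat : Commute a t := (Commute.refl a).mul_right hab
  have hbt : Commute b t := hab.symm.mul_right (Commute.refl b)
  have hb' : a * t = b := by rw [ht', ← mul_assoc, ha.1, one_mul]
  have a1' : a • y = x := by rw [← a1, ha.smul_smul]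
  have b1' : b • w = z := by rw [← b1, hb.smul_smul]
  have hd' : D4 z w x y := ⟨hd.2.2.2.2.2, Ne.symm hd.2.1, Ne.symm hd.2.2.2.1, Ne.symm hd.2.2.1,
    Ne.symm hd.2.2.2.2.1, hd.1⟩
  have ix : h⁻¹ • x = x := inv_smul_eq_iff.2 hx.symm
  have iz : h⁻¹ • z = z := inv_smul_eq_iff.2 hz.symm
  have iw : h⁻¹ • w = w := inv_smul_eq_iff.2 hw.symm
  have iy : h⁻¹ • y = y := inv_smul_eq_iff.2 hy.symm
  have hha : Commute h a := mul_inv_eq_iff_eq_mul.1 (hG.swap_unique hn hd (ha.conj h) ha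
    (by simp [mul_smul, ix, a1, hy]) (by simp [mul_smul, iz, a2, hz])
    (by simp [mul_smul, iw, a3, hw]) a1 a2 a3)
  have hhb : Commute h b := mul_inv_eq_iff_eq_mul.1 (hG.swap_unique hn hd' (hb.conj h) hb
    (by simp [mul_smul, iz, b1, hw]) (by simp [mul_smul, ix, b2, hx])
    (by simp [mul_smul, iy, b3, hy]) b1 b2 b3)
  have hht : Commute h t := hha.mul_right hhb
  have tz : t • z = w := by rw [ht', mul_smul, b1, a3]
  have tx : t • x = y := by rw [ht', mul_smul, b2, a1]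
  have ty : t • y = x := by rw [← tx, ht.smul_smul]
  have tw : t • w = z := by rw [← tz, ht.smul_smul]
  -- the third fixed point of `a`
  obtain ⟨p, hp⟩ : ∃ p, a • p = p ∧ p ≠ z ∧ p ≠ w := by
    by_contra hc
    push Not at hc
    have := Finset.card_le_card (show fx (X := X) a ⊆ {z, w} from fun p hp => by
      have := hc p (mem_fx.1 hp); simp only [Finset.mem_insert, Finset.mem_singleton]; tauto)
    rw [hG.card_fx hn ha, Finset.card_pair hd.2.2.2.2.2] at this
    omega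
  obtain ⟨ap, hpz, hpw⟩ := hp
  have tp : t • p = p := by
    rcases hG.third ha ht hat a2 (by rw [tz]; exact Ne.symm hd.2.2.2.2.2) ap with e | e | e
    · exact absurd e hpz
    · exact absurd (e.trans tz) hpw
    · exact e
  have hhp : h • p = p := by
    have e : a • h • p = h • p := by rw [← mul_smul, ← hha.eq, mul_smul, ap]
    rcases hG.fx_eq_three hn ha hd.2.2.2.2.2 (Ne.symm hpz) (Ne.symm hpw) a2 a3 ap e with e | e | e
    · exact absurd (smul_left_cancel h (e.trans hz.symm)) hpz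
    · exact absurd (smul_left_cancel h (e.trans hw.symm)) hpw
    · exact e
  set g := h * h with hg
  have hgfix : g ∈ fix4 G x y z w := mul_mem hh hh
  have hgt : ∀ u : X, t • u = u → g • u = u := by
    intro u hu
    have e1 : t • h • u = h • u := by rw [← mul_smul, ← hht.eq, mul_smul, hu]
    have e2 : t • g • u = g • u := by
      rw [← mul_smul, ← (hht.mul_left hht).eq, mul_smul, hu]
    by_contra hne'
    have hup : u ≠ p := fun e => hne' (by rw [e, hg, mul_smul, hhp, hhp])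
    have hu1 : h • u ≠ u := fun e => hne' (by rw [hg, mul_smul, e, e])
    have hup1 : h • u ≠ p := fun e => hup (smul_left_cancel h (e.trans hhp.symm))
    rcases hG.fx_eq_three hn ht hup hu1.symm hup1.symm hu tp e1 e2 with e | e | e
    · exact hne' e
    · exact hne' (absurd (smul_left_cancel h (show h • h • u = h • p by rw [← mul_smul, ← hg, e, hhp])) hup1)
    · exact hu1 (smul_left_cancel h (by rw [← mul_smul, ← hg, e]))
  set S : Finset X := {x, y, z, w} ∪ fx t with hS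
  have hSfix : ∀ u ∈ S, g • u = u := by
    intro u hu
    simp only [hS, Finset.mem_union, Finset.mem_insert, Finset.mem_singleton, mem_fx] at hu
    obtain ⟨gx, gy, gz, gw⟩ := mem_fix4.1 hgfix
    rcases hu with (rfl | rfl | rfl | rfl) | hu
    exacts [gx, gy, gz, gw, hgt u hu]
  have hScard : S.card = 7 := by
    have hdisj : Disjoint ({x, y, z, w} : Finset X) (fx t) := by
      simp only [Finset.disjoint_insert_left, Finset.disjoint_singleton_left, mem_fx, tx, ty, tz, tw]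
      exact ⟨Ne.symm hd.1, hd.1, Ne.symm hd.2.2.2.2.2, hd.2.2.2.2.2⟩
    rw [hS, Finset.card_union_of_disjoint hdisj, hG.card_fx hn ht, Finset.card_eq_four.2
      ⟨x, y, z, w, hd.1, hd.2.1, hd.2.2.1, hd.2.2.2.1, hd.2.2.2.2.1, hd.2.2.2.2.2, rfl⟩]
  have hSa : ∀ v : G, IsInv v → Commute v t → (∀ u ∈ ({x, y, z, w} : Finset X), v • u ∈ ({x, y, z, w} : Finset X)) →
      ∀ u ∈ S, v • u ∈ S := by
    intro v _ hvt hv u hu
    rw [hS, Finset.mem_union] at hu ⊢
    exact hu.imp (hv u) (smul_mem_fx_iff hvt.symm).2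
  have hSa1 := hSa a ha hat (fun u hu => by
    simp only [Finset.mem_insert, Finset.mem_singleton] at hu ⊢
    rcases hu with rfl | rfl | rfl | rfl <;> simp [a1, a1', a2, a3])
  have hSb1 := hSa b hb hbt (fun u hu => by
    simp only [Finset.mem_insert, Finset.mem_singleton] at hu ⊢
    rcases hu with rfl | rfl | rfl | rfl <;> simp [b1, b1', b2, b3])
  have hgg : g * g = 1 := by
    refine eq_of_smul_eq_smul fun c : X => ?_
    rw [one_smul]
    by_cases hc : c ∈ S
    · rw [mul_smul, hSfix c hc, hSfix c hc]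
    have hca : a • c ∉ S := ha.smul_ne hSa1 hc
    have hcb : b • c ∉ S := hb.smul_ne hSb1 hc
    have hct : t • c ∉ S := by rw [ht', mul_smul]; exact ha.smul_ne hSa1 hcb
    have c5 : t • c ≠ c := fun e => hc (Finset.mem_union_right _ (mem_fx.2 e))
    have ca : a • c ≠ c := fun e => by
      rcases hG.fx_eq_three hn ha hd.2.2.2.2.2 (Ne.symm hpz) (Ne.symm hpw) a2 a3 ap e with e | e | e
      exacts [hc (by simp [hS, e]), hc (by simp [hS, e]),
        c5 (by rw [e]; exact tp)]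
    have cb : (a * t) • c ≠ c := fun e => by
      rw [hb'] at e
      rcases hG.third hb ht hbt b2 (by rw [tx]; exact Ne.symm hd.1) e with e | e | e
      exacts [hc (by simp [hS, e]), hc (by simp [hS, e, tx]), c5 e]
    obtain ⟨n1, n2, n3, n4, n5, n6⟩ := D4.of_free ha ht hat ca c5 cb
    have hO : ({c, a • c, t • c, (a * t) • c} : Finset X) = Sᶜ := by
      refine Finset.eq_of_subset_of_card_le ?_ ?_
      · simp [Finset.insert_subset_iff, hc, hca, hct, hb', hcb]
      · rw [Finset.card_compl, hScard, hG.degree_eq hn, Finset.card_eq_four.2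
          ⟨_, _, _, _, n1, n2, n3, n4, n5, n6, rfl⟩]
    have hgc : g • c ∈ Sᶜ := Finset.mem_compl.2 fun hm => hc (by
      have := hSfix _ hm
      rwa [smul_left_cancel g this] at hm)
    rw [← hO] at hgc
    simp only [Finset.mem_insert, Finset.mem_singleton] at hgc
    have key : ∀ v : G, v * v = 1 → Commute g v → g • c = v • c → (g * g) • c = c := by
      intro v hv hgv e
      rw [mul_smul, e, ← mul_smul g v, hgv.eq, mul_smul, e, ← mul_smul, hv, one_smul]
    rcases hgc with e | e | e | e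
    · exact key 1 (one_mul 1) (Commute.one_right g) (e.trans (one_smul G c).symm)
    · exact key a ha.1 (hha.mul_left hha) e
    · exact key t ht.1 (hht.mul_left hht) e
    · exact key b hb.1 (hhb.mul_left hhb) (e.trans (by rw [hb']))
  have hg1 := hG.eq_one_of_sq hd hgfix hgg
  exact hG.eq_one_of_sq hd hh hg1

end HallCfg

end Cfsg.Agent.H41
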