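import Cfsg.Agent.H41.FourTransBasic

/-!
# Four-fold transitive groups with a four-point stabilizer of odd order: commuting involutions

Two commuting involutions fixing the same two points are equal (`eq_of_commute_of_fix_two`).
-/

set_option autoImplicit false
set_option linter.unusedSectionVars false

namespace Cfsg.Agent.H41

open MulAction Finset

variable {G X : Type*} [Group G] [MulAction G X]

theorem D4.of_free {t u : G} (ht : IsInv t) (hu : IsInv u) (hc : Commute t u) {c : X}
    (h1 : t • c ≠ c) (h2 : u • c ≠ c) (h3 : (t * u) • c ≠ c) :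
    D4 c (t • c) (u • c) ((t * u) • c) := by
  refine ⟨h1.symm, h2.symm, h3.symm, fun e => h3 ?_, fun e => h2 ?_, fun e => h1 ?_⟩
  · rw [mul_smul, ← e, ht.smul_smul]
  · rw [mul_smul, smul_left_cancel_iff] at e
    exact e.symm
  · rw [hc.eq, mul_smul, smul_left_cancel_iff] at e
    exact e.symm

theorem exists_not_mem_of_card_lt [Fintype X] (s : Finset X) (h : s.card < Fintype.card X) :
    ∃ c, c ∉ s := by
  by_contra hne
  push Not at hne
  exact absurd (Finset.eq_univ_iff_forall.2 hne) (fun e => by simp [e] at h)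

namespace HallCfg

variable (hG : HallCfg G X) [Finite G]
include hG

theorem not_fix_four {t : G} (ht : IsInv t) {a b c d : X} (hd : D4 a b c d) (ha : t • a = a)
    (hb : t • b = b) (hc : t • c = c) (hd' : t • d = d) : False :=
  ht.2 (hG.eq_one_of_sq hd (mem_fix4.2 ⟨ha, hb, hc, hd'⟩) ht.1)

theorem third {a t : G} (ha : IsInv a) (ht : IsInv t) (hc : Commute a t) {y z : X}
    (hy : a • y = y) (hty : t • y ≠ y) (hz : a • z = z) : z = y ∨ z = t • y ∨ t • z = z := by
  by_contra h
  push Not at h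
  obtain ⟨h1, h2, h3⟩ := h
  refine hG.not_fix_four ha (a := y) (b := t • y) (c := z) (d := t • z)
    ⟨hty.symm, h1.symm, fun e => h2 ?_, h2.symm, fun e => h1 (smul_left_cancel t e).symm, h3.symm⟩
    hy (by rw [← mul_smul, hc.eq, mul_smul, hy]) hz (by rw [← mul_smul, hc.eq, mul_smul, hz])
  rw [e, ht.smul_smul]

theorem fix_of_two {a t : G} (ha : IsInv a) (ht : IsInv t) (hc : Commute a t) {x y z : X}
    (hxy : x ≠ y) (hax : a • x = x) (hay : a • y = y) (htx : t • x = x) (hty : t • y = y)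
    (hz : a • z = z) : t • z = z := by
  by_contra h
  refine hG.not_fix_four ha (a := x) (b := y) (c := z) (d := t • z)
    ⟨hxy, fun e => h (by rw [← e, htx]), fun e => h ?_, fun e => h (by rw [← e, hty]),
      fun e => h ?_, Ne.symm h⟩ hax hay hz (by rw [← mul_smul, hc.eq, mul_smul, hz])
  · rw [← e, ← ht.smul_smul z, ← e, htx]
  · rw [← e, ← ht.smul_smul z, ← e, hty]

variable [Fintype X] [DecidableEq X]

theorem fx_le {t : G} (ht : IsInv t) : (fx (X := X) t).card ≤ 3 := by
  by_contra h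
  obtain ⟨s, hs, hs4⟩ := Finset.exists_subset_card_eq (show 4 ≤ (fx (X := X) t).card by omega)
  obtain ⟨a, b, c, d, h1, h2, h3, h4, h5, h6, rfl⟩ := Finset.card_eq_four.1 hs4
  simp only [Finset.insert_subset_iff, Finset.singleton_subset_iff, mem_fx] at hs
  exact hG.not_fix_four ht ⟨h1, h2, h3, h4, h5, h6⟩ hs.1 hs.2.1 hs.2.2.1 hs.2.2.2

theorem free_point (hn : 8 ≤ Fintype.card X) {a t : G} (ha : IsInv a) (ht : IsInv t)
    (hc : Commute a t) {x y : X} (hy : a • y = y) (hty : t • y ≠ y) (hx : (a * t) • x = x)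
    (htx : t • x ≠ x) : ∃ c : X, a • c ≠ c ∧ t • c ≠ c ∧ (a * t) • c ≠ c := by
  have hb : IsInv (a * t) := ha.mul ht hc fun e => hty (by rw [← e, hy])
  have hbc : Commute (a * t) t := hc.mul_left (Commute.refl t)
  obtain ⟨c, hcs⟩ := exists_not_mem_of_card_lt ({x, t • x, y, t • y} ∪ fx t) (by
    refine lt_of_le_of_lt (Finset.card_union_le _ _) ?_
    have := hG.fx_le ht
    have := Finset.card_le_four (a := x) (b := t • x) (c := y) (d := t • y)
    omega)
  simp only [Finset.mem_union, Finset.mem_insert, Finset.mem_singleton, mem_fx, not_or] at hcs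
  obtain ⟨⟨c1, c2, c3, c4⟩, c5⟩ := hcs
  refine ⟨c, fun e => ?_, c5, fun e => ?_⟩
  · rcases hG.third ha ht hc hy hty e with h | h | h <;> contradiction
  · rcases hG.third hb ht hbc hx htx e with h | h | h <;> contradiction

theorem two_le_fx (hn : 8 ≤ Fintype.card X) {t : G} (ht : IsInv t) :
    2 ≤ (fx (X := X) t).card := by
  obtain ⟨x, hx⟩ := exists_not_mem_of_card_lt (fx (X := X) t)
    (by have := hG.fx_le ht; omega)
  obtain ⟨y, hy⟩ := exists_not_mem_of_card_lt ({x, t • x} ∪ fx t) (by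
    refine lt_of_le_of_lt (Finset.card_union_le _ _) ?_
    have := hG.fx_le ht
    have := Finset.card_le_two (a := x) (b := t • x)
    omega)
  simp only [Finset.mem_union, Finset.mem_insert, Finset.mem_singleton, mem_fx, not_or] at hx hy
  obtain ⟨⟨y1, y2⟩, y3⟩ := hy
  have hd : D4 x (t • x) y (t • y) := ⟨Ne.symm hx, Ne.symm y1, fun e => y2 (by rw [e, ht.smul_smul]),
    Ne.symm y2, fun e => y1 (smul_left_cancel t e).symm, Ne.symm y3⟩
  have hd' : D4 (t • x) x y (t • y) := ⟨hx, hd.2.2.2.1, hd.2.2.2.2.1, hd.2.1, hd.2.2.1, hd.2.2.2.2.2⟩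
  obtain ⟨a₀, ha₀, p1, p2, p3, p4⟩ := hG.exists_inv hd hd' (fun g hg => by
    simp only [mem_fix4, Maps, mul_smul] at hg ⊢
    simp [hg.1, hg.2.1, hg.2.2.1, hg.2.2.2]) (fun h => hx h.1)
  obtain ⟨k, hk, hk2, hkc⟩ := hG.exists_commute hd ha₀ ht (by
    simp [mem_fix4, Maps, mul_smul, ht.smul_smul, p1, p2, p3, p4])
  simp only [mem_fix4, Maps] at hk
  have q1 : (k * a₀) • x = t • x := by rw [mul_smul, p1, hk.2.1]
  have q3 : (k * a₀) • y = y := by rw [mul_smul, p3, hk.2.2.1]
  have ha : IsInv (k * a₀) := ⟨hk2, fun e => hx (by rw [← q1, e, one_smul])⟩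
  set a := k * a₀
  have hb : (a * t) • x = x := by rw [hkc.eq, mul_smul, q1, ht.smul_smul]
  obtain ⟨c, c1, c2, c3⟩ := hG.free_point hn ha ht hkc q3 y3 hb hx
  have hdc : D4 c (a • c) (t • c) ((a * t) • c) := D4.of_free ha ht hkc c1 c2 c3
  obtain ⟨g, g1, g2, g3, g4⟩ := hG.trans hdc
    (a' := c) (b' := t • c) (c' := a • c) (d' := (a * t) • c)
    ⟨hdc.2.1, hdc.1, hdc.2.2.1, hdc.2.2.2.1.symm, hdc.2.2.2.2.2, hdc.2.2.2.2.1⟩
  have i1 : g⁻¹ • c = c := inv_smul_eq_iff.2 g1.symm
  have i2 : g⁻¹ • t • c = a • c := inv_smul_eq_iff.2 g2.symm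
  have i3 : g⁻¹ • a • c = t • c := inv_smul_eq_iff.2 g3.symm
  have i4 : g⁻¹ • (a * t) • c = (a * t) • c := inv_smul_eq_iff.2 g4.symm
  obtain ⟨m, hm⟩ := hG.conj_of_agree hdc (ha.conj g) ht (by
    simp only [mul_smul] at i4 g4
    have e1 : t • a • c = a • t • c := by rw [← mul_smul, ← hkc.eq, mul_smul]
    have e2 : t • a • t • c = a • c := by rw [← mul_smul t a, ← hkc.eq, mul_smul, ht.smul_smul]
    simp [mem_fix4, Maps, mul_smul, i1, i2, i3, i4, g1, g2, g3, g4, ha.smul_smul, ht.smul_smul,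
      e1, e2])
  rw [hm, card_fx_conj, card_fx_conj]
  calc 2 = ({y, t • y} : Finset X).card := (Finset.card_pair (Ne.symm y3)).symm
    _ ≤ _ := Finset.card_le_card (by
      simp [Finset.insert_subset_iff, q3, ← mul_smul, hkc.eq]
      rw [mul_smul, q3])

theorem fx_eq (hn : 8 ≤ Fintype.card X) {t u : G} (ht : IsInv t) (hu : IsInv u) :
    (fx (X := X) t).card = (fx (X := X) u).card := by
  have := hG.fx_le ht
  have := hG.fx_le hu
  have := hG.two_le_fx hn ht
  have := hG.two_le_fx hn hu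
  have := fx_mod_two (X := X) ht
  have := fx_mod_two (X := X) hu
  omega

/-- The dihedral group of order eight on a regular orbit of a four-group. -/
theorem exists_d8 {u v : G} (hu : IsInv u) (hv : IsInv v) (hc : Commute u v) {c : X}
    (h1 : u • c ≠ c) (h2 : v • c ≠ c) (h3 : (u * v) • c ≠ c) :
    ∃ e : G, IsInv e ∧ e • c = c ∧ e • u • c = u • c ∧ Commute e u ∧ e * v * e = u * v := by
  have hd := D4.of_free hu hv hc h1 h2 h3
  obtain ⟨n1, n2, n3, n4, n5, n6⟩ := id hd
  obtain ⟨e₀, he₀, p1, p2, p3, p4⟩ := hG.exists_inv hd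
    (a' := c) (b' := u • c) (c' := (u * v) • c) (d' := v • c)
    ⟨n1, n3, n2, n5, n4, n6.symm⟩ (fun g hg => by
      simp only [mem_fix4, Maps] at hg ⊢
      simp only [mul_smul g g, hg.1, hg.2.1, hg.2.2.1, hg.2.2.2, and_self])
    (fun h => n6 h.2.2.1.symm)
  have q1 : u • v • c = (u * v) • c := (mul_smul _ _ _).symm
  have q2 : v • u • c = (u * v) • c := by rw [hc.eq, mul_smul]
  have q3 : u • (u * v) • c = v • c := by rw [mul_smul, hu.smul_smul]
  have q4 : v • (u * v) • c = u • c := by rw [hc.eq, mul_smul, hv.smul_smul]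
  obtain ⟨k, hk, hk2, hkc⟩ := hG.exists_commute hd he₀ hu (by
    simp only [mem_fix4, Maps, mul_smul, p1, p2] at p3 p4 ⊢
    simp [hu.smul_smul, p1, p2, p3, p4])
  simp only [mem_fix4, Maps] at hk
  set e₁ := k * e₀ with he₁
  have r1 : e₁ • c = c := by rw [he₁, mul_smul, p1, hk.1]
  have r2 : e₁ • u • c = u • c := by rw [he₁, mul_smul, p2, hk.2.1]
  have r3 : e₁ • v • c = (u * v) • c := by rw [he₁, mul_smul, p3, hk.2.2.2]
  have r4 : e₁ • (u * v) • c = v • c := by rw [he₁, mul_smul, p4, hk.2.2.1]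
  have he₁' : IsInv e₁ := ⟨hk2, fun e => n6 (by rw [← r3, e, one_smul])⟩
  set d := e₁ * v with hd'
  have d1 : d • c = (u * v) • c := by rw [hd', mul_smul, r3]
  have d2 : d • u • c = v • c := by rw [hd', mul_smul, q2, r4]
  have d3 : d • v • c = c := by rw [hd', mul_smul, hv.smul_smul, r1]
  have d4 : d • (u * v) • c = u • c := by rw [hd', mul_smul, q4, r2]
  have h4 : d ^ 4 ∈ fix4 G c (u • c) (v • c) ((u * v) • c) := by
    rw [mem_fix4, show d ^ 4 = d * (d * (d * d)) by
      rw [pow_succ, pow_succ, pow_succ, pow_one, mul_assoc, mul_assoc]]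
    simp only [Maps, mul_smul d, d1, d2, d3, d4, and_self]
  obtain ⟨i, hi⟩ := hG.odd_orderOf hd h4
  set s := (d ^ 4) ^ (i * i + i) * d with hs
  have hs' : s = d ^ ((2 * i + 1) * (2 * i + 1)) := by
    rw [hs, ← pow_mul, ← pow_succ]; congr 1; ring
  have hs4 : s * s * (s * s) = 1 := by
    rw [hs', ← pow_add, ← pow_add, show ∀ j : ℕ, j + j + (j + j) = 4 * j from fun j => by ring,
      pow_mul, pow_mul (d ^ 4), ← hi, pow_orderOf_eq_one, one_pow]
  have hfix : ∀ z : X, (z = c ∨ z = u • c ∨ z = v • c ∨ z = (u * v) • c) →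
      (d ^ 4) ^ (i * i + i) • z = z := by
    have := mem_fix4.1 (pow_mem h4 (i * i + i))
    rintro z (rfl | rfl | rfl | rfl)
    exacts [this.1, this.2.1, this.2.2.1, this.2.2.2]
  have s1 : s • c = (u * v) • c := by rw [hs, mul_smul, d1, hfix _ (by simp)]
  have s2 : s • u • c = v • c := by rw [hs, mul_smul, d2, hfix _ (by simp)]
  have s3 : s • v • c = c := by rw [hs, mul_smul, d3, hfix _ (by simp)]
  have s4 : s • (u * v) • c = u • c := by rw [hs, mul_smul, d4, hfix _ (by simp)]
  have hsu : Commute s u := by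
    rw [hs']; exact ((hkc.mul_left hc.symm).pow_left _)
  have hsv : v * s * v = s⁻¹ := by
    rw [hs']; exact hv.conj_pow (he₁'.conj_mul hv) _
  have hsq : s * s = u := by
    have h := hG.eq_one_of_sq hd (g := u * (s * s)) (by
      rw [mem_fix4]
      simp only [Maps, mul_smul u (s * s), mul_smul s s, s1, s2, s3, s4, hu.smul_smul, q3, q1,
        and_self]) (by
      rw [(hsu.mul_left hsu).mul_mul_mul_comm, hu.1, one_mul, hs4])
    rw [eq_inv_of_mul_eq_one_right h, hu.inv_eq]
  refine ⟨s * v, ⟨?_, fun e => n6 ?_⟩, by rw [mul_smul, s3], ?_, hsu.mul_left hc.symm, ?_⟩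
  · rw [show s * v * (s * v) = s * (v * s * v) by group, hsv, mul_inv_cancel]
  · have h := congrArg (fun g : G => g • v • c) e
    simp only [mul_smul, one_smul, hv.smul_smul] at h
    rw [← h, ← s1]
  · rw [mul_smul, q2, s4]
  · rw [show s * v * v * (s * v) = s * (v * v) * s * v by group, hv.1, mul_one, hsq]

theorem sign_four (hn : 8 ≤ Fintype.card X) {e v : G} (he : IsInv e) (hv : IsInv v)
    (h : IsInv (e * v * (e * v))) :
    ∃ k : ℕ, Fintype.card X + (fx (X := X) (e * v * (e * v))).card =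
      2 * (fx (X := X) (e * v)).card + 8 * k := by
  have inv4 : ∀ t : G, IsInv t → Fintype.card X = (fx (X := X) t).card + 2 * ((((MulAction.toPermHom G X) t).support.card) / 2)
      ∧ Equiv.Perm.sign ((MulAction.toPermHom G X) t) = (-1) ^ (((MulAction.toPermHom G X) t).support.card / 2) := by
    intro t ht
    have h2 : (MulAction.toPermHom G X) t ^ 2 = 1 := by rw [← map_pow, sq, ht.1, map_one]
    obtain ⟨k, hk, hk'⟩ := sign_of_pow_four ((MulAction.toPermHom G X) t)
      (by rw [show 4 = 2 * 2 from rfl, pow_mul, h2, one_pow])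
    rw [h2, Equiv.Perm.support_one, Finset.card_empty] at hk
    have := card_fx_add (X := X) t
    rw [show ((MulAction.toPermHom G X) t).support.card / 2 = k by omega]
    refine ⟨by omega, hk'⟩
  set s := e * v
  obtain ⟨k, hk, hk'⟩ := sign_of_pow_four ((MulAction.toPermHom G X) s) (by
    rw [← map_pow, show s ^ 4 = s * s * (s * s) by rw [pow_succ, pow_succ, pow_succ, pow_one, mul_assoc], h.1, map_one])
  rw [← map_pow, sq] at hk
  obtain ⟨e1, e2⟩ := inv4 e he
  obtain ⟨v1, v2⟩ := inv4 v hv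
  have := hG.fx_eq hn he hv
  have hev : ((MulAction.toPermHom G X) e).support.card / 2 = ((MulAction.toPermHom G X) v).support.card / 2 := by omega
  have hsign : Equiv.Perm.sign ((MulAction.toPermHom G X) s) = 1 := by
    rw [show (MulAction.toPermHom G X) s = (MulAction.toPermHom G X) e * (MulAction.toPermHom G X) v from map_mul (MulAction.toPermHom G X) e v, map_mul, e2, v2, hev, Int.units_mul_self]
  rw [hsign] at hk'
  obtain ⟨r, hr⟩ : Even k := by
    rcases Nat.even_or_odd k with h | h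
    · exact h
    · rw [h.neg_one_pow] at hk'; exact absurd hk' (by decide)
  have := card_fx_add (X := X) s
  have := card_fx_add (X := X) (s * s)
  exact ⟨r, by omega⟩

/-- Two commuting involutions fixing the same two points are equal. -/
theorem eq_of_commute_of_fix_two (hn : 8 ≤ Fintype.card X) {t t' : G} (ht : IsInv t)
    (ht' : IsInv t') (hc : Commute t t') {x y : X} (hxy : x ≠ y) (htx : t • x = x) (hty : t • y = y)
    (htx' : t' • x = x) (hty' : t' • y = y) : t = t' := by
  by_contra hne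
  have hw := ht.mul ht' hc hne
  set w := t * t' with hwdef
  have hwt : Commute w t := (Commute.refl t).mul_left hc.symm
  have hwx : w • x = x := by rw [hwdef, mul_smul, htx', htx]
  have hwy : w • y = y := by rw [hwdef, mul_smul, hty', hty]
  have hsub : ∀ z : X, w • z = z → t • z = z := fun z hz =>
    hG.fix_of_two hw ht hwt hxy hwx hwy htx hty hz
  have ht't : ∀ z : X, t' • z = z → t • z = z := fun z hz =>
    hG.fix_of_two ht' ht hc.symm hxy htx' hty' htx hty hz
  obtain ⟨c, hc'⟩ := exists_not_mem_of_card_lt (fx (X := X) t) (by have := hG.fx_le ht; omega)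
  rw [mem_fx] at hc'
  have hwt' : w * t = t' := by rw [hwt.eq, hwdef, ← mul_assoc, ht.1, one_mul]
  obtain ⟨e, he, ec, ewc, hew, het⟩ := hG.exists_d8 hw ht hwt (fun h => hc' (hsub _ h)) hc'
    (by rw [hwt']; exact fun h => hc' (ht't _ h))
  rw [hwt'] at het
  have hs : e * t * (e * t) = w := by rw [← mul_assoc, het, hwdef, hc.eq]
  obtain ⟨k, hk⟩ := hG.sign_four hn he ht (hs.symm ▸ hw)
  rw [hs] at hk
  have hwc : w • c ≠ c := fun h => hc' (hsub _ h)
  have hcw : c ∉ fx (X := X) (e * t) := by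
    rw [mem_fx]; intro h
    exact hwc (by rw [← hs, mul_smul, h, h])
  have hwcw : w • c ∉ fx (X := X) (e * t) := by
    rw [mem_fx]; intro h
    refine hwc ?_
    have : w • w • c = w • c := by
      conv_lhs => arg 1; rw [← hs]
      rw [mul_smul (e * t) (e * t), h, h]
    rwa [hw.smul_smul, eq_comm] at this
  have hfs : (fx (X := X) (e * t)).card + 2 ≤ 3 := by
    calc (fx (X := X) (e * t)).card + 2 = (insert c (insert (w • c) (fx (X := X) (e * t)))).card := by
          rw [Finset.card_insert_of_notMem, Finset.card_insert_of_notMem hwcw]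
          simp [hcw, Ne.symm hwc]
      _ ≤ (fx (X := X) e).card := Finset.card_le_card (by
          simp only [Finset.insert_subset_iff, mem_fx, ec, ewc, true_and]
          intro z hz
          rw [mem_fx] at hz ⊢
          have h1 : t • z = z := hsub z (by rw [← hs, mul_smul, hz, hz])
          rwa [mul_smul, h1] at hz)
      _ ≤ 3 := hG.fx_le he
  -- the second configuration
  have hewc : Commute e w := hew
  have hb : (e * w) • t • c = t • c := by
    have h1 : e * t' = t * e := by rw [← het, ← mul_assoc, ← mul_assoc, he.1, one_mul]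
    rw [← mul_smul, mul_assoc, hwt', h1, mul_smul, ec]
  have hwtc : w • t • c ≠ t • c := fun h => hwc (smul_left_cancel t (by
    rwa [← mul_smul t w, ← hwt.eq, mul_smul]))
  obtain ⟨c₂, z1, z2, z3⟩ := hG.free_point hn he hw hewc ec hwc hb hwtc
  obtain ⟨e₂, he₂, f1, f2, he₂e, he₂w⟩ := hG.exists_d8 he hw hewc z1 z2 z3
  have hs₂ : e₂ * w * (e₂ * w) = e := by rw [← mul_assoc, he₂w, mul_assoc, hw.1, mul_one]
  obtain ⟨k₂, hk₂⟩ := hG.sign_four hn he₂ hw (hs₂.symm ▸ he)
  rw [hs₂] at hk₂
  have hb' : ∀ z : X, e₂ • w • e₂ • z = e • w • z := fun z => by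
    rw [← mul_smul, ← mul_smul, he₂w, mul_smul]
  have hz : e • e₂ • c = e₂ • c := by rw [← mul_smul, ← he₂e.eq, mul_smul, ec]
  have key : e₂ • c = w • c := by
    rcases hG.third he hw hewc ec hwc hz with h | h | h
    · refine (hG.not_fix_four he₂ (a := c) (b := w • c) (c := c₂) (d := e • c₂)
        ⟨Ne.symm hwc, fun h' => z1 (by rw [← h', ec]), fun h' => z1 ?_,
          fun h' => z1 (by rw [← h', ewc]), fun h' => z1 ?_, Ne.symm z1⟩ h ?_ f1 f2).elim
      · exact h'.symm.trans (ec.symm.trans ((congrArg (e • ·) h').trans (he.smul_smul c₂)))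
      · exact h'.symm.trans (ewc.symm.trans ((congrArg (e • ·) h').trans (he.smul_smul c₂)))
      · have := hb' c
        rw [h, ewc] at this
        exact this
    · exact h
    · refine absurd (smul_left_cancel e₂ (?_ : e₂ • w • c = e₂ • c)) hwc
      have := hb' (e₂ • c)
      rwa [he₂.smul_smul, h, hz] at this
  have hfs₂ : 2 ≤ (fx (X := X) (e₂ * w)).card := by
    calc 2 = ({c, w • c} : Finset X).card := (Finset.card_pair (Ne.symm hwc)).symm
      _ ≤ _ := Finset.card_le_card (by
        simp only [Finset.insert_subset_iff, Finset.singleton_subset_iff, mem_fx, mul_smul,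
          hw.smul_smul, key, and_true]
        rw [← key, he₂.smul_smul])
  have hfs₂' : (fx (X := X) (e₂ * w)).card ≤ 3 := by
    refine (Finset.card_le_card (fun z hz => ?_)).trans (hG.fx_le he)
    rw [mem_fx] at hz ⊢
    rw [← hs₂, mul_smul, hz, hz]
  have := hG.fx_eq hn hw he
  omega

end HallCfg

end Cfsg.Agent.H41
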