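import Cfsg.Agent.H41.FourTransPairs
import Cfsg.Agent.Cores.GlaubermanZStar
import Cfsg.Agent.S0215
import Cfsg.Agent.S0205

/-!
# Four-fold transitive groups with a four-point stabilizer of odd order: three points

By the `Z*`-theorem and the odd order theorem the stabilizer of two points has a regular abelian
normal subgroup, so exactly one involution fixes three given points.
-/

set_option autoImplicit false
set_option linter.unusedSectionVars false

namespace Cfsg.Agent.H41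

open MulAction Finset

variable {G X : Type*} [Group G] [MulAction G X]

namespace HallCfg

variable (hG : HallCfg G X) [Finite G] [Fintype X] [DecidableEq X] [FaithfulSMul G X]
  (hn : 8 ≤ Fintype.card X)
include hG hn

theorem exists_other (s : Finset X) (h : s.card ≤ 7) : ∃ c, c ∉ s :=
  exists_not_mem_of_card_lt s (by omega)

theorem exists_inv_fix_two {x y : X} (hxy : x ≠ y) :
    ∃ t : G, IsInv t ∧ t • x = x ∧ t • y = y := by
  obtain ⟨z, hz⟩ := hG.exists_other hn {x, y} (Finset.card_le_two.trans (by omega))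
  obtain ⟨w, hw⟩ := hG.exists_other hn {x, y, z} (Finset.card_le_three.trans (by omega))
  simp only [Finset.mem_insert, Finset.mem_singleton, not_or] at hz hw
  have hd : D4 x y z w :=
    ⟨hxy, Ne.symm hz.1, Ne.symm hw.1, Ne.symm hz.2, Ne.symm hw.2.1, Ne.symm hw.2.2⟩
  obtain ⟨t, ht, h1, h2, -, -⟩ := hG.exists_inv hd (a' := x) (b' := y) (c' := w) (d' := z)
    ⟨hxy, hd.2.2.1, hd.2.1, hd.2.2.2.2.1, hd.2.2.2.1, hw.2.2⟩ (fun g hg => by
      simp only [mem_fix4, Maps, mul_smul g g] at hg ⊢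
      simp [hg.1, hg.2.1, hg.2.2.1, hg.2.2.2]) (fun h => hw.2.2 h.2.2.1)
  exact ⟨t, ht, h1, h2⟩

/-- A nontrivial subgroup of the stabilizer of two points, normalised by it, is transitive on the
other points. -/
theorem trans_of_normal {x y : X} (hxy : x ≠ y) {A : Subgroup G}
    (hA : A ≤ stabilizer G x ⊓ stabilizer G y)
    (hnorm : ∀ g ∈ stabilizer G x ⊓ stabilizer G y, ∀ a ∈ A, g * a * g⁻¹ ∈ A) (hA1 : A ≠ ⊥)
    {z w : X} (hzx : z ≠ x) (hzy : z ≠ y) (hwx : w ≠ x) (hwy : w ≠ y) :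
    ∃ a ∈ A, a • z = w := by
  obtain ⟨n₀, hn₀, hn₁⟩ := A.ne_bot_iff_exists_ne_one.1 hA1 |> fun ⟨a, ha⟩ =>
    (⟨(a : G), a.2, fun e => ha (Subtype.ext e)⟩ : ∃ a ∈ A, (a : G) ≠ 1)
  obtain ⟨z₀, hz₀⟩ : ∃ z₀ : X, n₀ • z₀ ≠ z₀ := by
    by_contra h
    push Not at h
    exact hn₁ (eq_of_smul_eq_smul fun u : X => by rw [h u, one_smul])
  obtain ⟨hnx, hny⟩ := Subgroup.mem_inf.1 (hA hn₀)
  rw [mem_stabilizer_iff] at hnx hny
  have hz₀x : z₀ ≠ x := fun e => hz₀ (by rw [e, hnx])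
  have hz₀y : z₀ ≠ y := fun e => hz₀ (by rw [e, hny])
  have key : ∀ u : X, u ≠ x → u ≠ y → ∃ a ∈ A, a • z₀ = u := by
    intro u hux huy
    by_cases hu : u = z₀
    · exact ⟨1, one_mem _, by rw [one_smul, hu]⟩
    obtain ⟨g, g1, g2, g3, g4⟩ := hG.trans (a := x) (b := y) (c := z₀) (d := n₀ • z₀)
      (a' := x) (b' := y) (c' := z₀) (d' := u)
      ⟨hxy, Ne.symm hz₀x, fun e => hz₀x (smul_left_cancel n₀ (hnx.trans e)).symm,
        Ne.symm hz₀y, fun e => hz₀y (smul_left_cancel n₀ (hny.trans e)).symm, Ne.symm hz₀⟩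
      ⟨hxy, Ne.symm hz₀x, Ne.symm hux, Ne.symm hz₀y, Ne.symm huy, Ne.symm hu⟩
    refine ⟨g * n₀ * g⁻¹, hnorm g (Subgroup.mem_inf.2 ⟨g1, g2⟩) n₀ hn₀, ?_⟩
    rw [mul_smul, mul_smul, inv_smul_eq_iff.2 g3.symm, g4]
  obtain ⟨a, ha, ha'⟩ := key z hzx hzy
  obtain ⟨b, hb, hb'⟩ := key w hwx hwy
  exact ⟨b * a⁻¹, mul_mem hb (inv_mem ha), by rw [← ha', mul_smul, inv_smul_smul, hb']⟩

/-- The stabilizer of two points has a nontrivial normal subgroup of odd order. -/
theorem exists_odd_normal {x y : X} (hxy : x ≠ y) :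
    ∃ A : Subgroup G, A ≤ stabilizer G x ⊓ stabilizer G y ∧
      (∀ g ∈ stabilizer G x ⊓ stabilizer G y, ∀ a ∈ A, g * a * g⁻¹ ∈ A) ∧ A ≠ ⊥ ∧
      Odd (Nat.card A) := by
  haveI : Fact (Nat.Prime 2) := ⟨Nat.prime_two⟩
  set L : Subgroup G := stabilizer G x ⊓ stabilizer G y with hL
  obtain ⟨b, hb, hbx, hby⟩ := hG.exists_inv_fix_two hn hxy
  have hbL : b ∈ L := Subgroup.mem_inf.2 ⟨hbx, hby⟩
  have hbord : orderOf (⟨b, hbL⟩ : L) = 2 :=
    orderOf_eq_prime (Subtype.ext (by simp [sq, hb.1])) fun e => hb.2 (congrArg Subtype.val e)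
  obtain ⟨P, hP⟩ := IsPGroup.exists_le_sylow (G := L) (P := Subgroup.zpowers (⟨b, hbL⟩ : L))
    (p := 2) (IsPGroup.of_card (n := 1) (by rw [Nat.card_zpowers, hbord, pow_one]))
  have hbP : (⟨b, hbL⟩ : L) ∈ P := hP (Subgroup.mem_zpowers _)
  haveI : Nontrivial (P : Subgroup L) := ⟨⟨⟨_, hbP⟩, 1, fun e => by
    simp only [← Subtype.coe_inj, OneMemClass.coe_one] at e
    exact hb.2 e⟩⟩
  haveI := P.isPGroup'.center_nontrivial
  obtain ⟨z₀, hz₀⟩ := exists_prime_orderOf_dvd_card' (G := Subgroup.center (P : Subgroup L)) 2 (by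
      obtain ⟨k, hk, hk'⟩ := (P.isPGroup'.to_subgroup _).nontrivial_iff_card.1 ‹Nontrivial _›
      rw [hk']; exact dvd_pow_self _ hk.ne')
  have huniq : ∀ u : L, u ∈ P → orderOf u = 2 → (u : G) = ((z₀ : (P : Subgroup L)) : L) := by
    intro u hu hu2
    have hinv : ∀ v : L, orderOf v = 2 → IsInv (v : G) ∧ (v : G) • x = x ∧ (v : G) • y = y :=
      fun v hv => ⟨⟨by
        have := congrArg Subtype.val (hv ▸ pow_orderOf_eq_one v)
        simpa [sq] using this, fun e => by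
        rw [show v = 1 from Subtype.ext e, orderOf_one] at hv; omega⟩,
        (Subgroup.mem_inf.1 v.2).1, (Subgroup.mem_inf.1 v.2).2⟩
    have hz2 : orderOf (((z₀ : (P : Subgroup L)) : L)) = 2 := by
      rw [orderOf_submonoid, orderOf_submonoid, hz₀]
    obtain ⟨i1, i2, i3⟩ := hinv u hu2
    obtain ⟨j1, j2, j3⟩ := hinv _ hz2
    refine hG.eq_of_commute_of_fix_two hn i1 j1 ?_ hxy i2 i3 j2 j3
    exact congrArg (fun v : (P : Subgroup L) => ((v : L) : G))
      (Subgroup.mem_center_iff.1 z₀.2 ⟨u, hu⟩)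
  obtain ⟨N, hNn, hNo, hN⟩ := Cfsg.Agent.S0215.result P ⟨b, hbL⟩ hbord hbP (fun g hg => Subtype.ext (by
    rw [huniq _ hg (by rw [← MulAut.conj_apply, MulEquiv.orderOf_eq, hbord]), huniq _ hbP hbord]))
  refine ⟨N.map L.subtype, Subgroup.map_subtype_le _, ?_, fun e => ?_, ?_⟩
  · rintro g hg _ ⟨a, ha, rfl⟩
    exact ⟨⟨g, hg⟩ * a * ⟨g, hg⟩⁻¹, hNn.conj_mem a ha _, rfl⟩
  · rw [Subgroup.map_eq_bot_iff_of_injective _ (Subgroup.subtype_injective L)] at e
    obtain ⟨z, hz⟩ := exists_not_mem_of_card_lt (fx (X := X) b) (by have := hG.fx_le hb; omega)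
    rw [mem_fx] at hz
    have hzx : z ≠ x := fun h => hz (by rw [h, hbx])
    have hzy : z ≠ y := fun h => hz (by rw [h, hby])
    have hbzx : b • z ≠ x := fun h => hzx (smul_left_cancel b (h.trans hbx.symm))
    have hbzy : b • z ≠ y := fun h => hzy (smul_left_cancel b (h.trans hby.symm))
    obtain ⟨w, hw⟩ := hG.exists_other hn {x, y, z, b • z} (Finset.card_le_four.trans (by omega))
    simp only [Finset.mem_insert, Finset.mem_singleton, not_or] at hw
    obtain ⟨g, g1, g2, g3, g4⟩ := hG.trans (a := x) (b := y) (c := z) (d := b • z)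
      (a' := x) (b' := y) (c' := z) (d' := w)
      ⟨hxy, Ne.symm hzx, Ne.symm hbzx, Ne.symm hzy, Ne.symm hbzy, Ne.symm hz⟩
      ⟨hxy, Ne.symm hzx, Ne.symm hw.1, Ne.symm hzy, Ne.symm hw.2.1, Ne.symm hw.2.2.1⟩
    have hcom := hN ⟨g, Subgroup.mem_inf.2 ⟨g1, g2⟩⟩
    rw [e, Subgroup.mem_bot] at hcom
    have hcom' : b * g * b⁻¹ * g⁻¹ = 1 := congrArg Subtype.val hcom
    rw [mul_inv_eq_one, mul_inv_eq_iff_eq_mul] at hcom'
    refine hw.2.2.2 ?_
    calc w = (g * b) • z := by rw [mul_smul, g4]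
      _ = b • z := by rw [← hcom', mul_smul, g3]
  · rw [Subgroup.card_map_of_injective (Subgroup.subtype_injective L)]
    exact hNo

/-- The stabilizer of two points has a nontrivial abelian normal subgroup of odd order. -/
theorem exists_abelian_normal {x y : X} (hxy : x ≠ y) :
    ∃ A : Subgroup G, A ≤ stabilizer G x ⊓ stabilizer G y ∧
      (∀ g ∈ stabilizer G x ⊓ stabilizer G y, ∀ a ∈ A, g * a * g⁻¹ ∈ A) ∧ A ≠ ⊥ ∧
      Odd (Nat.card A) ∧ ∀ a ∈ A, ∀ c ∈ A, a * c = c * a := by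
  obtain ⟨A₀, hA₀⟩ := hG.exists_odd_normal hn hxy
  obtain ⟨A, ⟨h1, h2, h3, h4⟩, hmin⟩ := (Set.toFinite {A : Subgroup G |
    A ≤ stabilizer G x ⊓ stabilizer G y ∧
      (∀ g ∈ stabilizer G x ⊓ stabilizer G y, ∀ a ∈ A, g * a * g⁻¹ ∈ A) ∧ A ≠ ⊥ ∧
      Odd (Nat.card A)}).exists_minimal ⟨A₀, hA₀⟩
  refine ⟨A, h1, h2, h3, h4, ?_⟩
  haveI : Group.IsSolvable A := Cfsg.Agent.S0205.result h4
  haveI : Nontrivial A := (Subgroup.nontrivial_iff_ne_bot A).2 h3
  have hlt : ⁅A, A⁆ < A := by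
    have h := Subgroup.map_subtype_commutator A
    refine lt_of_le_of_ne (Subgroup.commutator_le_self A) fun e => ?_
    refine (Group.IsSolvable.commutator_lt_top_of_nontrivial A).ne
      (Subgroup.map_injective (Subgroup.subtype_injective A) ?_)
    rw [h, e, ← MonoidHom.range_eq_map, Subgroup.range_subtype]
  by_cases hA : ⁅A, A⁆ = ⊥
  · intro a ha c hc
    exact Subgroup.mem_centralizer_iff.1 (Subgroup.commutator_eq_bot_iff_le_centralizer.1 hA ha)
      c hc |>.symm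
  · refine absurd (hmin (y := ⁅A, A⁆) ⟨hlt.le.trans h1, fun g hg a ha => ?_, hA,
      h4.of_dvd_nat (Subgroup.card_dvd_of_le hlt.le)⟩ hlt.le) (not_le_of_gt hlt)
    have hle : A.map (MulAut.conj g).toMonoidHom ≤ A := by
      rintro _ ⟨c, hc, rfl⟩; exact h2 g hg c hc
    have := Subgroup.mem_map_of_mem (MulAut.conj g).toMonoidHom ha
    rw [Subgroup.map_commutator] at this
    exact Subgroup.commutator_mono hle hle this

/-- An involution fixes exactly three points, and exactly one fixes three given ones. -/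
theorem card_fx {t : G} (ht : IsInv t) : (fx (X := X) t).card = 3 := by
  obtain ⟨x, hx⟩ := hG.exists_other hn ∅ (by simp)
  obtain ⟨y, hy⟩ := hG.exists_other hn {x} (by simp)
  rw [Finset.mem_singleton] at hy
  obtain ⟨b, hb, hbx, hby⟩ := hG.exists_inv_fix_two hn (Ne.symm hy)
  obtain ⟨A, hA, hAn, hA1, hAo, -⟩ := hG.exists_abelian_normal hn (Ne.symm hy)
  obtain ⟨z, hz⟩ := hG.exists_other hn {x, y} (Finset.card_le_two.trans (by omega))
  simp only [Finset.mem_insert, Finset.mem_singleton, not_or] at hz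
  have horb : MulAction.orbit A z = ((({x, y} : Finset X)ᶜ : Finset X) : Set X) := by
    ext w
    simp only [Finset.coe_compl, Set.mem_compl_iff, Finset.mem_coe, Finset.mem_insert,
      Finset.mem_singleton, not_or]
    constructor
    · rintro ⟨⟨a, ha⟩, rfl⟩
      obtain ⟨hax, hay⟩ := Subgroup.mem_inf.1 (hA ha)
      exact ⟨fun e => hz.1 (smul_left_cancel a (e.trans hax.symm)),
        fun e => hz.2 (smul_left_cancel a (e.trans hay.symm))⟩
    · rintro ⟨hwx, hwy⟩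
      obtain ⟨a, ha, e⟩ := hG.trans_of_normal hn (Ne.symm hy) hA hAn hA1 hz.1 hz.2 hwx hwy
      exact ⟨⟨a, ha⟩, e⟩
  have hodd : Odd (Fintype.card X - 2) := by
    have h : Nat.card (MulAction.orbit A z) ∣ Nat.card A := by
      rw [Nat.card_coe_set_eq, ← MulAction.index_stabilizer]; exact Subgroup.index_dvd_card _
    rw [horb, SetLike.coe_sort_coe, Nat.card_eq_finsetCard, Finset.card_compl,
      Finset.card_pair (Ne.symm hy)] at h
    exact hAo.of_dvd_nat h
  have := hG.fx_le ht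
  have := hG.two_le_fx hn ht
  have := fx_mod_two (X := X) ht
  obtain ⟨k, hk⟩ := hodd
  omega

theorem exists_inv_fix_three {x y z : X} (hxy : x ≠ y) (hxz : x ≠ z) (hyz : y ≠ z) :
    ∃ t : G, IsInv t ∧ t • x = x ∧ t • y = y ∧ t • z = z := by
  obtain ⟨b, hb, -, -⟩ := hG.exists_inv_fix_two hn hxy
  obtain ⟨p, q, r, hpq, hpr, hqr, he⟩ := Finset.card_eq_three.1 (hG.card_fx hn hb)
  have hfix : ∀ u ∈ ({p, q, r} : Finset X), b • u = u := fun u hu => by rwa [← he, mem_fx] at hu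
  obtain ⟨w, hw⟩ := hG.exists_other hn {x, y, z} (Finset.card_le_three.trans (by omega))
  obtain ⟨w', hw'⟩ := hG.exists_other hn {p, q, r} (Finset.card_le_three.trans (by omega))
  simp only [Finset.mem_insert, Finset.mem_singleton, not_or] at hw hw'
  obtain ⟨g, g1, g2, g3, -⟩ := hG.trans (a := p) (b := q) (c := r) (d := w')
    (a' := x) (b' := y) (c' := z) (d' := w)
    ⟨hpq, hpr, Ne.symm hw'.1, hqr, Ne.symm hw'.2.1, Ne.symm hw'.2.2⟩
    ⟨hxy, hxz, Ne.symm hw.1, hyz, Ne.symm hw.2.1, Ne.symm hw.2.2⟩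
  refine ⟨g * b * g⁻¹, hb.conj g, ?_, ?_, ?_⟩ <;>
    simp only [mul_smul]
  · rw [inv_smul_eq_iff.2 g1.symm, hfix p (by simp), g1]
  · rw [inv_smul_eq_iff.2 g2.symm, hfix q (by simp), g2]
  · rw [inv_smul_eq_iff.2 g3.symm, hfix r (by simp), g3]

theorem fx_eq_three {t : G} (ht : IsInv t) {x y z : X} (hxy : x ≠ y) (hxz : x ≠ z) (hyz : y ≠ z)
    (hx : t • x = x) (hy : t • y = y) (hz : t • z = z) {u : X} (hu : t • u = u) :
    u = x ∨ u = y ∨ u = z := by
  by_contra h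
  simp only [not_or] at h
  exact hG.not_fix_four ht ⟨hxy, hxz, Ne.symm h.1, hyz, Ne.symm h.2.1, Ne.symm h.2.2⟩ hx hy hz hu

theorem inv_fix_three_unique {t t' : G} (ht : IsInv t) (ht' : IsInv t') {x y z : X} (hxy : x ≠ y)
    (hxz : x ≠ z) (hyz : y ≠ z) (hx : t • x = x) (hy : t • y = y) (hz : t • z = z)
    (hx' : t' • x = x) (hy' : t' • y = y) (hz' : t' • z = z) : t = t' := by
  obtain ⟨A, hA, hAn, hA1, -, hAc⟩ := hG.exists_abelian_normal hn hxy
  have hone : ∀ c : G, (∀ a ∈ A, a * c = c * a) → c • x = x → c • y = y → c • z = z → c = 1 := by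
    intro c hc hcx hcy hcz
    refine eq_of_smul_eq_smul fun w : X => ?_
    rw [one_smul]
    by_cases hwx : w = x
    · rw [hwx, hcx]
    by_cases hwy : w = y
    · rw [hwy, hcy]
    obtain ⟨a, ha, rfl⟩ := hG.trans_of_normal hn hxy hA hAn hA1 (Ne.symm hxz) (Ne.symm hyz) hwx hwy
    rw [← mul_smul, ← hc a ha, mul_smul, hcz]
  have hinv : ∀ s : G, IsInv s → s • x = x → s • y = y → s • z = z →
      ∀ a ∈ A, s * a * s = a⁻¹ := by
    intro s hs hsx hsy hsz a ha
    have ha' : s * a * s ∈ A := by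
      simpa [hs.inv_eq] using hAn s (Subgroup.mem_inf.2 ⟨hsx, hsy⟩) a ha
    obtain ⟨hcx, hcy⟩ := Subgroup.mem_inf.1 (hA (mul_mem ha ha'))
    rw [mem_stabilizer_iff] at hcx hcy
    have hfix : s • (a * (s * a * s)) • z = (a * (s * a * s)) • z := by
      have e : s * (a * (s * a * s)) = a * (s * a * s) * s := by
        calc s * (a * (s * a * s)) = (s * a * s) * (a * s) := by group
          _ = (s * a * s * a) * s := by group
          _ = _ := by rw [hAc _ ha' _ ha]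
      rw [← mul_smul, e, mul_smul, hsz]
    have hcz : (a * (s * a * s)) • z = z := by
      rcases hG.fx_eq_three hn hs hxy hxz hyz hsx hsy hsz hfix with h | h | h
      · exact absurd (smul_left_cancel _ (h.trans hcx.symm)) (Ne.symm hxz)
      · exact absurd (smul_left_cancel _ (h.trans hcy.symm)) (Ne.symm hyz)
      · exact h
    have := hone _ (fun b hb => hAc b hb _ (mul_mem ha ha')) hcx hcy hcz
    exact (inv_eq_of_mul_eq_one_right this).symm
  have h1 : t * t' = 1 := by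
    refine hone _ (fun a ha => ?_) (by rw [mul_smul, hx', hx]) (by rw [mul_smul, hy', hy])
      (by rw [mul_smul, hz', hz])
    have e1 := hinv t ht hx hy hz (t' * a * t') (by
      simpa [ht'.inv_eq] using hAn t' (Subgroup.mem_inf.2 ⟨hx', hy'⟩) a ha)
    rw [hinv t' ht' hx' hy' hz' a ha, inv_inv] at e1
    have e2 : t * t' * a * (t' * t) = a := by
      calc t * t' * a * (t' * t) = t * (t' * a * t') * t := by group
        _ = a := by rw [hinv t' ht' hx' hy' hz' a ha]; exact e1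
    calc a * (t * t') = t * t' * a * (t' * t) * (t * t') := by rw [e2]
      _ = t * t' * a := by
        rw [mul_assoc _ (t' * t) (t * t'), mul_assoc t' t, ← mul_assoc t t t', ht.1, one_mul, ht'.1,
          mul_one]
  rw [eq_inv_of_mul_eq_one_left h1, ht'.inv_eq]

end HallCfg

end Cfsg.Agent.H41
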