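import Cfsg.Agent.H41.McKaySmall
import Cfsg.Agent.H54.SLTwoSylow
import Cfsg.Agent.H54.SLTwoBorel
import Cfsg.Agent.H53.SLApp
import Cfsg.Agent.S2299
import Cfsg.Agent.S2430

/-!
The McKay equality for `SL_2(q)`, `q` odd.
-/

set_option autoImplicit false
set_option linter.unusedSectionVars false

namespace Cfsg.Agent.H41.McKaySL2

open Matrix Cfsg Cfsg.Agent.Linear
open scoped commutatorElement

variable {F : Type*} [Field F] [Fintype F]

local notation "S2" => Matrix.SpecialLinearGroup (Fin 2) F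
local notation "M2" => Matrix (Fin 2) (Fin 2) F

theorem neg_one_ne_one' (h2 : (2 : F) ≠ 0) : (-1 : S2) ≠ 1 := fun e => h2 (by
  have := congrArg (fun z : S2 => (z : M2) 0 0) e
  simp at this
  linear_combination -this)

theorem index_commutator_sylow_two (hodd : Odd (Fintype.card F)) (S : Sylow 2 S2) :
    (commutator (S : Subgroup S2)).index = 4 := by
  obtain ⟨k, hk, ⟨e⟩⟩ := H27.QuaternionSylow.sylow_equiv_quaternion hodd S
  haveI : NeZero (2 ^ k) := ⟨by positivity⟩
  rw [← McKaySmall.index_commutator_quaternion (2 ^ k) (dvd_pow_self 2 (by omega))]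
  have : (commutator (S : Subgroup S2)).map e.toMonoidHom = commutator (QuaternionGroup (2 ^ k)) := by
    rw [commutator_def, commutator_def, Subgroup.map_commutator,
      Subgroup.map_top_of_surjective _ e.surjective]
  rw [← this]
  exact (Subgroup.index_map_equiv _ e).symm

theorem card_two_self (hodd : Odd (Fintype.card F)) (S : Sylow 2 S2)
    (hN : Subgroup.normalizer ((S : Subgroup S2) : Set S2) = (S : Subgroup S2)) :
    Nat.card {χ : IrrCharacter (Subgroup.normalizer ((S : Subgroup S2) : Set S2)) //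
      ¬ 2 ∣ charDegree (χ : Subgroup.normalizer ((S : Subgroup S2) : Set S2) → ℂ)} = 4 := by
  exact (McKaySmall.card_prime'_congr (MulEquiv.subgroupCongr hN.symm) 2).trans
    ((McKaySmall.card_prime'_of_pgroup S.isPGroup').trans (index_commutator_sylow_two hodd S))

theorem card_sylow_two_eight (hodd : Odd (Fintype.card F))
    (hq : Fintype.card F % 8 = 3 ∨ Fintype.card F % 8 = 5) (S : Sylow 2 S2) :
    Nat.card (S : Subgroup S2) = 8 := by
  obtain ⟨m, hm, hG⟩ := H27.QuaternionSylow.card_SL_two_eight rfl hq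
  obtain ⟨j, hj⟩ := IsPGroup.iff_card.mp S.isPGroup'
  have h8 : 2 ^ 3 ∣ Nat.card (S : Subgroup S2) :=
    S.pow_dvd_card_of_pow_dvd_card (by rw [hG]; exact dvd_mul_right _ _)
  rw [hj] at h8 ⊢
  have h3 : 3 ≤ j := (Nat.pow_dvd_pow_iff_le_right (by omega : 1 < 2)).mp h8
  by_contra hne
  have h4 : 4 ≤ j := by
    rcases Nat.lt_or_eq_of_le h3 with h | h
    · omega
    · exact absurd (by rw [← h]; norm_num) hne
  have := (pow_dvd_pow 2 h4).trans (hj ▸ Subgroup.card_subgroup_dvd_card (S : Subgroup S2))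
  rw [hG] at this
  obtain ⟨c, hc⟩ := this
  obtain ⟨d, hd⟩ := hm
  omega

theorem not_commute_three (hodd : Odd (Fintype.card F)) (S : Sylow 2 S2)
    (h8 : Nat.card (S : Subgroup S2) = 8) {x : S2} (hx3 : orderOf x = 3)
    (hxN : x ∈ Subgroup.normalizer ((S : Subgroup S2) : Set S2)) {c : S2}
    (hc : c ∈ (S : Subgroup S2)) (hns : ¬ IsScalarTwo (c : M2)) :
    x * c ≠ c * x ∧ ∃ s ∈ (S : Subgroup S2), s * c * s⁻¹ * c⁻¹ = -1 := by
  have h2 := two_ne_zero_of_odd_card hodd
  have : Fact (ringChar F).Prime := ⟨by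
    obtain ⟨f, hp, -⟩ := FiniteField.card F (ringChar F); exact hp⟩
  haveI : CharP F (ringChar F) := ringChar.charP F
  have hp2 : ringChar F ≠ 2 := fun e => h2 (by
    have : ((2 : ℕ) : F) = 0 := (ringChar.spec F 2).mpr (e ▸ dvd_rfl)
    exact_mod_cast this)
  have ho8 : orderOf c ∣ 2 ^ 3 := by
    have := Subgroup.orderOf_dvd_natCard _ hc
    rwa [h8] at this
  have ht : (c : M2).trace ^ 2 ≠ 4 := trace_sq_ne_four (ringChar F) hns
    (Nat.Coprime.coprime_dvd_left ho8
      (((Nat.coprime_primes Nat.prime_two (Fact.out : (ringChar F).Prime)).mpr hp2.symm).pow_left 3))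
  have hnall : ∃ s ∈ (S : Subgroup S2), s ∉ Subgroup.centralizer ({c} : Set S2) := by
    by_contra hh
    push Not at hh
    have hle : (S : Subgroup S2) ≤ Subgroup.center S2 := by
      rw [← H54.SLTwoSylow.centralizer_sylow hodd S]
      intro a ha
      rw [Subgroup.mem_centralizer_iff]
      intro b hb
      exact centralizer_comm hns (hh b hb) (hh a ha)
    exact hns (isScalarTwo_SL_iff.2 (mem_center_SL_two.1 (hle hc)))
  have ho4 : orderOf c = 4 := by
    obtain ⟨i, hi, hord⟩ := (Nat.dvd_prime_pow Nat.prime_two).1 ho8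
    have h1 : ¬ orderOf c ∣ 2 := fun h => hns (isScalarTwo_SL_iff.2 (eq_one_or_neg_one_of_sq h2
      (by rw [← sq]; exact orderOf_dvd_iff_pow_eq_one.1 h)))
    have h3 : i ≠ 3 := by
      rintro rfl
      obtain ⟨s, hs, hsc⟩ := hnall
      refine hsc ?_
      have he : Subgroup.zpowers c = (S : Subgroup S2) := Subgroup.eq_of_le_of_card_ge
        (Subgroup.zpowers_le.2 hc) (by rw [Nat.card_zpowers, hord, h8]; norm_num)
      rw [← he] at hs
      obtain ⟨k, rfl⟩ := Subgroup.mem_zpowers_iff.1 hs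
      exact Subgroup.mem_centralizer_singleton_iff.2 ((Commute.refl c).zpow_left k).eq
    interval_cases i <;> simp_all
  have hindex : ((Subgroup.zpowers c).subgroupOf (S : Subgroup S2)).index = 2 := by
    have h := ((Subgroup.zpowers c).subgroupOf (S : Subgroup S2)).card_mul_index
    rw [Nat.card_congr (Subgroup.subgroupOfEquivOfLe (Subgroup.zpowers_le.2 hc)).toEquiv,
      Nat.card_zpowers, ho4, h8] at h
    omega
  haveI := Subgroup.normal_of_index_eq_two hindex
  have hconj : ∀ s ∈ (S : Subgroup S2), s * c * s⁻¹ = c ∨ s * c * s⁻¹ = c⁻¹ := by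
    intro s hs
    refine eq_or_eq_inv_of_trace ht ?_ (trace_conj c s)
    have := Subgroup.Normal.conj_mem this (⟨c, hc⟩ : (S : Subgroup S2))
      (Subgroup.mem_subgroupOf.2 (Subgroup.mem_zpowers c)) ⟨s, hs⟩
    rw [Subgroup.mem_subgroupOf] at this
    obtain ⟨k, hk⟩ := Subgroup.mem_zpowers_iff.1 this
    have hk' : c ^ k = s * c * s⁻¹ := hk
    rw [← hk']
    exact Subgroup.mem_centralizer_singleton_iff.2 ((Commute.refl c).zpow_left k).eq
  obtain ⟨s, hs, hsc⟩ := hnall
  have hinv : s * c * s⁻¹ = c⁻¹ := (hconj s hs).resolve_left fun e =>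
    hsc (Subgroup.mem_centralizer_singleton_iff.2 (mul_inv_eq_iff_eq_mul.1 e))
  refine ⟨fun hxc => ?_, s, hs, ?_⟩
  · have e : s * x * s⁻¹ = x⁻¹ :=
      inverter_inverts ht hinv (Subgroup.mem_centralizer_singleton_iff.2 hxc)
    have hmem : x * x ∈ (S : Subgroup S2) := by
      have h' : x * x = x * s * x⁻¹ * s⁻¹ := by
        have e' : s * x⁻¹ * s⁻¹ = x := by
          have := congrArg (·⁻¹) e
          simpa [mul_assoc] using this
        calc x * x = x * (s * x⁻¹ * s⁻¹) := by rw [e']
          _ = _ := by group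
      rw [h']
      exact mul_mem ((Subgroup.mem_normalizer_iff.1 hxN s).1 hs) (inv_mem hs)
    have hd := Subgroup.orderOf_dvd_natCard _ hmem
    rw [h8, ← sq, (show orderOf (x ^ 2) = 3 by
      rw [Nat.Coprime.orderOf_pow (by rw [hx3]; norm_num), hx3])] at hd
    omega
  · rw [hinv]
    have hcc : c⁻¹ * c⁻¹ * (c⁻¹ * c⁻¹) = 1 := by
      have h4 : c ^ 4 = 1 := ho4 ▸ pow_orderOf_eq_one c
      rw [show c⁻¹ * c⁻¹ * (c⁻¹ * c⁻¹) = (c ^ 4)⁻¹ by group, h4, inv_one]
    refine (eq_one_or_neg_one_of_sq h2 hcc).resolve_left fun h1 => ?_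
    have : orderOf c ∣ 2 := orderOf_dvd_of_pow_eq_one (by
      rw [sq]; simpa using congrArg (·⁻¹) h1)
    rw [ho4] at this
    omega

theorem card_two_normal (hodd : Odd (Fintype.card F))
    (hq : Fintype.card F % 8 = 3 ∨ Fintype.card F % 8 = 5) (S : Sylow 2 S2) :
    Nat.card {χ : IrrCharacter (Subgroup.normalizer ((S : Subgroup S2) : Set S2)) //
      ¬ 2 ∣ charDegree (χ : Subgroup.normalizer ((S : Subgroup S2) : Set S2) → ℂ)} = 4 := by
  classical
  have h2 := two_ne_zero_of_odd_card hodd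
  have h8 := card_sylow_two_eight hodd hq S
  have hN24 : Nat.card (Subgroup.normalizer ((S : Subgroup S2) : Set S2)) = 24 := by
    rw [H54.SLTwoSylow.card_normalizer_eight hodd hq S, h8]
  set N := Subgroup.normalizer ((S : Subgroup S2) : Set S2) with hN
  refine McKaySmall.card_odd_of_card_eq_twentyfour hN24 ?_
  have hSN : (S : Subgroup S2) ≤ N := Subgroup.le_normalizer
  set D : Subgroup S2 := (commutator N).map N.subtype with hD
  have hDS : D ≤ (S : Subgroup S2) := by
    haveI : ((S : Subgroup S2).subgroupOf N).Normal := Subgroup.normal_in_normalizer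
    have hc3 : Nat.card (N ⧸ (S : Subgroup S2).subgroupOf N) = 3 := by
      have h := ((S : Subgroup S2).subgroupOf N).card_mul_index
      rw [Nat.card_congr (Subgroup.subgroupOfEquivOfLe hSN).toEquiv, h8, hN24] at h
      rw [← Subgroup.index_eq_card]
      omega
    haveI : Fact (Nat.Prime 3) := ⟨by norm_num⟩
    haveI : IsCyclic (N ⧸ (S : Subgroup S2).subgroupOf N) := isCyclic_of_prime_card hc3
    have hle : commutator N ≤ (S : Subgroup S2).subgroupOf N := by
      rw [commutator_def, Subgroup.commutator_le]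
      intro a _ b _
      rw [← QuotientGroup.eq_one_iff, ← QuotientGroup.mk'_apply, map_commutatorElement,
        commutatorElement_eq_one_iff_mul_comm]
      obtain ⟨g, hg⟩ := IsCyclic.exists_generator (α := N ⧸ (S : Subgroup S2).subgroupOf N)
      obtain ⟨i, hi⟩ := hg (QuotientGroup.mk' _ a)
      obtain ⟨j, hj⟩ := hg (QuotientGroup.mk' _ b)
      simp only at hi hj
      rw [← hi, ← hj]
      exact ((Commute.refl g).zpow_zpow i j).eq
    rintro _ ⟨a, ha, rfl⟩
    exact Subgroup.mem_subgroupOf.1 (hle ha)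
  have hmemD : ∀ a ∈ N, ∀ b ∈ N, a * b * a⁻¹ * b⁻¹ ∈ D := fun a ha b hb =>
    ⟨⁅(⟨a, ha⟩ : N), ⟨b, hb⟩⁆, Subgroup.commutator_mem_commutator (Subgroup.mem_top _)
      (Subgroup.mem_top _), by simp [commutatorElement_def]⟩
  haveI : Fact (Nat.Prime 3) := ⟨by norm_num⟩
  obtain ⟨⟨x, hxN⟩, hx3'⟩ := exists_prime_orderOf_dvd_card' (G := N) 3 (by rw [hN24]; norm_num)
  have hx3 : orderOf x = 3 := by rwa [← Subgroup.orderOf_coe] at hx3'
  have hfix : ∀ c ∈ (S : Subgroup S2), x * c = c * x → c = 1 ∨ c = -1 := fun c hc hxc => by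
    by_contra hne
    exact (not_commute_three hodd S h8 hx3 hxN hc (fun h => hne (isScalarTwo_SL_iff.1 h))).1 hxc
  obtain ⟨c, hcS, hcns⟩ : ∃ c ∈ (S : Subgroup S2), ¬ IsScalarTwo (c : M2) := by
    by_contra hh
    push Not at hh
    have hle : (S : Subgroup S2) ≤ Subgroup.center S2 := fun a ha =>
      mem_center_SL_two.2 (isScalarTwo_SL_iff.1 (hh a ha))
    have h := Subgroup.card_le_of_le hle
    have hz : Nat.card (Subgroup.center S2) ≤ 2 := by
      have hsub : ((Subgroup.center S2 : Subgroup S2) : Set S2) ⊆ {1, -1} :=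
        fun z hz => mem_center_SL_two.1 hz
      exact (Nat.card_mono (Set.toFinite _) hsub).trans (by
        rw [Nat.card_coe_set_eq]; exact (Set.ncard_insert_le _ _).trans (by simp))
    omega
  have hneg : (-1 : S2) ∈ D := by
    obtain ⟨s, hs, e⟩ := (not_commute_three hodd S h8 hx3 hxN hcS hcns).2
    rw [← e]
    exact hmemD s (hSN hs) c (hSN hcS)
  let T : Finset S2 := Finset.univ.filter fun a => a ∈ (S : Subgroup S2)
  let f : S2 → S2 := fun a => x * a * x⁻¹ * a⁻¹
  have hT : T.card = 8 := by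
    rw [← h8, Nat.card_eq_fintype_card, Fintype.card_subtype]
  have hfib : ∀ y ∈ T.image f, (T.filter fun a => f a = y).card ≤ 2 := by
    intro y hy
    obtain ⟨t, ht, rfl⟩ := Finset.mem_image.1 hy
    refine (Finset.card_le_card (t := {t, t * -1}) fun a ha => ?_).trans Finset.card_le_two
    obtain ⟨haT, hfa⟩ := Finset.mem_filter.1 ha
    simp only [T, Finset.mem_filter, Finset.mem_univ, true_and] at ht haT
    have hcomm : x * (t⁻¹ * a) = (t⁻¹ * a) * x := by
      calc x * (t⁻¹ * a) = t⁻¹ * (x * t * x⁻¹ * t⁻¹)⁻¹ * (x * a * x⁻¹ * a⁻¹) * a * x := by group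
        _ = _ := by rw [show x * a * x⁻¹ * a⁻¹ = x * t * x⁻¹ * t⁻¹ from hfa]; group
    rcases hfix _ (mul_mem (inv_mem ht) haT) hcomm with h | h
    · rw [inv_mul_eq_one] at h
      simp [h]
    · rw [inv_mul_eq_iff_eq_mul] at h
      simp [h]
  have h4 : 4 ≤ (T.image f).card := by
    have := Finset.card_le_mul_card_image T 2 hfib
    omega
  have hnot : (-1 : S2) ∉ T.image f := by
    intro hy
    obtain ⟨t, ht, hft⟩ := Finset.mem_image.1 hy
    simp only [T, Finset.mem_filter, Finset.mem_univ, true_and] at ht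
    have e1 : x * t * x⁻¹ = -1 * t := by
      rw [← hft]; simp only [f]; group
    have hcomm : ∀ z : S2, (-1 : S2) * z = z * -1 := fun z => by simp
    have e2 : x * x * t * (x * x)⁻¹ = t := by
      calc x * x * t * (x * x)⁻¹ = x * (x * t * x⁻¹) * x⁻¹ := by group
        _ = x * (-1) * t * x⁻¹ := by rw [e1]; group
        _ = -1 * (x * t * x⁻¹) := by rw [← hcomm x]; group
        _ = t := by rw [e1]; simp
    have hxx : x = (x * x) * (x * x) := by
      have h3 : x ^ 3 = 1 := hx3 ▸ pow_orderOf_eq_one x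
      rw [show (x * x) * (x * x) = x ^ 3 * x by simp only [pow_succ, pow_zero, one_mul, mul_assoc],
        h3, one_mul]
    have e3 : x * t * x⁻¹ = t := by
      conv_lhs => rw [hxx]
      rw [show x * x * (x * x) * t * (x * x * (x * x))⁻¹
        = x * x * (x * x * t * (x * x)⁻¹) * (x * x)⁻¹ by group, e2, e2]
    rw [e3] at e1
    exact neg_one_ne_one' h2 (mul_eq_right.1 e1.symm)
  have h5 : 5 ≤ Nat.card D := by
    rw [Nat.card_eq_fintype_card, Fintype.card_subtype]
    calc 5 ≤ (insert (-1 : S2) (T.image f)).card := by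
          rw [Finset.card_insert_of_notMem hnot]; omega
      _ ≤ _ := Finset.card_le_card fun y hy => by
          rw [Finset.mem_filter]
          refine ⟨Finset.mem_univ _, ?_⟩
          rcases Finset.mem_insert.1 hy with rfl | hy
          · exact hneg
          · obtain ⟨t, ht, rfl⟩ := Finset.mem_image.1 hy
            simp only [T, Finset.mem_filter, Finset.mem_univ, true_and] at ht
            exact hmemD x hxN t (hSN ht)
  have hD8 : Nat.card D = 8 := by
    have hdvd := Subgroup.card_dvd_of_le hDS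
    rw [h8] at hdvd
    have := Nat.le_of_dvd (by norm_num) hdvd
    interval_cases h : Nat.card D <;> first | rfl | omega | simp_all
  have h := (commutator N).card_mul_index
  rw [← Subgroup.card_map_of_injective N.subtype_injective, ← hD, hD8, hN24] at h
  omega

theorem borel_eq_normalizer :
    Subgroup.normalizer ((unitriSL 2 F : Subgroup S2) : Set S2) = H54.Borel.borel F := by
  ext g
  rw [H54.Borel.mem_borel, Subgroup.mem_normalizer_iff]
  refine ⟨fun h => ?_, fun hg x => ?_⟩
  · obtain ⟨u, hu, hu1⟩ : ∃ u : S2, u ∈ unitriSL 2 F ∧ u ≠ 1 := by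
      refine ⟨Matrix.SpecialLinearGroup.transvection (zero_ne_one (α := Fin 2)) 1,
        transvection_mem_unitriSL 1, fun e => ?_⟩
      have := congrArg (fun z : S2 => (z : M2) 0 1) e
      simp [Matrix.SpecialLinearGroup.transvection_coe] at this
    exact mem_borel_of_conj_mem (g := Matrix.SpecialLinearGroup.toGL g)
      (u := Matrix.SpecialLinearGroup.toGL u) hu
      (fun e => hu1 (Matrix.SpecialLinearGroup.toGL_injective (e.trans (map_one _).symm)))
      (by rw [← map_inv, ← map_mul, ← map_mul]; exact (h u).1 hu)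
  · have hn : ∀ m : S2, (m : M2) 1 0 = 0 → ∀ x ∈ unitriSL 2 F, m * x * m⁻¹ ∈ unitriSL 2 F := by
      intro m hm y hy
      change Matrix.SpecialLinearGroup.toGL (m * y * m⁻¹) ∈ unitriGL 2 F
      rw [map_mul, map_mul, map_inv]
      exact conj_mem_unitriGL hm hy
    refine ⟨hn g hg x, fun hx => ?_⟩
    have := hn g⁻¹ (by rw [(SL_inv_entries g).2.2.2, hg, neg_zero]) _ hx
    simpa [mul_assoc] using this

theorem unitriSL_comm {a b : S2} (ha : a ∈ unitriSL 2 F) (hb : b ∈ unitriSL 2 F) :
    a * b = b * a := by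
  obtain ⟨a10, a00, a11⟩ := unitriSL_two_eq.1 ha
  obtain ⟨b10, b00, b11⟩ := unitriSL_two_eq.1 hb
  refine SL_ext_two ?_ ?_ ?_ ?_ <;> simp only [SL_mul_entries, a10, a00, a11, b10, b00, b11] <;> ring

theorem card_char {p : ℕ} [Fact p.Prime] [CharP F p] (hodd : Odd (Fintype.card F))
    (S : Sylow p S2) :
    Nat.card {χ : IrrCharacter (Subgroup.normalizer ((S : Subgroup S2) : Set S2)) //
      ¬ p ∣ charDegree (χ : Subgroup.normalizer ((S : Subgroup S2) : Set S2) → ℂ)} =
      Fintype.card F + 3 := by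
  obtain ⟨g, hg⟩ := MulAction.exists_smul_eq S2 (unitriSylowSL 2 F p) S
  subst hg
  set U : Subgroup S2 := unitriSL 2 F
  have hU : ((g • unitriSylowSL 2 F p : Sylow p S2) : Subgroup S2) =
      U.map (MulAut.conj g).toMonoidHom := rfl
  have e : Subgroup.normalizer (U : Set S2) ≃*
      Subgroup.normalizer (((g • unitriSylowSL 2 F p : Sylow p S2) : Subgroup S2) : Set S2) :=
    ((Subgroup.normalizer (U : Set S2)).equivMapOfInjective _ (MulAut.conj g).injective).trans
      (MulEquiv.subgroupCongr (by rw [hU, Subgroup.map_equiv_normalizer_eq]))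
  rw [McKaySmall.card_prime'_congr e p]
  haveI : (U.subgroupOf (Subgroup.normalizer (U : Set S2))).Normal := Subgroup.normal_in_normalizer
  rw [McKaySmall.card_prime'_eq_classes (U.subgroupOf (Subgroup.normalizer (U : Set S2)))
    (fun a ha b hb => Subtype.ext (unitriSL_comm (Subgroup.mem_subgroupOf.1 ha)
      (Subgroup.mem_subgroupOf.1 hb)))
    (fun h => (unitriSylowSL 2 F p).not_dvd_index
      (h.trans (Subgroup.relIndex_dvd_index_of_le Subgroup.le_normalizer)))]
  rw [borel_eq_normalizer]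
  exact H54.Borel.card_conjClasses hodd

theorem card_torus (hodd : Odd (Fintype.card F)) {l : ℕ} [Fact l.Prime] (hl : l ≠ 2)
    (P : Sylow l S2) {c : ℕ}
    (hc : (l ∣ Fintype.card F - 1 ∧ c = Fintype.card F - 1) ∨
      (l ∣ Fintype.card F + 1 ∧ c = Fintype.card F + 1)) :
    2 * Nat.card {χ : IrrCharacter (Subgroup.normalizer ((P : Subgroup S2) : Set S2)) //
      ¬ l ∣ charDegree (χ : Subgroup.normalizer ((P : Subgroup S2) : Set S2) → ℂ)} = c + 6 := by
  have h2 := two_ne_zero_of_odd_card hodd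
  obtain ⟨hA, hB⟩ := Cfsg.Agent.S2430.result hodd l hl P
  obtain ⟨hcard, hcyc, hnorm⟩ : Nat.card (Subgroup.centralizer ((P : Subgroup S2) : Set S2)) = c ∧
      IsCyclic (Subgroup.centralizer ((P : Subgroup S2) : Set S2)) ∧
      Nat.card (Subgroup.normalizer ((P : Subgroup S2) : Set S2)) = 2 * c := by
    rcases hc with ⟨h, rfl⟩ | ⟨h, rfl⟩
    · exact hA h
    · exact hB h
  obtain ⟨f, hp0, hf⟩ := FiniteField.card F (ringChar F)
  have : Fact (ringChar F).Prime := ⟨hp0⟩
  have : CharP F (ringChar F) := ringChar.charP F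
  have hq := Fintype.one_lt_card (α := F)
  -- an element with trace squared not four generating the centraliser
  obtain ⟨⟨g, hgC⟩, hg⟩ := IsCyclic.exists_generator
    (α := Subgroup.centralizer ((P : Subgroup S2) : Set S2))
  have hC : Subgroup.centralizer ((P : Subgroup S2) : Set S2) = Subgroup.zpowers g := by
    refine le_antisymm (fun y hy => ?_) (Subgroup.zpowers_le.2 hgC)
    obtain ⟨k, hk⟩ := hg ⟨y, hy⟩
    exact ⟨k, congrArg Subtype.val hk⟩
  have hog : orderOf g = c := by rw [← Nat.card_zpowers, ← hC, hcard]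
  have hc3 : 3 ≤ c := by
    have hl3 : 3 ≤ l := Nat.succ_le_of_lt (lt_of_le_of_ne (Fact.out : l.Prime).two_le (Ne.symm hl))
    rcases hc with ⟨h, rfl⟩ | ⟨h, rfl⟩
    · exact hl3.trans (Nat.le_of_dvd (by omega) h)
    · exact hl3.trans (Nat.le_of_dvd (by omega) h)
  have hns : ¬ IsScalarTwo (g : M2) := fun hs => by
    have : orderOf g ∣ 2 := orderOf_dvd_of_pow_eq_one (by
      rcases isScalarTwo_SL_iff.mp hs with e | e <;> simp [e])
    have := Nat.le_of_dvd (by norm_num) this
    omega
  have hcop : c.Coprime (ringChar F) := by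
    refine Nat.Coprime.symm (hp0.coprime_iff_not_dvd.2 fun h => ?_)
    have h1 : ringChar F ∣ Fintype.card F := by rw [hf]; exact dvd_pow_self _ f.ne_zero
    rcases hc with ⟨-, rfl⟩ | ⟨-, rfl⟩
    · have := Nat.dvd_sub h1 h
      rw [Nat.sub_sub_self (by omega)] at this
      exact hp0.not_dvd_one this
    · exact hp0.not_dvd_one ((Nat.dvd_add_right h1).mp h)
  have ht : (g : M2).trace ^ 2 ≠ 4 := trace_sq_ne_four (ringChar F) hns (hog ▸ hcop)
  set C := Subgroup.centralizer ({g} : Set S2)
  have hle : Subgroup.centralizer ((P : Subgroup S2) : Set S2) ≤ C := by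
    rw [hC, Subgroup.zpowers_le]
    exact Subgroup.mem_centralizer_singleton_iff.2 rfl
  have hCc : Nat.card C = c := by
    refine le_antisymm ?_ (hcard ▸ Subgroup.card_le_of_le hle)
    have hlc : l ∣ c := by
      rcases hc with ⟨h, rfl⟩ | ⟨h, rfl⟩ <;> exact h
    rcases card_centralizer_cases ht with e | e <;> rcases hc with ⟨h, rfl⟩ | ⟨h, rfl⟩
    · exact e.le
    · exact e.le.trans (by omega)
    · exfalso
      have hd : Nat.card (Subgroup.centralizer ((P : Subgroup S2) : Set S2)) ∣ Nat.card C :=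
        Subgroup.card_dvd_of_le hle
      rw [hcard, show Nat.card C = Fintype.card F + 1 from e] at hd
      have h2' : Fintype.card F - 1 ∣ 2 := by
        have := Nat.dvd_sub hd (dvd_refl (Fintype.card F - 1))
        rwa [show Fintype.card F + 1 - (Fintype.card F - 1) = 2 by omega] at this
      have := Nat.le_of_dvd (by norm_num) h2'
      omega
    · exact e.le
  have hCeq : Subgroup.centralizer ((P : Subgroup S2) : Set S2) = C :=
    Subgroup.eq_of_le_of_card_ge hle (by rw [hcard, hCc])
  have hNeq : Subgroup.normalizer ((P : Subgroup S2) : Set S2) = Subgroup.normalizer (C : Set S2) := by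
    refine Subgroup.eq_of_le_of_card_ge ?_ (by rw [hnorm, card_normalizer_centralizer ht, hCc])
    rw [← hCeq]
    intro h hh
    rw [Subgroup.mem_normalizer_iff]
    intro y
    rw [Subgroup.mem_centralizer_iff, Subgroup.mem_centralizer_iff]
    constructor
    · intro hy z hz
      have := hy (h⁻¹ * z * h) ((Subgroup.mem_normalizer_iff''.1 hh z).1 hz)
      calc z * (h * y * h⁻¹) = h * (h⁻¹ * z * h * y) * h⁻¹ := by group
        _ = h * (y * (h⁻¹ * z * h)) * h⁻¹ := by rw [this]
        _ = _ := by group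
    · intro hy z hz
      have := hy (h * z * h⁻¹) ((Subgroup.mem_normalizer_iff.1 hh z).1 hz)
      calc z * y = h⁻¹ * (h * z * h⁻¹ * (h * y * h⁻¹)) * h := by group
        _ = h⁻¹ * (h * y * h⁻¹ * (h * z * h⁻¹)) * h := by rw [this]
        _ = _ := by group
  rw [McKaySmall.card_prime'_congr (MulEquiv.subgroupCongr hNeq.symm) l]
  haveI : (C.subgroupOf (Subgroup.normalizer (C : Set S2))).Normal := Subgroup.normal_in_normalizer
  have hidx : (C.subgroupOf (Subgroup.normalizer (C : Set S2))).index = 2 := by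
    have h := (C.subgroupOf (Subgroup.normalizer (C : Set S2))).card_mul_index
    rw [Nat.card_congr (Subgroup.subgroupOfEquivOfLe Subgroup.le_normalizer).toEquiv,
      card_normalizer_centralizer ht, mul_comm 2] at h
    exact Nat.eq_of_mul_eq_mul_left (by omega) h
  rw [McKaySmall.card_prime'_eq_classes (C.subgroupOf (Subgroup.normalizer (C : Set S2)))
    (fun a ha b hb => Subtype.ext (centralizer_comm hns (Subgroup.mem_subgroupOf.1 ha)
      (Subgroup.mem_subgroupOf.1 hb)))
    (by rw [hidx]; exact fun h => hl ((Nat.prime_dvd_prime_iff_eq Fact.out Nat.prime_two).mp h)),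
    card_conjClasses_normalizer h2 ht, hCc]

end Cfsg.Agent.H41.McKaySL2
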