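import Cfsg.Agent.CharBasic.Complete
import Cfsg.Agent.CharBasic.Kernel
import Cfsg.Agent.Linear.SLDegrees
import Cfsg.Agent.H80.GlaubermanAmbient
import Cfsg.Agent.S0169
import Cfsg.Agent.S0154

/-!
Counting irreducible characters of degree prime to a given prime: small general lemmas.
-/

set_option autoImplicit false
set_option linter.unusedSectionVars false

namespace Cfsg.Agent.H41.McKaySmall

open Cfsg
open scoped commutatorElement

variable {G : Type*} [Group G] [Finite G]

theorem deg_eq_one_iff (χ : IrrCharacter G) :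
    charDegree (χ : G → ℂ) = 1 ↔ (χ : G → ℂ) 1 = 1 := by
  rw [Linear.SLDegrees.one_eq_charDegree χ, Nat.cast_eq_one]

theorem deg_pos (χ : IrrCharacter G) : 0 < charDegree (χ : G → ℂ) := by
  refine Nat.pos_of_ne_zero fun h => CharBasic.IsIrr.one_ne_zero χ.2 ?_
  rw [Linear.SLDegrees.one_eq_charDegree χ, h, Nat.cast_zero]

theorem deg_dvd (χ : IrrCharacter G) : charDegree (χ : G → ℂ) ∣ Nat.card G := by
  obtain ⟨d, -, hd, hdvd, -⟩ := CharBasic.IsIrr.degree_dvd χ.2
  rw [Linear.SLDegrees.charDegree_eq hd]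
  exact hdvd

/-- Itô: the degree divides the index of an abelian normal subgroup. -/
theorem deg_dvd_index (χ : IrrCharacter G) (A : Subgroup G) [A.Normal]
    (hA : ∀ a ∈ A, ∀ b ∈ A, a * b = b * a) : charDegree (χ : G → ℂ) ∣ A.index := by
  obtain ⟨n, ρ, hρ, hχ⟩ := χ.2
  have hdeg : charDegree (χ : G → ℂ) = Module.finrank ℂ (Fin n → ℂ) := by
    simp [charDegree, ← hχ, Representation.char_one]
  rw [hdeg]
  exact Cfsg.Agent.S0169.result ρ A hA

/-- With an abelian normal subgroup of index prime to `l`, every degree is prime to `l`. -/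
theorem card_prime'_eq_classes {l : ℕ} (A : Subgroup G) [A.Normal]
    (hA : ∀ a ∈ A, ∀ b ∈ A, a * b = b * a) (hl : ¬ l ∣ A.index) :
    Nat.card {χ : IrrCharacter G // ¬ l ∣ charDegree (χ : G → ℂ)} = Nat.card (ConjClasses G) := by
  rw [← CharBasic.card_irrCharacter]
  exact Nat.card_congr (Equiv.subtypeUnivEquiv fun χ h => hl (h.trans (deg_dvd_index χ A hA)))

/-- The count is invariant under isomorphism. -/
theorem card_prime'_congr {H : Type*} [Group H] (e : H ≃* G) (l : ℕ) :
    Nat.card {χ : IrrCharacter G // ¬ l ∣ charDegree (χ : G → ℂ)} =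
      Nat.card {χ : IrrCharacter H // ¬ l ∣ charDegree (χ : H → ℂ)} := by
  refine Nat.card_congr ((H80.irrEquiv e).subtypeEquiv fun χ => ?_)
  have : charDegree ((H80.irrEquiv e χ : IrrCharacter H) : H → ℂ) = charDegree (χ : G → ℂ) := by
    simp [charDegree, H80.irrEquiv]
  rw [this]

/-- In a `p`-group the degrees prime to `p` are the linear ones. -/
theorem card_prime'_of_pgroup {p : ℕ} [hp : Fact p.Prime] (hG : IsPGroup p G) :
    Nat.card {χ : IrrCharacter G // ¬ p ∣ charDegree (χ : G → ℂ)} = (commutator G).index := by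
  rw [← Cfsg.Agent.S0154.result (G := G)]
  obtain ⟨m, hm⟩ := IsPGroup.iff_card.mp hG
  refine Nat.card_congr (Equiv.subtypeEquivRight fun χ => ⟨fun h => ?_, fun h => ?_⟩)
  · rw [← deg_eq_one_iff]
    obtain ⟨i, -, hi⟩ := (Nat.dvd_prime_pow hp.out).1 (hm ▸ deg_dvd χ)
    rcases Nat.eq_zero_or_pos i with rfl | hi0
    · rw [hi, pow_zero]
    · exact absurd (hi ▸ dvd_pow_self p hi0.ne') h
  · rw [← deg_eq_one_iff] at h
    rw [h]
    exact hp.out.not_dvd_one

open scoped Classical in
/-- A group of order 24 whose commutator has index 3 has four characters of odd degree. -/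
theorem card_odd_of_card_eq_twentyfour (hc : Nat.card G = 24) (hD : (commutator G).index = 3) :
    Nat.card {χ : IrrCharacter G // ¬ 2 ∣ charDegree (χ : G → ℂ)} = 4 := by
  have := Fintype.ofFinite G
  set d : IrrCharacter G → ℕ := fun χ => charDegree (χ : G → ℂ) with hd
  have hsum : ∑ χ, d χ ^ 2 = 24 := by
    refine Nat.cast_injective (R := ℂ) ?_
    rw [Nat.cast_sum]
    refine (Finset.sum_congr rfl fun χ _ => ?_).trans (CharBasic.sum_sq_degree.trans (by rw [hc]))
    rw [Linear.SLDegrees.one_eq_charDegree χ, Nat.cast_pow]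
  have h1 : (Finset.univ.filter fun χ => d χ = 1).card = 3 := by
    rw [← hD, ← Cfsg.Agent.S0154.result (G := G), Nat.card_eq_fintype_card, Fintype.card_subtype]
    congr 1
    exact Finset.filter_congr fun χ _ => deg_eq_one_iff χ
  have hle : ∀ χ, d χ ≤ 4 := fun χ => by
    have h := Finset.single_le_sum (f := fun χ => d χ ^ 2) (fun _ _ => Nat.zero_le _)
      (Finset.mem_univ χ)
    rw [hsum] at h
    by_contra hh
    have : 5 ^ 2 ≤ d χ ^ 2 := Nat.pow_le_pow_left (by omega) 2
    omega
  have hmap : ∀ χ ∈ (Finset.univ : Finset (IrrCharacter G)), d χ ∈ Finset.Icc 1 4 :=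
    fun χ _ => Finset.mem_Icc.2 ⟨deg_pos χ, hle χ⟩
  have hfib : ∑ j ∈ Finset.Icc 1 4, (Finset.univ.filter fun χ => d χ = j).card * j ^ 2 = 24 := by
    rw [← hsum, ← Finset.sum_fiberwise_of_maps_to hmap]
    refine Finset.sum_congr rfl fun j _ => ?_
    rw [Finset.sum_congr rfl (fun χ hχ => by rw [(Finset.mem_filter.1 hχ).2] :
      ∀ χ ∈ (Finset.univ.filter fun χ => d χ = j), d χ ^ 2 = j ^ 2), Finset.sum_const, smul_eq_mul]
  have hI : Finset.Icc 1 4 = ({1, 2, 3, 4} : Finset ℕ) := by decide
  rw [hI, Finset.sum_insert (by decide), Finset.sum_insert (by decide),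
    Finset.sum_insert (by decide), Finset.sum_singleton, h1] at hfib
  rw [Nat.card_eq_fintype_card, Fintype.card_subtype,
    show (Finset.univ.filter fun χ : IrrCharacter G => ¬ 2 ∣ d χ) =
      (Finset.univ.filter fun χ => d χ = 1) ∪ (Finset.univ.filter fun χ => d χ = 3) by
      ext χ
      simp only [Finset.mem_filter, Finset.mem_univ, true_and, Finset.mem_union]
      have := hle χ
      have := deg_pos χ
      simp only [hd] at *
      omega,
    Finset.card_union_of_disjoint (Finset.disjoint_filter.2 fun χ _ h h' => by omega), h1]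
  omega

/-- The abelianisation of a generalised quaternion group has order four. -/
theorem index_commutator_quaternion (n : ℕ) [NeZero n] (hn : 2 ∣ n) :
    (commutator (QuaternionGroup n)).index = 4 := by
  have h2 : 2 ∣ 2 * n := dvd_mul_right 2 n
  set c := ZMod.castHom h2 (ZMod 2) with hc
  have hn0 : (n : ZMod 2) = 0 := by
    obtain ⟨r, rfl⟩ := hn
    push_cast
    rw [show (2 : ZMod 2) = 0 from rfl, zero_mul]
  have hneg : ∀ x : ZMod 2, -x = x := by decide
  let f : QuaternionGroup n →* Multiplicative (ZMod 2 × ZMod 2) :=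
    MonoidHom.mk' (fun x => match x with
      | .a i => Multiplicative.ofAdd (c i, 0)
      | .xa i => Multiplicative.ofAdd (c i, 1)) (by
      rintro (i | i) (j | j) <;>
        simp only [QuaternionGroup.a_mul_a, QuaternionGroup.a_mul_xa, QuaternionGroup.xa_mul_a,
          QuaternionGroup.xa_mul_xa, ← ofAdd_add, Prod.mk_add_mk, map_add, map_sub, map_natCast,
          hn0, sub_eq_add_neg, hneg, zero_add, add_zero] <;>
        simp [add_comm] <;> rfl)
  have hsurj : Function.Surjective f := by
    intro y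
    obtain ⟨i, hi⟩ : ∃ i, c i = (Multiplicative.toAdd y).1 :=
      ⟨(((Multiplicative.toAdd y).1.val : ℕ) : ZMod (2 * n)), by simp⟩
    have hy : ∀ b : ZMod 2, b = 0 ∨ b = 1 := by decide
    rcases hy (Multiplicative.toAdd y).2 with h | h
    · exact ⟨.a i, Multiplicative.toAdd.injective (Prod.ext hi h.symm)⟩
    · exact ⟨.xa i, Multiplicative.toAdd.injective (Prod.ext hi h.symm)⟩
  have hker : f.ker = commutator (QuaternionGroup n) := by
    refine le_antisymm ?_ (Abelianization.commutator_subset_ker f)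
    rintro (i | i) hi
    · have hi1 : c i = 0 := congrArg (fun z => (Multiplicative.toAdd z).1) hi
      have hi2 : (2 : ℕ) ∣ i.val := by
        rw [← ZMod.natCast_eq_zero_iff, ← map_natCast c, ZMod.natCast_zmod_val]
        exact hi1
      obtain ⟨j, hj⟩ := hi2
      have : QuaternionGroup.a i =
          ⁅QuaternionGroup.a (j : ZMod (2 * n)), QuaternionGroup.xa (0 : ZMod (2 * n))⁆ := by
        rw [commutatorElement_def, eq_mul_inv_iff_mul_eq, eq_mul_inv_iff_mul_eq]
        simp only [QuaternionGroup.a_mul_a, QuaternionGroup.a_mul_xa, QuaternionGroup.xa_mul_a]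
        congr 1
        rw [← ZMod.natCast_zmod_val i, hj]
        push_cast
        ring
      rw [this]
      exact Subgroup.commutator_mem_commutator (Subgroup.mem_top _) (Subgroup.mem_top _)
    · exact absurd (congrArg (fun z => (Multiplicative.toAdd z).2) hi) (by decide : (1 : ZMod 2) ≠ 0)
  rw [← hker, Subgroup.index_ker, MonoidHom.range_eq_top.2 hsurj, Subgroup.card_top,
    Nat.card_congr Multiplicative.toAdd, Nat.card_prod, Nat.card_zmod]

end Cfsg.Agent.H41.McKaySmall
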