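import Cfsg.Agent.H41.SCN3
import Cfsg.Agent.H41.FittingMax
import Cfsg.Agent.Coprime.Hall
import Cfsg.Agent.S1393
import Cfsg.Agent.S1395
import Cfsg.Agent.S1396

/-!
The `A`-invariant `p'`-subgroups for `A` a self-centralizing normal subgroup of rank at least 3 of a
Sylow `p`-subgroup, in a minimal simple group of odd order.
-/

set_option autoImplicit false

namespace Cfsg.Agent.H41

open Subgroup

variable {G : Type*} [Group G]

/-- An `A`-invariant `p'`-subgroup. -/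
def Member (p : ℕ) (A Y : Subgroup G) : Prop :=
  (Nat.card Y).Coprime p ∧ A ≤ normalizer (Y : Set G)

variable [Finite G]

/-- Standing assumptions. -/
structure ScnSetup (p : ℕ) [Fact p.Prime] (P : Sylow p G) (A A₁ : Subgroup G) : Prop where
  hG : Cfsg.IsMinSimpleOddOrder G
  scn : Cfsg.IsSCN (P : Subgroup G) A
  hA₁A : A₁ ≤ A
  hA₁e : ∀ a ∈ A₁, a ^ p = 1
  hA₁ : Nat.card A₁ = p ^ 3

variable {p : ℕ} [hp : Fact p.Prime] {P : Sylow p G} {A A₁ : Subgroup G}

theorem le_normalizer_inf {X Y : Subgroup G} {Z : Subgroup G} (hX : Z ≤ normalizer (X : Set G))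
    (hY : Z ≤ normalizer (Y : Set G)) : Z ≤ normalizer ((X ⊓ Y : Subgroup G) : Set G) := by
  rw [le_normalizer_iff]
  exact fun a ha x hx => ⟨Coprime.conj_mem (hX ha) hx.1, Coprime.conj_mem (hY ha) hx.2⟩

theorem le_normalizer_centralizer {B H : Subgroup G} (h : B ≤ normalizer (H : Set G)) :
    B ≤ normalizer ((centralizer (H : Set G) : Subgroup G) : Set G) := by
  rw [le_normalizer_iff]
  exact fun a ha x hx => conj_mem_centralizer_of_normalizer (h ha) hx

theorem le_normalizer_centralizer_singleton {B : Subgroup G} {d : G}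
    (h : B ≤ centralizer ({d} : Set G)) :
    B ≤ normalizer ((centralizer ({d} : Set G) : Subgroup G) : Set G) :=
  h.trans le_normalizer

theorem centralizer_singleton_ne_top (hG : Cfsg.IsMinSimpleOddOrder G) {X : Subgroup G} {d : G}
    (hX : X ≠ ⊤) (hd : d ∈ X) (hd1 : d ≠ 1) : centralizer ({d} : Set G) ≠ ⊤ := fun h => by
  refine normalizer_ne_top hG.2 (H := zpowers d) (fun e => hd1 (zpowers_eq_bot.mp e))
    (fun e => hX (top_le_iff.mp (e ▸ zpowers_le.mpr hd))) (top_le_iff.mp ?_)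
  rw [← h]
  intro x hx
  refine centralizer_le_normalizer _ ?_
  intro z hz
  obtain ⟨k, rfl⟩ := mem_zpowers_iff.mp hz
  exact Commute.zpow_left (show Commute d x from (mem_centralizer_singleton_iff.mp hx).symm) k

theorem coprime_of_le {Y Z : Subgroup G} {n : ℕ} (hYZ : Y ≤ Z) (hZ : (Nat.card Z).Coprime n) :
    (Nat.card Y).Coprime n :=
  hZ.coprime_dvd_left (card_dvd_of_le hYZ)

/-- The `r`-part of `|J|`. -/
noncomputable def rpart (r : ℕ) (J : Subgroup G) : ℕ := r ^ (Nat.card J).factorization r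

theorem le_rpart {r : ℕ} [hr : Fact r.Prime] {U J : Subgroup G} (hU : IsPGroup r U)
    (h : Nat.card U ∣ Nat.card J) : Nat.card U ≤ rpart r J := by
  obtain ⟨n, hn⟩ := IsPGroup.iff_card.mp hU
  rw [hn] at h ⊢
  exact Nat.pow_le_pow_right hr.out.pos
    ((hr.out.pow_dvd_iff_le_factorization Nat.card_pos.ne').mp h)

theorem card_sylow_map {r : ℕ} [Fact r.Prime] {J : Subgroup G} (T : Sylow r J) :
    Nat.card ((T : Subgroup J).map J.subtype) = rpart r J := by
  rw [Cores.card_map_eq _ J.subtype_injective]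
  exact T.card_eq_multiplicity

theorem card_dvd_of_isPiHallOf {π : Set ℕ} {J Z U : Subgroup G} (h : Cfsg.IsPiHallOf π J Z)
    (hUZ : U ≤ Z) {r : ℕ} [hr : Fact r.Prime] (hrπ : r ∈ π) (hU : IsPGroup r U) :
    Nat.card U ∣ Nat.card J := by
  obtain ⟨hle, -, h2⟩ := h
  obtain ⟨n, hn⟩ := IsPGroup.iff_card.mp hU
  rcases Nat.eq_zero_or_pos n with rfl | hn0
  · rw [hn, pow_zero]; exact one_dvd _
  have hd : Nat.card U ∣ Nat.card J * J.relIndex Z := by
    rw [show Nat.card J * J.relIndex Z = Nat.card Z by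
      rw [← relIndex_bot_left J, relIndex_mul_relIndex _ _ _ bot_le hle, relIndex_bot_left]]
    exact card_dvd_of_le hUZ
  refine (Nat.Coprime.dvd_of_dvd_mul_right ?_ hd)
  rw [hn]
  refine Nat.Coprime.pow_left n (hr.out.coprime_iff_not_dvd.mpr fun hd' => ?_)
  exact h2 r hr.out hrπ hd'

theorem le_rpart_of_isPiHallOf {π : Set ℕ} {J Z U : Subgroup G} (h : Cfsg.IsPiHallOf π J Z)
    (hUZ : U ≤ Z) {r : ℕ} [Fact r.Prime] (hrπ : r ∈ π) (hU : IsPGroup r U) :
    Nat.card U ≤ rpart r J :=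
  le_rpart hU (card_dvd_of_isPiHallOf h hUZ hrπ hU)

namespace ScnSetup

variable (S : ScnSetup p P A A₁)
include S

theorem hAc : IsMulCommutative A := isMulCommutative_of_isSCN S.scn

theorem hAp : IsPGroup p A := P.isPGroup'.to_le S.scn.1

theorem hA₁c : IsMulCommutative A₁ := PGroups.isMulCommutative_of_comm fun _ ha _ hb =>
  PGroups.comm_of_isMulCommutative S.hAc (S.hA₁A ha) (S.hA₁A hb)

theorem hA₁p : IsPGroup p A₁ := S.hAp.to_le S.hA₁A

theorem hA₁0 : A₁ ≠ ⊥ := fun h => by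
  have := S.hA₁
  rw [h, card_eq_one.mpr rfl] at this
  exact absurd this.symm (ne_of_gt (Nat.one_lt_pow (by norm_num) hp.out.one_lt))

theorem hA0 : A ≠ ⊥ := ne_bot_of_le_ne_bot S.hA₁0 S.hA₁A

theorem hAtop : A ≠ ⊤ := ne_top_of_isPGroup S.hG.2 S.hAp

theorem hpG : p ∣ Nat.card G := prime_dvd_card_of_elementary (k := 2) S.hA₁

theorem hp2 : p ≠ 2 := pne2_of_card_dvd S.hG.1 S.hpG

theorem not_pRankLE_A : ¬ Cfsg.PRankLE p 2 A :=
  not_pRankLE hp.out.one_lt S.hA₁A S.hA₁c S.hA₁e S.hA₁.ge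

theorem transitivityHypothesis : Cfsg.TransitivityHypothesis A :=
  Cfsg.Agent.S1396.result S.hG p S.hpG A S.hAp S.hAc
    (Or.inr ⟨P, S.scn, fun h => S.not_pRankLE_A fun B hBc hBe =>
      (h B hBc hBe).trans (Nat.pow_le_pow_right hp.out.pos (by norm_num))⟩)

theorem not_dvd_card_A {q : ℕ} (hq : q.Prime) (hqp : q ≠ p) : ¬ q ∣ Nat.card A := fun h => by
  obtain ⟨n, hn⟩ := IsPGroup.iff_card.mp S.hAp
  rw [hn] at h
  exact hqp ((Nat.prime_dvd_prime_iff_eq hq hp.out).mp (hq.dvd_of_dvd_pow h))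

theorem transitive {q : ℕ} (hq : q.Prime) (hqp : q ≠ p) :
    ∀ Q₁ ∈ Cfsg.maxInvSubgroups ⊤ A {q}, ∀ Q₂ ∈ Cfsg.maxInvSubgroups ⊤ A {q},
      ∃ k ∈ transK A, Q₂ = Q₁.map (MulAut.conj k).toMonoidHom := by
  refine Cfsg.Agent.S1393.result S.hG A S.transitivityHypothesis ?_ q hq (S.not_dvd_card_A hq hqp)
  rw [inf_eq_left.mpr fun a ha b hb => PGroups.comm_of_isMulCommutative S.hAc hb ha]
  exact fun h => S.not_pRankLE_A (h p hp.out)

omit S in
theorem member_bot : Member p A (⊥ : Subgroup G) :=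
  ⟨by rw [card_eq_one.mpr rfl]; exact Nat.coprime_one_left _,
    le_normalizer_iff.mpr fun a _ x hx => by rw [mem_bot.mp hx]; simp⟩

omit S in
theorem member_of_isPGroup {q : ℕ} [Fact q.Prime] (hqp : q ≠ p) {Q : Subgroup G} (hQ : IsPGroup q Q)
    (hAQ : A ≤ normalizer (Q : Set G)) : Member p A Q :=
  ⟨coprime_card_of_isPGroup hqp hQ, hAQ⟩

omit S in
theorem member_of_le {Y Z : Subgroup G} (hZ : Member p A Z) (hYZ : Y ≤ Z)
    (hAY : A ≤ normalizer (Y : Set G)) : Member p A Y :=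
  ⟨coprime_of_le hYZ hZ.1, hAY⟩

theorem member_ne_top {Y : Subgroup G} (hY : Member p A Y) : Y ≠ ⊤ := fun h => by
  have h1 := hY.1
  rw [h, card_top, Nat.coprime_comm, hp.out.coprime_iff_not_dvd] at h1
  exact h1 S.hpG

theorem coprime_card {Y : Subgroup G} (hY : Member p A Y) : (Nat.card A).Coprime (Nat.card Y) := by
  obtain ⟨n, hn⟩ := IsPGroup.iff_card.mp S.hAp
  rw [hn]
  exact (hY.1.pow_right n).symm

theorem solvable {Y : Subgroup G} (hY : Member p A Y) : Group.IsSolvable Y :=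
  isSolvable_of_ne_top S.hG.2 (S.member_ne_top hY)

/-- A member inside a proper subgroup `X ⊇ A` lies in `O_{p'}(X)`. -/
theorem member_le_core {X : Subgroup G} (hX : X ≠ ⊤) (hAX : A ≤ X) {Y : Subgroup G}
    (hY : Member p A Y) (hYX : Y ≤ X) : Y ≤ pCorePrime p X := by
  haveI : Group.IsSolvable X := isSolvable_of_ne_top S.hG.2 hX
  exact le_pCorePrime S.hp2 hAX S.hAp
    (fun x _ hx hxp => Cfsg.Agent.S1396.mem_of_isSCN S.hAc S.scn hx hxp) hYX hY.1 hY.2

omit S in
theorem member_core {X : Subgroup G} (hAX : A ≤ X) : Member p A (pCorePrime p X) :=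
  ⟨coprime_pCorePrime X, hAX.trans (le_normalizer_pCorePrime X)⟩

theorem centralizer_A_ne_top : centralizer (A : Set G) ≠ ⊤ := fun h =>
  normalizer_ne_top S.hG.2 S.hA0 S.hAtop (top_le_iff.mp (h ▸ centralizer_le_normalizer A))

theorem A_le_centralizer : A ≤ centralizer (A : Set G) :=
  fun _ ha _ hb => PGroups.comm_of_isMulCommutative S.hAc hb ha

theorem member_transK : Member p A (transK A) := by
  refine ⟨?_, ?_⟩
  · rw [Nat.coprime_comm, hp.out.coprime_iff_not_dvd]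
    refine fun hd => (piCoreOf_isPiNumber _ _ p hp.out hd).2 ?_
    obtain ⟨n, hn⟩ := IsPGroup.iff_card.mp S.hAp
    rw [hn]
    exact dvd_pow_self p fun h => S.hA0 (card_eq_one.mp (by rw [hn, h, pow_zero]))
  · exact (S.A_le_centralizer.trans le_normalizer).trans (normalizer_le_normalizer_piCoreOf _ _)

omit S in
theorem transK_le : transK A ≤ centralizer (A : Set G) := piCoreOf_le _ _

theorem member_le_transK {Y : Subgroup G} (hY : Member p A Y) (hYA : Y ≤ centralizer (A : Set G)) :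
    Y ≤ transK A := by
  refine (S.member_le_core S.centralizer_A_ne_top S.A_le_centralizer hY hYA).trans ?_
  refine le_piCoreOf (pCorePrime_le _) (le_normalizer_pCorePrime _) fun q hq hd => ⟨hq, ?_⟩
  refine S.not_dvd_card_A hq fun h => ?_
  subst h
  exact hp.out.ne_one (Nat.eq_one_of_dvd_coprimes (coprime_pCorePrime _) hd dvd_rfl)

/-- An element of a member centralizing `A` lies in `O_{π(A)'}(C(A))`. -/
theorem mem_transK {Y : Subgroup G} (hY : Member p A Y) {c : G} (hc : c ∈ Y)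
    (hcA : c ∈ centralizer (A : Set G)) : c ∈ transK A :=
  S.member_le_transK
    (member_of_le hY (inf_le_left : Y ⊓ centralizer (A : Set G) ≤ Y)
      (le_normalizer_inf hY.2 (le_normalizer_centralizer le_normalizer))) inf_le_right ⟨hc, hcA⟩

omit S in
theorem invSubgroups_of_isPGroup {q : ℕ} [hq : Fact q.Prime] {Q : Subgroup G} (hQ : IsPGroup q Q)
    (hAQ : A ≤ normalizer (Q : Set G)) : Q ∈ Cfsg.invSubgroups ⊤ A {q} :=
  ⟨le_top, (Cores.isPGroup_iff_isPiNumber hq.out).1 hQ, hAQ⟩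

/-- All `q`-members lie in `W` once one maximal one and `transK A` do. -/
theorem all_members_le {W : Subgroup G} {q : ℕ} [hq : Fact q.Prime] (hqp : q ≠ p)
    (hK : transK A ≤ W) {Q₀ : Subgroup G} (hQ₀ : Q₀ ∈ Cfsg.maxInvSubgroups ⊤ A {q}) (hQ₀W : Q₀ ≤ W)
    {Q : Subgroup G} (hQ : IsPGroup q Q) (hAQ : A ≤ normalizer (Q : Set G)) : Q ≤ W := by
  obtain ⟨Q₁, hQ₁, hle⟩ := exists_maxInvSubgroups_ge (invSubgroups_of_isPGroup (A := A) hQ hAQ)
  obtain ⟨k, hk, rfl⟩ := S.transitive hq.out hqp Q₀ hQ₀ Q₁ hQ₁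
  refine hle.trans ?_
  rintro _ ⟨z, hz, rfl⟩
  exact W.mul_mem (W.mul_mem (hK hk) (hQ₀W hz)) (W.inv_mem (hK hk))

/-- A member lies in `W` once its invariant Sylow subgroups do. -/
theorem member_le_of_pMembers {W : Subgroup G} {Y : Subgroup G} (hY : Member p A Y)
    (h : ∀ q : ℕ, q.Prime → q ≠ p → ∀ Q : Subgroup G, Q ≤ Y → IsPGroup q Q →
      A ≤ normalizer (Q : Set G) → Q ≤ W) : Y ≤ W := by
  refine Coprime.le_of_exists_sylow_le fun q hq => ?_
  haveI := Fact.mk hq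
  obtain ⟨Q, hQ⟩ := Coprime.exists_invariant_sylow hY.2 (S.coprime_card hY)
    (Or.inr (S.solvable hY)) q
  refine ⟨Q, ?_⟩
  by_cases hqp : q = p
  · subst hqp
    have h1 : (Q : Subgroup Y).map Y.subtype = ⊥ := by
      refine card_eq_one.mp (Nat.eq_one_of_dvd_coprimes
        (coprime_of_le (map_subtype_le (Q : Subgroup Y)) hY.1) dvd_rfl ?_)
      obtain ⟨n, hn⟩ := IsPGroup.iff_card.mp (Q.isPGroup'.map Y.subtype)
      rcases Nat.eq_zero_or_pos n with rfl | hn0
      · rw [hn, pow_zero]; exact one_dvd _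
      · exfalso
        have h2 := coprime_of_le (map_subtype_le (Q : Subgroup Y)) hY.1
        rw [hn, Nat.coprime_pow_left_iff hn0, Nat.coprime_self] at h2
        exact hp.out.ne_one h2
    rw [h1]; exact bot_le
  exact h q hq hqp _ (map_subtype_le _) (Q.isPGroup'.map _) hQ

theorem inUniqueMaximal_of_members {M : Subgroup G} (hM : IsCoatom M) (hAM : A ≤ M)
    (h : ∀ Y : Subgroup G, Member p A Y → Y ≤ M) : Cfsg.InUniqueMaximal A :=
  inUniqueMaximal_of_invariant' S.hG hM hAM S.hAp S.hA0 fun Y hY hAY => h Y ⟨hY, hAY⟩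

/-- Subgroups of order at least `p ^ 2` with fixed points generate. -/
theorem le_of_large_fixed {K M : Subgroup G} (hK : Member p A K)
    (h : ∀ B : Subgroup G, B ≤ A₁ → p ^ 2 ≤ Nat.card B → K ⊓ centralizer (B : Set G) ≤ M) :
    K ≤ M := by
  haveI := S.hA₁c
  refine Coprime.le_of_centralizer_cyclic_quotient_le (S.hA₁A.trans hK.2)
    ((S.coprime_card hK).coprime_dvd_left (card_dvd_of_le S.hA₁A)) fun B hB ⟨a, ha, hsup⟩ => h B hB ?_
  have h1 : Nat.card ↥(B ⊔ zpowers a) ≤ Nat.card B * Nat.card (zpowers a) := by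
    have hn : zpowers a ≤ normalizer (B : Set G) := by
      refine zpowers_le.mpr (centralizer_le_normalizer B fun b hb => ?_)
      exact PGroups.comm_of_isMulCommutative S.hA₁c (hB hb) ha
    rw [← Nat.card_prod]
    refine Nat.card_le_card_of_surjective (fun x : B × zpowers a => (⟨(x.1 : G) * x.2,
      mul_mem_sup x.1.2 x.2.2⟩ : ↥(B ⊔ zpowers a))) fun y => ?_
    obtain ⟨b, hb, c, hc, hbc⟩ := (Coprime.mem_sup_iff hn).1 y.2
    exact ⟨(⟨b, hb⟩, ⟨c, hc⟩), Subtype.ext hbc⟩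
  rw [hsup, S.hA₁, Nat.card_zpowers] at h1
  have h2 : orderOf a ≤ p := Nat.le_of_dvd hp.out.pos (orderOf_dvd_of_pow_eq_one (S.hA₁e a ha))
  exact Nat.le_of_mul_le_mul_right ((pow_succ p 2).symm.le.trans (h1.trans (Nat.mul_le_mul_left _ h2)))
    hp.out.pos

end ScnSetup

end Cfsg.Agent.H41
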