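import Cfsg.Agent.H41.Uniqueness

/-!
A `p`-subgroup with no nontrivial invariant `p'`-subgroup lies in exactly one maximal subgroup.
-/

set_option autoImplicit false

namespace Cfsg.Agent.H41

open Subgroup

variable {G : Type*} [Group G] [Finite G] {p : ℕ} [hp : Fact p.Prime]

omit [Finite G] in
/-- With trivial `O_{p'}`, a maximal subgroup is `N(Z(J(R)))` for each of its Sylow subgroups `R`. -/
theorem normalizer_zjay_eq_of_pCorePrime [Finite G] (hG : Cfsg.IsMinSimpleOddOrder G) (hp2 : p ≠ 2)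
    {H R : Subgroup G} (hH : IsCoatom H) (hO : pCorePrime p H = ⊥) (hRH : R ≤ H) (hRp : IsPGroup p R)
    (hR0 : R ≠ ⊥) (hmax : ∀ R' : Subgroup G, IsPGroup p R' → R ≤ R' → R' ≤ H → R' = R) :
    normalizer (Thompson.zjay 0 R : Set G) = H := by
  haveI : Group.IsSolvable H := hG.2.2.2 H hH.1
  let S : Sylow p H :=
    { toSubgroup := R.subgroupOf H
      isPGroup' := hRp.comap_subtype
      is_maximal' := fun {Q} hQ hle => by
        have h1 : R ≤ Q.map H.subtype := fun r hr => ⟨⟨r, hRH hr⟩, hle hr, rfl⟩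
        have h3 := congrArg (comap H.subtype) (hmax _ (hQ.map _) h1 (map_subtype_le _))
        rwa [comap_map_eq_self_of_injective H.subtype_injective] at h3 }
  have hO' : pPrimeCore p H = ⊥ := (map_eq_bot_iff_of_injective _ H.subtype_injective).mp hO
  have hn := zjay_normal_of_odd hp2 (hG.1.of_dvd_nat (card_subgroup_dvd_card H)) hO' S
  have hSR : (S : Subgroup H).map H.subtype = R := map_subgroupOf_eq_of_le hRH
  have hHZ : H ≤ normalizer (Thompson.zjay 0 R : Set G) := by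
    haveI := hn
    have h1 := le_normalizer_map (H := Thompson.zjay 0 (S : Subgroup H)) H.subtype
    rw [normalizer_eq_top (H := Thompson.zjay 0 (S : Subgroup H)), ← MonoidHom.range_eq_map,
      range_subtype, ← Thompson.zjay_map H.subtype H.subtype_injective, hSR] at h1
    exact h1
  exact normalizer_eq_of_isCoatom hG.2 hH (Thompson.zjay_le.trans hRH)
    (Thompson.zjay_ne_bot hRp hR0 (Or.inl rfl)) hHZ

/-- **No invariant `p'`-subgroups**: uniqueness. -/
theorem inUniqueMaximal_of_no_invariant (hG : Cfsg.IsMinSimpleOddOrder G) (hp2 : p ≠ 2)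
    {M A : Subgroup G} (hM : IsCoatom M) (hAM : A ≤ M) (hAp : IsPGroup p A) (hA0 : A ≠ ⊥)
    (hinv : ∀ Y : Subgroup G, (Nat.card Y).Coprime p → A ≤ normalizer (Y : Set G) → Y = ⊥) :
    Cfsg.InUniqueMaximal A := by
  classical
  have hmin := hG.2
  refine ⟨M, ⟨hM, hAM⟩, ?_⟩
  by_contra hne
  push Not at hne
  obtain ⟨H₀, ⟨hH₀, hAH₀⟩, hH₀M⟩ := hne
  obtain ⟨⟨H, R⟩, ⟨hH, hHM, hAR, hRp, hRH, hRM⟩, hmax⟩ := Set.exists_max_image
    {x : Subgroup G × Subgroup G | IsCoatom x.1 ∧ x.1 ≠ M ∧ A ≤ x.2 ∧ IsPGroup p x.2 ∧ x.2 ≤ x.1 ∧ x.2 ≤ M}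
    (fun x => Nat.card x.2) (Set.toFinite _) ⟨(H₀, A), hH₀, hH₀M, le_rfl, hAp, hAH₀, hAM⟩
  simp only at hH hHM hAR hRp hRH hRM hmax
  have hO : ∀ K : Subgroup G, R ≤ K → pCorePrime p K = ⊥ := fun K hRK =>
    hinv _ (coprime_pCorePrime K) ((hAR.trans hRK).trans (le_normalizer_pCorePrime K))
  have hbig : ∀ (T R' : Subgroup G), T ≠ ⊤ → R < R' → IsPGroup p R' → R' ≤ T → R' ≤ M → T ≤ M := by
    intro T R' hT hlt hR' hR'T hR'M
    obtain ⟨H', hH', hTH'⟩ := (eq_top_or_exists_le_coatom T).resolve_left hT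
    by_cases he : H' = M
    · exact he ▸ hTH'
    have h1 := hmax (H', R') ⟨hH', he, hAR.trans hlt.le, hR', hR'T.trans hTH', hR'M⟩
    exact absurd (eq_of_le_of_card_ge hlt.le h1) hlt.ne
  have hR0 : R ≠ ⊥ := ne_bot_of_le_ne_bot hA0 hAR
  have hRtop : R ≠ ⊤ := ne_top_of_isPGroup hmin hRp
  have hHnot : ¬ H ≤ M := fun h =>
    hHM ((eq_or_lt_of_le h).resolve_right fun hlt => hM.1 (hH.2 M hlt))
  have hNRZ : normalizer (R : Set G) ≤ normalizer (Thompson.zjay 0 R : Set G) :=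
    (Thompson.normalizer_le_normalizer_jay 0 R).trans (Thompson.normalizer_jay_le_normalizer_zjay 0 R)
  -- Sylow in `H` once `N(R) ≤ M`
  have hmaxH : normalizer (R : Set G) ≤ M →
      ∀ R' : Subgroup G, IsPGroup p R' → R ≤ R' → R' ≤ H → R' = R := by
    intro hNR R' hR' hle hR'H
    by_contra hne'
    obtain ⟨x, hx, hxn, hxN⟩ := exists_mem_notMem_normalizer' hR' (lt_of_le_of_ne hle (Ne.symm hne'))
    exact hHnot (hbig H _ hH.1 (left_lt_sup.mpr fun h => hxn (zpowers_le.mp h))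
      (isPGroup_sup_zpowers hR' hle hx) (sup_le hRH (zpowers_le.mpr (hR'H hx)))
      (sup_le hRM (zpowers_le.mpr (hNR hxN))))
  by_cases hR : ∀ R' : Subgroup G, IsPGroup p R' → R ≤ R' → R' ≤ M → R' = R
  · have hZM := normalizer_zjay_eq_of_pCorePrime hG hp2 hM (hO M hRM) hRM hRp hR0 hR
    have hZH := normalizer_zjay_eq_of_pCorePrime hG hp2 hH (hO H hRH) hRH hRp hR0
      (hmaxH (hNRZ.trans hZM.le))
    exact hHM (hZH.symm.trans hZM)
  · push Not at hR
    obtain ⟨R', hR', hle, hR'M, hne'⟩ := hR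
    obtain ⟨x, hx, hxn, hxN⟩ := exists_mem_notMem_normalizer' hR' (lt_of_le_of_ne hle (Ne.symm hne'))
    have hlt : R < R ⊔ zpowers x := left_lt_sup.mpr fun h => hxn (zpowers_le.mp h)
    have hxp := isPGroup_sup_zpowers hR' hle hx
    have hxM : R ⊔ zpowers x ≤ M := sup_le hRM (zpowers_le.mpr (hR'M hx))
    have hNR : normalizer (R : Set G) ≤ M := hbig _ _ (normalizer_ne_top hmin hR0 hRtop) hlt hxp
      (sup_le le_normalizer (zpowers_le.mpr hxN)) hxM
    have hZH := normalizer_zjay_eq_of_pCorePrime hG hp2 hH (hO H hRH) hRH hRp hR0 (hmaxH hNR)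
    refine hHnot (hbig H _ hH.1 hlt hxp ?_ hxM)
    exact (sup_le le_normalizer (zpowers_le.mpr hxN)).trans (hNRZ.trans hZH.le)

end Cfsg.Agent.H41
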