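import Cfsg.Agent.H41.FittingMax
import Cfsg.Agent.H41.UMaximal
import Cfsg.Agent.OddOrder.BG4.RankTwo
import Cfsg.Agent.S0640

/-!
Groups whose Fitting subgroup has small rank: derived `s`-subgroups are in `O_s`.
-/

set_option autoImplicit false

namespace Cfsg.Agent.H41

open Subgroup

variable {G : Type*} [Group G] [Finite G]

omit [Finite G] in
theorem centralizer_singleton_le_iff [Finite G] {X : Subgroup G} {h : G} :
    X ≤ centralizer ({h} : Set G) ↔ h ∈ centralizer (X : Set G) := by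
  constructor
  · intro hX x hx
    exact mem_centralizer_singleton_iff.mp (hX hx)
  · intro hX x hx
    exact mem_centralizer_singleton_iff.mpr (hX x hx)

/-- A nontrivial action of an `s`-group on an `r`-group of rank at most 2 forces `s < r`. -/
theorem lt_of_action {r s : ℕ} [Fact r.Prime] [hs : Fact s.Prime] (hr : r ≠ 2) (hsr : s ≠ r)
    {T Y : Subgroup G} (hT : IsPGroup r T) (hT2 : Cfsg.PRankLE r 2 T) (hY : IsPGroup s Y)
    (hYT : Y ≤ normalizer (T : Set G)) (hne : ¬ Y ≤ centralizer (T : Set G)) : s < r := by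
  let φ : Y →* MulAut T := (normalizerMonoidHom T).comp (inclusion hYT)
  refine (Cfsg.Agent.S0640.result hr hT hT2 s hs.out hsr ?_).2
  have hne' : φ.range ≠ ⊥ := by
    intro h
    refine hne fun y hy => ?_
    have h1 : φ ⟨y, hy⟩ = 1 := by
      rw [← mem_bot, ← h]
      exact ⟨_, rfl⟩
    intro x hx
    have h2 : y * x * y⁻¹ = x :=
      congrArg (fun f : MulAut T => ((f ⟨x, hx⟩ : T) : G)) h1
    exact (mul_inv_eq_iff_eq_mul.mp h2).symm
  have hp : IsPGroup s φ.range := hY.of_surjective _ φ.rangeRestrict_surjective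
  obtain ⟨n, hn⟩ := IsPGroup.iff_card.mp hp
  exact (dvd_pow_self s fun h => hne' (card_eq_one.mp (by rw [hn, h, pow_zero]))).trans
    (hn ▸ card_subgroup_dvd_card φ.range)

/-- If every `O_t(W)` has rank at most 2, an `s`-subgroup of `W'` lies in `O_s(W)`. -/
theorem le_fcomp_of_small (hodd : Odd (Nat.card G)) {W : Subgroup G} [Group.IsSolvable W]
    (hsmall : ∀ t : ℕ, t.Prime → Cfsg.PRankLE t 2 (fcomp t W)) {s : ℕ} [hs : Fact s.Prime]
    {X : Subgroup G} (hX : X ≤ ⁅W, W⁆) (hXs : IsPGroup s X) : X ≤ fcomp s W := by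
  classical
  have key : ∀ (t : ℕ) (ht : t.Prime) {g : G}, g ∈ ⁅W, W⁆ →
      ∃ k : ℕ, g ^ t ^ k ∈ centralizer (fcomp t W : Set G) := by
    intro t ht g hg
    haveI := Fact.mk ht
    by_cases h0 : fcomp t W = ⊥
    · exact ⟨0, by rw [h0]; intro x hx; rw [mem_bot.mp hx, one_mul, mul_one]⟩
    exact OddOrder.BG4.exists_pow_mem_centralizer_of_rank_two
      (pne2_of_card_dvd hodd ((prime_dvd_card_fcomp h0).trans (card_subgroup_dvd_card _)))
      (isPGroup_fcomp t W) (hsmall t ht) (le_normalizer_fcomp t W) ‹_›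
      (hodd.of_dvd_nat (card_subgroup_dvd_card W)) hg
  let N : Subgroup G := ⁅W, W⁆ ⊓
    centralizer {x : G | ∃ t : ℕ, t.Prime ∧ t ≠ s ∧ x ∈ fcomp t W}
  have hNW : N ≤ W := inf_le_left.trans (commutator_le_self W)
  have hNc : ∀ h ∈ N, ∀ t : ℕ, t.Prime → t ≠ s → h ∈ centralizer (fcomp t W : Set G) := by
    intro h hh t ht hts
    exact fun x hx => hh.2 x ⟨t, ht, hts, hx⟩
  have hXN : X ≤ N := by
    rintro x hx
    refine ⟨hX hx, ?_⟩
    rintro c ⟨t, ht1, hts, hc⟩
    have ht : t.Prime ∧ t ≠ s := ⟨ht1, hts⟩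
    revert c hc
    haveI := Fact.mk ht.1
    obtain ⟨k, hk⟩ := key t ht.1 (hX hx)
    obtain ⟨a, ha⟩ := hXs ⟨x, hx⟩
    have ha' : x ^ s ^ a = 1 := congrArg Subtype.val ha
    have hco : (orderOf x).Coprime (t ^ k) :=
      (((Nat.coprime_primes hs.out ht.1).mpr (Ne.symm ht.2)).pow a k).coprime_dvd_left
        (orderOf_dvd_of_pow_eq_one ha')
    obtain ⟨m, hm⟩ := exists_pow_eq_self_of_coprime hco.symm
    rw [← hm]
    exact fun c hc => pow_mem hk m c hc
  have hNn : W ≤ normalizer (N : Set G) := by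
    rw [le_normalizer_iff]
    intro w hw x hx
    refine ⟨?_, ?_⟩
    · have h1 : W ≤ normalizer ((⁅W, W⁆ : Subgroup G) : Set G) :=
        Cfsg.Agent.H42.le_normalizer_commutator le_normalizer le_normalizer
      exact Coprime.conj_mem (h1 hw) hx.1
    · rintro c ⟨t, ht1, hts, hc⟩
      exact conj_mem_centralizer_of_normalizer (le_normalizer_fcomp t W hw) (hNc x hx t ht1 hts) c hc
  -- `N` is nilpotent
  have hquot : ∀ g ∈ N, ∃ k : ℕ, ∀ h ∈ N, h * g ^ s ^ k = g ^ s ^ k * h := by
    intro g hg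
    obtain ⟨k, hk⟩ := key s hs.out hg.1
    obtain ⟨m, hm⟩ := Fusion.exists_pow_coprime (p := s) (g ^ s ^ k)
    refine ⟨k + m, ?_⟩
    set w := g ^ s ^ (k + m) with hw
    have hwe : w = (g ^ s ^ k) ^ s ^ m := by rw [hw, pow_add, pow_mul]
    have hwN : w ∈ N := pow_mem hg _
    have hwF : zpowers w ≤ Cfsg.fittingOf W := by
      refine centralizer_fittingOf_le (zpowers_le.mpr (hNW hwN)) fun r hr => zpowers_le.mpr ?_
      by_cases hrs : r = s
      · subst hrs; rw [hwe]; exact pow_mem hk _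
      · exact hNc w hwN r hr hrs
    intro h hh
    have hle : zpowers w ≤ centralizer ({h} : Set G) := by
      rw [← subgroupOf_eq_top]
      refine Cores.eq_top_of_sylow_le fun t ht P => ?_
      intro x hx
      show (x : G) ∈ centralizer ({h} : Set G)
      by_cases hx1 : x = 1
      · rw [hx1]; exact one_mem _
      set P' := (P : Subgroup (zpowers w)).map (zpowers w).subtype with hP'
      have hP'p : IsPGroup t P' := P.isPGroup'.map _
      have hts : t ≠ s := by
        rintro rfl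
        obtain ⟨a, ha⟩ := P.isPGroup' ⟨x, hx⟩
        have ha' : x ^ t ^ a = 1 := congrArg Subtype.val ha
        have hd : orderOf x ∣ orderOf w := Nat.card_zpowers w ▸ orderOf_dvd_natCard x
        rw [← hwe] at hm
        exact hx1 (orderOf_eq_one_iff.mp (Nat.eq_one_of_dvd_coprimes ((hm.pow_right a))
          hd (orderOf_dvd_of_pow_eq_one ha')))
      have hle : P' ≤ fcomp t W :=
        le_fcomp_of_le_fittingOf ((map_subtype_le _).trans hwF) hP'p
      exact centralizer_singleton_le_iff.mpr (hNc h hh t ht.out hts)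
        (hle ⟨x, hx, rfl⟩)
    exact (mem_centralizer_singleton_iff.mp (hle (mem_zpowers w))).symm
  haveI hNnil : Group.IsNilpotent N := by
    have hq : IsPGroup s (N ⧸ center N) := by
      intro a
      obtain ⟨g, rfl⟩ := QuotientGroup.mk_surjective a
      obtain ⟨k, hk⟩ := hquot g g.2
      refine ⟨k, (QuotientGroup.eq_one_iff (N := center N) _).mpr ?_⟩
      exact mem_center_iff.mpr fun h => Subtype.ext (hk h h.2)
    haveI := hq.isNilpotent
    exact Subgroup.isNilpotent_of_ker_le_center (QuotientGroup.mk' (center N))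
      (QuotientGroup.ker_mk' _).le
  haveI : (N.subgroupOf W).Normal := (normal_subgroupOf_iff_le_normalizer hNW).mpr hNn
  have hNF : N ≤ Cfsg.fittingOf W := by
    refine (map_subgroupOf_eq_of_le hNW).ge.trans (Subgroup.map_mono (Cores.le_fittingSubgroup ?_))
    exact (Group.isNilpotent_congr (subgroupOfEquivOfLe hNW)).mpr hNnil
  exact le_fcomp_of_le_fittingOf (hXN.trans hNF) hXs

end Cfsg.Agent.H41
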