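import Cfsg.Agent.H41.Members
import Cfsg.Agent.H41.SmallMax
import Cfsg.Agent.S1401
import Cfsg.Agent.S1399

/-!
A maximal subgroup `W ⊇ A` with an `O_r(W)` of rank at least 3, `r ≠ p`.
-/

set_option autoImplicit false

namespace Cfsg.Agent.H41

open Subgroup
open scoped commutatorElement

variable {G : Type*} [Group G] [Finite G]

/-- All `O_t(W)` have rank at most 2. -/
def SmallFit (W : Subgroup G) : Prop := ∀ t : ℕ, t.Prime → Cfsg.PRankLE t 2 (fcomp t W)

omit [Finite G] in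
theorem pRankLE_mono [Finite G] {r k : ℕ} {X Y : Subgroup G} (h : Cfsg.PRankLE r k Y) (hXY : X ≤ Y) :
    Cfsg.PRankLE r k X := by
  intro E hEc hEe
  have h1 := h ((E.map X.subtype).subgroupOf Y) (PGroups.isMulCommutative_of_comm fun a ha b hb => by
      obtain ⟨a', ha', hae⟩ := ha
      obtain ⟨b', hb', hbe⟩ := hb
      refine Subtype.ext ?_
      show (a : G) * b = b * a
      change X.subtype a' = (a : G) at hae
      change X.subtype b' = (b : G) at hbe
      rw [← hae, ← hbe, ← map_mul, ← map_mul, PGroups.comm_of_isMulCommutative hEc ha' hb'])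
    (fun a ha => by
      obtain ⟨a', ha', hae⟩ := ha
      refine Subtype.ext ?_
      change X.subtype a' = (a : G) at hae
      rw [SubmonoidClass.coe_pow, ← hae, ← map_pow, hEe a' ha', map_one, OneMemClass.coe_one])
  rwa [Nat.card_congr (subgroupOfEquivOfLe ((map_subtype_le E).trans hXY)).toEquiv,
    Cores.card_map_eq _ X.subtype_injective] at h1

omit [Finite G] in
theorem eq_coatom_of_inUniqueMaximal {X M N : Subgroup G} (h : Cfsg.InUniqueMaximal X)
    (hM : IsCoatom M) (hXM : X ≤ M) (hN : IsCoatom N) (hXN : X ≤ N) : N = M := by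
  obtain ⟨L, -, hu⟩ := h
  rw [hu N ⟨hN, hXN⟩, hu M ⟨hM, hXM⟩]

theorem le_of_inUniqueMaximal {X W Z : Subgroup G} (h : Cfsg.InUniqueMaximal X) (hW : IsCoatom W)
    (hXW : X ≤ W) (hZ : Z ≠ ⊤) (hXZ : X ≤ Z) : Z ≤ W := by
  obtain ⟨N, hN, hZN⟩ := (eq_top_or_exists_le_coatom Z).resolve_left hZ
  exact (eq_coatom_of_inUniqueMaximal h hW hXW hN (hXZ.trans hZN)) ▸ hZN

variable {p : ℕ} [hp : Fact p.Prime] {P : Sylow p G} {A A₁ : Subgroup G}

/-- A maximal subgroup containing `A` with `O_r(W)` of rank at least 3, `r ≠ p`. -/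
structure BigMax (p : ℕ) (A : Subgroup G) (r : ℕ) (W : Subgroup G) : Prop where
  hW : IsCoatom W
  hAW : A ≤ W
  hrp : r ≠ p
  hR : ¬ Cfsg.PRankLE r 2 (fcomp r W)

namespace BigMax

variable {r : ℕ} [hr : Fact r.Prime] {W : Subgroup G} (B : BigMax p A r W)
include B

omit hp in
theorem fcomp_ne_bot : fcomp r W ≠ ⊥ := fun h => B.hR (by
  intro E _ _
  have h1 : Nat.card ↥(fcomp r W) = 1 := card_eq_one.mpr h
  exact (Subgroup.card_le_card_group E).trans (h1.le.trans (Nat.one_le_pow _ _ hr.out.pos)))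

omit hp in
theorem r_ne_two (hodd : Odd (Nat.card G)) : r ≠ 2 :=
  pne2_of_card_dvd hodd ((prime_dvd_card_fcomp B.fcomp_ne_bot).trans (card_subgroup_dvd_card _))

omit hp in
theorem not_pRankLE_fitting : ¬ Cfsg.PRankLE r 2 (Cfsg.fittingOf W) :=
  fun h => B.hR (pRankLE_mono h (fcomp_le_fittingOf hr.out W))

omit hp in
theorem inUniqueMaximal_elementary (hG : Cfsg.IsMinSimpleOddOrder G) {E : Subgroup G}
    (hEc : IsMulCommutative E) (hEe : ∀ a ∈ E, a ^ r = 1) (hE : r ^ 3 ≤ Nat.card E) :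
    Cfsg.InUniqueMaximal E :=
  Cfsg.Agent.S1401.result hG W B.hW r B.not_pRankLE_fitting E
    (fun x => ⟨1, Subtype.ext (by simpa using hEe x x.2)⟩) hEc
    (not_pRankLE hr.out.one_lt le_rfl hEc hEe hE)

omit hp in
/-- A proper subgroup whose intersection with `W` has `r`-rank at least 3 lies in `W`. -/
theorem le_of_rank_three (hG : Cfsg.IsMinSimpleOddOrder G) {Z X : Subgroup G} (hZ : Z ≠ ⊤)
    (hX : ¬ Cfsg.PRankLE r 2 X) (hXZ : X ≤ Z) (hXW : X ≤ W) : Z ≤ W := by
  obtain ⟨E, hEX, hEc, hEe, hE⟩ := exists_elementary_of_not_pRankLE hX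
  exact le_of_inUniqueMaximal (B.inUniqueMaximal_elementary hG hEc hEe hE.ge) B.hW (hEX.trans hXW) hZ
    (hEX.trans hXZ)

omit hp in
theorem A_le_normalizer : A ≤ normalizer (fcomp r W : Set G) :=
  B.hAW.trans (le_normalizer_fcomp r W)

theorem member_fcomp : Member p A (fcomp r W) :=
  ScnSetup.member_of_isPGroup B.hrp (isPGroup_fcomp r W) B.A_le_normalizer

variable (S : ScnSetup p P A A₁)
include S

/-- `O_{π(A)'}(C(A)) ≤ W`. -/
theorem transK_le : transK A ≤ W := by
  classical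
  set R := fcomp r W with hRdef
  have hG := S.hG
  have hr2 : r ≠ 2 := B.r_ne_two hG.1
  have hRp : IsPGroup r R := isPGroup_fcomp r W
  -- the elements of order `r` of the centre
  set C := R ⊓ centralizer (R : Set G) with hC
  let O : Subgroup G :=
    { carrier := {x | x ∈ C ∧ x ^ r = 1}
      one_mem' := ⟨one_mem _, one_pow r⟩
      mul_mem' := fun {a b} ha hb => ⟨mul_mem ha.1 hb.1, by
        rw [(show Commute a b from (ha.1.2 b hb.1.1).symm).mul_pow, ha.2, hb.2, one_mul]⟩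
      inv_mem' := fun {a} ha => ⟨inv_mem ha.1, by rw [inv_pow, ha.2, inv_one]⟩ }
  have hOR : O ≤ R := fun x hx => hx.1.1
  have hAO : A ≤ normalizer (O : Set G) := by
    rw [le_normalizer_iff]
    intro a ha x hx
    have h1 := le_normalizer_inf B.A_le_normalizer (le_normalizer_centralizer B.A_le_normalizer) ha
    exact ⟨Coprime.conj_mem h1 hx.1, by rw [conj_pow, hx.2, mul_one, mul_inv_cancel]⟩
  have hOne : O ≠ ⊥ := by
    obtain ⟨z, hz, hz1⟩ : ∃ z ∈ O, z ≠ 1 := by
      haveI : Nontrivial R := (Subgroup.nontrivial_iff_ne_bot R).2 B.fcomp_ne_bot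
      haveI := hRp.center_nontrivial
      obtain ⟨z, hz⟩ := exists_prime_orderOf_dvd_card' (G := center R) r (by
        obtain ⟨n, hn⟩ := IsPGroup.iff_card.mp (hRp.to_subgroup (center R))
        have h1 := Finite.one_lt_card (α := center R)
        rw [hn] at h1 ⊢
        exact dvd_pow_self r fun h => by rw [h, pow_zero] at h1; exact lt_irrefl 1 h1)
      refine ⟨(z : R), ⟨⟨(z : R).2, fun y hy => ?_⟩, ?_⟩, ?_⟩
      · exact congrArg Subtype.val (Subgroup.mem_center_iff.1 z.2 ⟨y, hy⟩)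
      · have h1 : z ^ r = 1 := by rw [← hz]; exact pow_orderOf_eq_one z
        exact congrArg (fun u : center R => ((u : R) : G)) h1
      · intro h
        have h1 : z = 1 := Subtype.ext (Subtype.ext h)
        rw [h1, orderOf_one] at hz
        exact hr.out.one_lt.ne hz
    exact fun h => hz1 (mem_bot.mp (h ▸ hz))
  obtain ⟨D, hDA, hD, hDne⟩ : ∃ D : Subgroup G, D ≤ A₁ ∧ p ^ 2 ≤ Nat.card D ∧
      O ⊓ centralizer (D : Set G) ≠ ⊥ := by
    by_contra hcon
    push Not at hcon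
    exact hOne (le_bot_iff.mp (S.le_of_large_fixed
      (ScnSetup.member_of_le B.member_fcomp hOR hAO) fun D hD hcard => (hcon D hD hcard).le))
  obtain ⟨z, ⟨hzO, hzD⟩, hz1⟩ := exists_ne_one hDne
  have hzR : z ∈ R := hOR hzO
  have hzo : orderOf z = r := orderOf_eq_prime hzO.2 hz1
  have hzc : ∀ y ∈ R, z * y = y * z := fun y hy => (hzO.1.2 y hy).symm
  set Z₀ := zpowers z with hZ₀
  have hZ₀R : Z₀ ≤ R := zpowers_le.mpr hzR
  have hZ₀c : ∀ u ∈ Z₀, ∀ y ∈ R, u * y = y * u := fun u hu y hy => by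
    obtain ⟨k, rfl⟩ := mem_zpowers_iff.mp hu
    exact Commute.zpow_left (hzc y hy) k
  let T : Subgroup G :=
    { carrier := {x | x ∈ R ∧ x ^ r = 1 ∧ ∀ y ∈ R, ⁅x, y⁆ ∈ Z₀}
      one_mem' := ⟨one_mem _, one_pow r, fun y _ => by rw [commutatorElement_one_left]; exact one_mem _⟩
      mul_mem' := fun {a b} ha hb => by
        refine ⟨mul_mem ha.1 hb.1, ?_, fun y hy => ?_⟩
        · have hba : ⁅b, a⁆ ∈ Z₀ := hb.2.2 a ha.1
          have hcen : (⁅(⟨b, hb.1⟩ : R), (⟨a, ha.1⟩ : R)⁆ : R) ∈ center R :=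
            Subgroup.mem_center_iff.2 fun y => Subtype.ext (hZ₀c _ hba y y.2).symm
          have h1 := congrArg Subtype.val
            (PGroups.mul_pow_of_commutator_mem_center hcen r)
          refine h1.trans ?_
          show a ^ r * b ^ r * ⁅b, a⁆ ^ r.choose 2 = 1
          obtain ⟨j, hj⟩ := PGroups.dvd_choose_two hr.out hr2
          have h2 : ⁅b, a⁆ ^ r = 1 := by
            obtain ⟨k, hk⟩ := mem_zpowers_iff.mp hba
            rw [← hk, ← zpow_natCast, ← zpow_mul, mul_comm, zpow_mul, zpow_natCast, hzO.2, one_zpow]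
          rw [ha.2.1, hb.2.1, hj, pow_mul, h2, one_pow, one_mul, one_mul]
        · have h1 : ⁅a * b, y⁆ = a * ⁅b, y⁆ * a⁻¹ * ⁅a, y⁆ := by
            simp only [commutatorElement_def]; group
          rw [h1]
          refine mul_mem ?_ (ha.2.2 y hy)
          rw [← hZ₀c _ (hb.2.2 y hy) a ha.1, mul_inv_cancel_right]
          exact hb.2.2 y hy
      inv_mem' := fun {a} ha => ⟨inv_mem ha.1, by rw [inv_pow, ha.2.1, inv_one], fun y hy => by
        have h1 : ⁅a⁻¹, y⁆ = a⁻¹ * ⁅a, y⁆⁻¹ * a := by simp only [commutatorElement_def]; group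
        have h2 := inv_mem (ha.2.2 y hy)
        rw [h1, ← hZ₀c _ h2 a⁻¹ (inv_mem ha.1), inv_mul_cancel_right]
        exact h2⟩ }
  have hTR : T ≤ R := fun x hx => hx.1
  have hOT : O ≤ T := fun x hx => ⟨hx.1.1, hx.2, fun y hy => by
    rw [commutatorElement_eq_one_iff_mul_comm.mpr (hx.1.2 y hy).symm]; exact one_mem _⟩
  have hrank : ∃ E : Subgroup G, E ≤ R ∧ IsMulCommutative E ∧ (∀ a ∈ E, a ^ r = 1) ∧
      Nat.card E = r ^ 3 := exists_elementary_of_not_pRankLE B.hR
  obtain ⟨E, hER, hEc, hEe, hE⟩ := hrank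
  have hT : ¬ T ≤ Z₀ := by
    intro hTZ
    have hOZ : O ≤ Z₀ := hOT.trans hTZ
    obtain ⟨F, hFn, hFc, hFe, hF⟩ := exists_normal_elementary_sq hr2 hRp (E := E.subgroupOf R)
      (PGroups.isMulCommutative_of_comm fun a ha b hb =>
        Subtype.ext (PGroups.comm_of_isMulCommutative hEc ha hb))
      (fun a ha => Subtype.ext (by simpa using hEe (a : G) ha))
      (by rw [Nat.card_congr (subgroupOfEquivOfLe hER).toEquiv, hE]
          exact Nat.pow_le_pow_right hr.out.pos (by norm_num))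
    set F' := F.map R.subtype with hF'
    have hF'R : F' ≤ R := map_subtype_le _
    have hF'card : Nat.card F' = r ^ 2 := by rw [hF', Cores.card_map_eq _ R.subtype_injective, hF]
    have hRF' : R ≤ normalizer (F' : Set G) := by
      rw [le_normalizer_iff]
      rintro a ha _ ⟨x, hx, rfl⟩
      exact ⟨⟨a, ha⟩ * x * ⟨a, ha⟩⁻¹, hFn.conj_mem x hx _, rfl⟩
    have hF'0 : F' ≠ ⊥ := fun h => by
      rw [h, card_eq_one.mpr rfl] at hF'card
      exact absurd hF'card.symm (ne_of_gt (Nat.one_lt_pow (by norm_num) hr.out.one_lt))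
    have hlt := Coprime.commutator_lt_of_isPGroup (hRp.to_le hF'R) hRp hRF' hF'0
    set C' := ⁅F', R⁆ with hC'
    obtain ⟨n, hn⟩ := IsPGroup.iff_card.mp ((hRp.to_le hF'R).to_le hlt.le)
    have hn1 : n ≤ 1 := by
      by_contra h
      exact hlt.ne (eq_of_le_of_card_ge hlt.le (by
        rw [hn, hF'card]; exact Nat.pow_le_pow_right hr.out.pos (by omega)))
    -- `[F, R] ≤ Z₀`
    have hCZ : C' ≤ Z₀ := by
      by_cases h0 : C' = ⊥
      · rw [h0]; exact bot_le
      have hRC' : R ≤ normalizer (C' : Set G) := H42.le_normalizer_commutator hRF' le_normalizer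
      have hlt2 := Coprime.commutator_lt_of_isPGroup ((hRp.to_le hF'R).to_le hlt.le) hRp hRC' h0
      have h2 : ⁅C', R⁆ = ⊥ := by
        obtain ⟨m, hm⟩ := IsPGroup.iff_card.mp (((hRp.to_le hF'R).to_le hlt.le).to_le hlt2.le)
        refine card_eq_one.mp ?_
        have hmn : m < n := by
          by_contra h
          exact hlt2.ne (eq_of_le_of_card_ge hlt2.le (by
            rw [hn, hm]; exact Nat.pow_le_pow_right hr.out.pos (not_lt.mp h)))
        rw [hm, show m = 0 by omega, pow_zero]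
      refine fun x hx => hOZ ⟨⟨hF'R (hlt.le hx), fun y hy => ?_⟩, ?_⟩
      · have h3 : ⁅x, y⁆ = 1 := mem_bot.mp (h2 ▸ commutator_mem_commutator hx hy)
        exact (commutatorElement_eq_one_iff_mul_comm.mp h3).symm
      · obtain ⟨f, hf, rfl⟩ := hlt.le hx
        rw [← map_pow, hFe f hf, map_one]
    have hFT : F' ≤ T := fun x hx => ⟨hF'R hx, by
      obtain ⟨f, hf, rfl⟩ := hx
      rw [← map_pow, hFe f hf, map_one], fun y hy => hCZ (commutator_mem_commutator hx hy)⟩
    have h4 := Nat.le_of_dvd Nat.card_pos (card_dvd_of_le (hFT.trans hTZ))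
    rw [hF'card, hZ₀, Nat.card_zpowers, hzo] at h4
    have := hr.out.one_lt
    nlinarith
  -- the generator `f`
  haveI hA₁c := S.hA₁c
  haveI : IsMulCommutative D := PGroups.isMulCommutative_of_comm fun a ha b hb =>
    PGroups.comm_of_isMulCommutative hA₁c (hDA ha) (hDA hb)
  have hDnc : ¬ IsCyclic D := by
    intro hcyc
    obtain ⟨g, hg⟩ := hcyc.exists_generator
    have h1 : orderOf g ∣ p := orderOf_dvd_of_pow_eq_one (Subtype.ext (by simpa using S.hA₁e g (hDA g.2)))
    rw [orderOf_eq_card_of_forall_mem_zpowers hg] at h1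
    have h2 := hD.trans (Nat.le_of_dvd hp.out.pos h1)
    have := hp.out.one_lt
    nlinarith
  have hDA' : D ≤ A := hDA.trans S.hA₁A
  have hDW : D ≤ W := hDA'.trans B.hAW
  have hDz : ∀ a ∈ D, a * z = z * a := fun a ha => hzD a ha
  have hDT : D ≤ normalizer (T : Set G) := by
    rw [le_normalizer_iff]
    intro a ha x hx
    have haR : a ∈ normalizer (R : Set G) := le_normalizer_fcomp r W (hDW ha)
    refine ⟨Coprime.conj_mem haR hx.1, by rw [conj_pow, hx.2.1, mul_one, mul_inv_cancel], fun y hy => ?_⟩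
    have hy' : a⁻¹ * y * a ∈ R := (mem_normalizer_iff''.1 haR y).1 hy
    have h1 : ⁅a * x * a⁻¹, y⁆ = a * ⁅x, a⁻¹ * y * a⁆ * a⁻¹ := by
      simp only [commutatorElement_def]; group
    obtain ⟨k, hk⟩ := mem_zpowers_iff.mp (hx.2.2 _ hy')
    rw [h1, ← hk, ((show Commute a z from hDz a ha).zpow_right k).eq, mul_inv_cancel_right]
    exact zpow_mem (mem_zpowers z) k
  have hcopT : (Nat.card D).Coprime (Nat.card T) :=
    ((S.coprime_card B.member_fcomp).coprime_dvd_left (card_dvd_of_le hDA')).coprime_dvd_right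
      (card_dvd_of_le hTR)
  obtain ⟨b, hb, hb1, hbT⟩ : ∃ b ∈ D, b ≠ 1 ∧ ¬ T ⊓ centralizer ({b} : Set G) ≤ Z₀ := by
    by_contra hcon
    push Not at hcon
    exact hT (Coprime.le_of_centralizer_noncyclic_le hDnc hDT hcopT hcon)
  obtain ⟨f, ⟨hfT, hfb⟩, hfZ⟩ := SetLike.not_le_iff_exists.mp hbT
  -- `F₁ = ⟨z, f⟩`
  set F₁ := Z₀ ⊔ zpowers f with hF₁
  have hfo : orderOf f = r := orderOf_eq_prime hfT.2.1 (fun h => hfZ (h ▸ one_mem _))
  have hF₁R : F₁ ≤ R := sup_le hZ₀R (zpowers_le.mpr hfT.1)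
  have hzf : ∀ a ∈ Z₀, ∀ c ∈ zpowers f, a * c = c * a :=
    fun a ha c hc => hZ₀c a ha c (zpowers_le.mpr hfT.1 hc)
  have hF₁card : Nat.card F₁ = r ^ 2 := by
    rw [hF₁, card_sup_of_commute _ _ hzf ?_, hZ₀, Nat.card_zpowers, Nat.card_zpowers, hzo, hfo, pow_two]
    haveI : Fact (Nat.card (zpowers f)).Prime := ⟨by rw [Nat.card_zpowers, hfo]; exact hr.out⟩
    rcases (Z₀.subgroupOf (zpowers f)).eq_bot_or_eq_top_of_prime_card with h0 | h0
    · rw [subgroupOf_eq_bot, disjoint_iff] at h0; exact h0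
    · exact absurd (subgroupOf_eq_top.1 h0 (mem_zpowers f)) hfZ
  have hF₁c : IsMulCommutative F₁ := by
    refine PGroups.isMulCommutative_of_comm fun a ha c hc => ?_
    have hn : zpowers f ≤ normalizer (Z₀ : Set G) := fun y hy =>
      centralizer_le_normalizer _ fun u hu => hzf u hu y hy
    obtain ⟨u, hu, v, hv, rfl⟩ := (Coprime.mem_sup_iff hn).1 ha
    obtain ⟨u', hu', v', hv', rfl⟩ := (Coprime.mem_sup_iff hn).1 hc
    obtain ⟨i, rfl⟩ := mem_zpowers_iff.mp hu
    obtain ⟨j, rfl⟩ := mem_zpowers_iff.mp hv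
    obtain ⟨i', rfl⟩ := mem_zpowers_iff.mp hu'
    obtain ⟨j', rfl⟩ := mem_zpowers_iff.mp hv'
    have hc0 : Commute z f := hzc f hfT.1
    exact (((Commute.refl z).zpow_zpow i i').mul_right (hc0.zpow_zpow i j')).mul_left
      ((hc0.symm.zpow_zpow j i').mul_right ((Commute.refl f).zpow_zpow j j'))
  have hF₁e : ∀ a ∈ F₁, a ^ r = 1 := by
    intro a ha
    have hn : zpowers f ≤ normalizer (Z₀ : Set G) := fun y hy =>
      centralizer_le_normalizer _ fun u hu => hzf u hu y hy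
    obtain ⟨u, hu, v, hv, rfl⟩ := (Coprime.mem_sup_iff hn).1 ha
    obtain ⟨i, rfl⟩ := mem_zpowers_iff.mp hu
    obtain ⟨j, rfl⟩ := mem_zpowers_iff.mp hv
    rw [(show Commute (z ^ i) (f ^ j) from hzf _ hu _ hv).mul_pow, ← zpow_natCast, ← zpow_mul,
      mul_comm, zpow_mul, zpow_natCast, hzO.2, one_zpow, one_mul, ← zpow_natCast, ← zpow_mul,
      mul_comm, zpow_mul, zpow_natCast, hfT.2.1, one_zpow]
  have hRF₁ : R ≤ normalizer (F₁ : Set G) := by
    rw [le_normalizer_iff]
    intro a ha x hx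
    have hsub : F₁ ≤ F₁.comap (MulAut.conj a).toMonoidHom := by
      refine sup_le (fun u hu => ?_) (zpowers_le.mpr ?_)
      · show a * u * a⁻¹ ∈ F₁
        rw [← hZ₀c u hu a ha, mul_inv_cancel_right]
        exact mem_sup_left hu
      · show a * f * a⁻¹ ∈ F₁
        have h1 : a * f * a⁻¹ = ⁅f, a⁆⁻¹ * f := by simp only [commutatorElement_def]; group
        rw [h1]
        exact mul_mem (mem_sup_left (inv_mem (hfT.2.2 a ha))) (mem_sup_right (mem_zpowers f))
    exact hsub hx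
  -- the centralizer in `R` of `F₁` has rank at least 3
  haveI : (F₁.subgroupOf R).Normal := (normal_subgroupOf_iff_le_normalizer hF₁R).mpr hRF₁
  have hidx := card_le_mul_inf_centralizer hRp (F₁.subgroupOf R)
    (by rw [Nat.card_congr (subgroupOfEquivOfLe hF₁R).toEquiv, hF₁card]) (E.subgroupOf R)
  have hEC : r ^ 2 ≤ Nat.card ↥(E ⊓ centralizer (F₁ : Set G)) := by
    have hmap : (E.subgroupOf R ⊓ centralizer (F₁.subgroupOf R : Set R)).map R.subtype ≤
        E ⊓ centralizer (F₁ : Set G) := by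
      rintro _ ⟨x, ⟨hx, hxc⟩, rfl⟩
      exact ⟨hx, fun y hy => congrArg Subtype.val (hxc ⟨y, hF₁R hy⟩ hy)⟩
    have h1 := Subgroup.card_le_of_le hmap
    rw [Cores.card_map_eq _ R.subtype_injective] at h1
    rw [Nat.card_congr (subgroupOfEquivOfLe hER).toEquiv, hE] at hidx
    refine Nat.le_trans ?_ h1
    exact Nat.le_of_mul_le_mul_left ((pow_succ' r 2).symm.le.trans hidx) hr.out.pos
  set E' := (E ⊓ centralizer (F₁ : Set G)) ⊔ F₁ with hE'
  have hnF : F₁ ≤ normalizer ((E ⊓ centralizer (F₁ : Set G) : Subgroup G) : Set G) :=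
    fun y hy => centralizer_le_normalizer _ fun u hu => (hu.2 y hy).symm
  have hE'c : IsMulCommutative E' := by
    refine PGroups.isMulCommutative_of_comm fun a ha c hc => ?_
    obtain ⟨u, hu, v, hv, rfl⟩ := (Coprime.mem_sup_iff hnF).1 ha
    obtain ⟨u', hu', v', hv', rfl⟩ := (Coprime.mem_sup_iff hnF).1 hc
    exact ((show Commute u u' from PGroups.comm_of_isMulCommutative hEc hu.1 hu'.1).mul_right
      (hu.2 v' hv').symm).mul_left ((show Commute v u' from hu'.2 v hv).mul_right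
      (PGroups.comm_of_isMulCommutative hF₁c hv hv'))
  have hE'e : ∀ a ∈ E', a ^ r = 1 := by
    intro a ha
    obtain ⟨u, hu, v, hv, rfl⟩ := (Coprime.mem_sup_iff hnF).1 ha
    rw [(show Commute u v from (hu.2 v hv).symm).mul_pow, hEe u hu.1, hF₁e v hv, one_mul]
  have hE'card : r ^ 3 ≤ Nat.card E' := by
    obtain ⟨m, hm⟩ := IsPGroup.iff_card.mp
      (fun x => ⟨1, Subtype.ext (by simpa using hE'e x x.2)⟩ : IsPGroup r E')
    rw [hm]
    refine Nat.pow_le_pow_right hr.out.pos ?_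
    by_contra h
    have h1 : Nat.card E' ≤ r ^ 2 := hm ▸ Nat.pow_le_pow_right hr.out.pos (by omega)
    have h2 : E ⊓ centralizer (F₁ : Set G) = E' := eq_of_le_of_card_ge le_sup_left (h1.trans hEC)
    have h3 : F₁ = E' := eq_of_le_of_card_ge le_sup_right (h1.trans hF₁card.ge)
    have h4 : F₁ ≤ E := h3.le.trans (h2.ge.trans inf_le_left)
    have h5 : E ≤ centralizer (F₁ : Set G) :=
      fun e he y hy => PGroups.comm_of_isMulCommutative hEc (h4 hy) he
    rw [inf_eq_left.mpr h5] at h2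
    rw [← h2, hE] at h1
    exact absurd h1 (not_le.mpr (Nat.pow_lt_pow_right hr.out.one_lt (by norm_num)))
  have hE'U : Cfsg.InUniqueMaximal E' := B.inUniqueMaximal_elementary hG hE'c hE'e hE'card
  have hF₁U : Cfsg.InUniqueMaximal F₁ := by
    refine Cfsg.Agent.S1399.result hG E' F₁ hE'U ?_ (not_rankLE hr.out le_rfl hF₁c hF₁e hF₁card.ge)
    exact fun y hy u hu => PGroups.comm_of_isMulCommutative hE'c hu (mem_sup_right hy)
  -- conclusion
  have hCb : centralizer ({b} : Set G) ≤ W := by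
    refine le_of_inUniqueMaximal hF₁U B.hW (hF₁R.trans (fcomp_le r W))
      (centralizer_singleton_ne_top hG S.hAtop (hDA' hb) hb1) (sup_le (zpowers_le.mpr ?_) (zpowers_le.mpr hfb))
    exact mem_centralizer_singleton_iff.mpr (hDz b hb).symm
  refine (piCoreOf_le _ _).trans (le_trans ?_ hCb)
  exact fun c hc => mem_centralizer_singleton_iff.mpr (hc b (hDA' hb)).symm

/-- All `r`-members lie in `W`. -/
theorem r_members_le {Q : Subgroup G} (hQ : IsPGroup r Q) (hAQ : A ≤ normalizer (Q : Set G)) :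
    Q ≤ W := by
  obtain ⟨Q₀, hQ₀, hle⟩ := exists_maxInvSubgroups_ge
    (ScnSetup.invSubgroups_of_isPGroup (A := A) (isPGroup_fcomp r W) B.A_le_normalizer)
  refine S.all_members_le B.hrp (B.transK_le S) hQ₀ ?_ hQ hAQ
  exact B.le_of_rank_three S.hG (ne_top_of_isPGroup S.hG.2 (isPGroup_of_invSubgroups hr.out hQ₀.1))
    B.hR hle (fcomp_le r W)

end BigMax

end Cfsg.Agent.H41
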