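import Cfsg.Agent.H41.SCNBig

/-!
With `O_r(W)` of rank at least 3, all `A`-invariant `s`-subgroups lie in `W`.
-/

set_option autoImplicit false

namespace Cfsg.Agent.H41

open Subgroup

variable {G : Type*} [Group G] [Finite G]

omit [Finite G] in
theorem normalizer_le_normalizer_fcomp [Finite G] (r : ℕ) (J : Subgroup G) :
    normalizer (J : Set G) ≤ normalizer (fcomp r J : Set G) := by
  intro a ha
  refine Coprime.mem_normalizer_of_map_conj (eq_of_le_of_card_ge (le_fcomp ?_ ?_ ((isPGroup_fcomp r J).map _))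
    (by rw [Coprime.card_map_conj]))
  · exact (Subgroup.map_mono (fcomp_le r J)).trans_eq (Coprime.map_conj_eq ha)
  · rw [le_normalizer_iff]
    rintro c hc _ ⟨x, hx, rfl⟩
    have hc' : a⁻¹ * c * a ∈ J := (mem_normalizer_iff''.1 ha c).1 hc
    refine ⟨(a⁻¹ * c * a) * x * (a⁻¹ * c * a)⁻¹, Coprime.conj_mem (le_normalizer_fcomp r J hc') hx, ?_⟩
    simp [mul_assoc]

theorem le_pCorePrime_of_normal {r : ℕ} {J N : Subgroup G} (hNJ : N ≤ J)
    (hn : J ≤ normalizer (N : Set G)) (hN : (Nat.card N).Coprime r) : N ≤ pCorePrime r J := by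
  haveI : (N.subgroupOf J).Normal := (normal_subgroupOf_iff_le_normalizer hNJ).2 hn
  refine (map_subgroupOf_eq_of_le hNJ).ge.trans (Subgroup.map_mono (Cores.le_pPrimeCore ?_))
  rwa [Nat.card_congr (subgroupOfEquivOfLe hNJ).toEquiv]

theorem normalizer_le_normalizer_pCorePrime (r : ℕ) [Fact r.Prime] (J : Subgroup G) :
    normalizer (J : Set G) ≤ normalizer (pCorePrime r J : Set G) := by
  intro a ha
  refine Coprime.mem_normalizer_of_map_conj (eq_of_le_of_card_ge (le_pCorePrime_of_normal ?_ ?_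
    (by rw [Coprime.card_map_conj]; exact coprime_pCorePrime J)) (by rw [Coprime.card_map_conj]))
  · exact (Subgroup.map_mono (pCorePrime_le J)).trans_eq (Coprime.map_conj_eq ha)
  · rw [le_normalizer_iff]
    rintro c hc _ ⟨x, hx, rfl⟩
    have hc' : a⁻¹ * c * a ∈ J := (mem_normalizer_iff''.1 ha c).1 hc
    refine ⟨(a⁻¹ * c * a) * x * (a⁻¹ * c * a)⁻¹,
      Coprime.conj_mem (le_normalizer_pCorePrime J hc') hx, ?_⟩
    simp [mul_assoc]

/-- A normalizing `p`-group not contained in `X` yields a normalizer element outside. -/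
theorem exists_mem_inf_normalizer_notMem {r : ℕ} [Fact r.Prime] {R X : Subgroup G} (hR : IsPGroup r R)
    (hX : IsPGroup r X) (hn : X ≤ normalizer (R : Set G)) (h : ¬ R ≤ X) :
    ∃ ρ ∈ R, ρ ∈ normalizer (X : Set G) ∧ ρ ∉ X := by
  have hRX : IsPGroup r ↥(R ⊔ X) := hR.to_sup_of_normal_left' hX hn
  obtain ⟨x, hx, hxn, hxN⟩ := exists_mem_notMem_normalizer' hRX (right_lt_sup.mpr h)
  obtain ⟨ρ, hρ, t, ht, rfl⟩ := (Coprime.mem_sup_iff hn).1 hx
  refine ⟨ρ, hρ, ?_, fun hρX => hxn (mul_mem hρX ht)⟩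
  have h1 := mul_mem hxN (inv_mem (le_normalizer ht))
  rwa [mul_inv_cancel_right] at h1

variable {p : ℕ} [hp : Fact p.Prime] {P : Sylow p G} {A A₁ : Subgroup G}

namespace BigMax

variable {r : ℕ} [hr : Fact r.Prime] {W : Subgroup G} (B : BigMax p A r W)
  (S : ScnSetup p P A A₁)
include B S

/-- The core of the argument: the fixed points in `O_r(W)` of a subgroup of order `p ^ 2` normalize a
maximal `s`-member, if none of those lies in `W`. -/
theorem exists_normalized {s : ℕ} [hs : Fact s.Prime] (hsp : s ≠ p) (hsr : s ≠ r)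
    (hcase : r < s ∨ ∀ W₂, IsCoatom W₂ → A ≤ W₂ → W₂ ≠ W → SmallFit W₂)
    {Q₀ : Subgroup G} (hQ₀ : Q₀ ∈ Cfsg.maxInvSubgroups ⊤ A {s}) (hQ₀W : ¬ Q₀ ≤ W)
    {H : Subgroup G} (hHA : H ≤ A₁) (hH : Nat.card H = p ^ 2)
    (hL : fcomp r W ⊓ centralizer (H : Set G) ≠ ⊥) :
    ∃ Q ∈ Cfsg.maxInvSubgroups ⊤ A {s},
      fcomp r W ⊓ centralizer (H : Set G) ≤ normalizer (Q : Set G) := by
  classical
  have hG := S.hG
  have hr2 : r ≠ 2 := B.r_ne_two hG.1
  set R := fcomp r W with hRdef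
  have hRp : IsPGroup r R := isPGroup_fcomp r W
  set L := R ⊓ centralizer (H : Set G) with hLdef
  have hLR : L ≤ R := inf_le_left
  have hHA' : H ≤ A := hHA.trans S.hA₁A
  haveI hHc : IsMulCommutative H := PGroups.isMulCommutative_of_comm fun a ha b hb =>
    PGroups.comm_of_isMulCommutative S.hAc (hHA' ha) (hHA' hb)
  have hAH : A ≤ centralizer (H : Set G) := fun a ha b hb =>
    PGroups.comm_of_isMulCommutative S.hAc (hHA' hb) ha
  have hAL : A ≤ normalizer (L : Set G) :=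
    le_normalizer_inf B.A_le_normalizer (hAH.trans le_normalizer)
  have hQ₀p : IsPGroup s Q₀ := isPGroup_of_invSubgroups hs.out hQ₀.1
  have hQ₀m : Member p A Q₀ := ScnSetup.member_of_isPGroup hsp hQ₀p hQ₀.1.2.2
  have hKW : transK A ≤ W := B.transK_le S
  obtain ⟨d, hd, hd1, hdQ⟩ : ∃ d ∈ H, d ≠ 1 ∧ ¬ Q₀ ⊓ centralizer ({d} : Set G) ≤ W := by
    by_contra hcon
    push Not at hcon
    exact hQ₀W (Coprime.le_of_centralizer_noncyclic_le
      (not_isCyclic_of_card_sq hH fun b hb => S.hA₁e b (hHA hb)) (hHA'.trans hQ₀m.2)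
      ((S.coprime_card hQ₀m).coprime_dvd_left (card_dvd_of_le hHA')) hcon)
  set π : Set ℕ := {r, s} with hπ
  have hrπ : r ∈ π := Or.inl rfl
  -- the maximal `{r, s}`-member
  let 𝒥 : Set (Subgroup G) :=
    {J | Member p A J ∧ Hall.IsPiNumber π (Nat.card J) ∧ L ≤ J ∧ ¬ J ≤ W}
  have hCd : centralizer ({d} : Set G) ≠ ⊤ := centralizer_singleton_ne_top hG S.hAtop (hHA' hd) hd1
  have hACd : A ≤ centralizer ({d} : Set G) := fun a ha =>
    mem_centralizer_singleton_iff.mpr (hAH ha d hd).symm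
  have h𝒥ne : 𝒥.Nonempty := by
    set Z := pCorePrime p (centralizer ({d} : Set G)) with hZdef
    have hZm : Member p A Z := ScnSetup.member_core hACd
    have hAQd : A ≤ normalizer ((Q₀ ⊓ centralizer ({d} : Set G) : Subgroup G) : Set G) :=
      le_normalizer_inf hQ₀m.2 (hACd.trans le_normalizer)
    have hLZ : L ≤ Z := S.member_le_core hCd hACd (ScnSetup.member_of_le B.member_fcomp hLR hAL)
      fun x hx => mem_centralizer_singleton_iff.mpr (hx.2 d hd).symm
    have hQZ : Q₀ ⊓ centralizer ({d} : Set G) ≤ Z :=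
      S.member_le_core hCd hACd (ScnSetup.member_of_le hQ₀m inf_le_left hAQd) inf_le_right
    have hpiL : Hall.IsPiNumber π (Nat.card L) := fun q hq hd' => by
      obtain ⟨n, hn⟩ := IsPGroup.iff_card.mp (hRp.to_le hLR)
      rw [hn] at hd'
      exact Or.inl ((Nat.prime_dvd_prime_iff_eq hq hr.out).mp (hq.dvd_of_dvd_pow hd'))
    have hpiQ : Hall.IsPiNumber π (Nat.card ↥(Q₀ ⊓ centralizer ({d} : Set G))) := fun q hq hd' => by
      obtain ⟨n, hn⟩ := IsPGroup.iff_card.mp (hQ₀p.to_le (inf_le_left :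
        Q₀ ⊓ centralizer ({d} : Set G) ≤ Q₀))
      rw [hn] at hd'
      exact Or.inr ((Nat.prime_dvd_prime_iff_eq hq hs.out).mp (hq.dvd_of_dvd_pow hd'))
    obtain ⟨J₀, hJ₀, hAJ₀, hLJ₀⟩ :=
      Coprime.exists_invariant_hall_ge hZm.2 (S.coprime_card hZm) (S.solvable hZm) hLZ hAL hpiL
    obtain ⟨J₁, hJ₁, hAJ₁, hQJ₁⟩ :=
      Coprime.exists_invariant_hall_ge hZm.2 (S.coprime_card hZm) (S.solvable hZm) hQZ hAQd hpiQ
    refine ⟨J₀, ScnSetup.member_of_le hZm hJ₀.1 hAJ₀, hJ₀.2.1, hLJ₀, fun hJW => hdQ ?_⟩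
    obtain ⟨c, hc, hc'⟩ := Coprime.exists_centralizer_conj_hall hZm.2 (S.coprime_card hZm)
      (S.solvable hZm) hJ₀ hAJ₀ hJ₁ hAJ₁
    have hcW : c ∈ W := hKW (S.mem_transK hZm hc.1 hc.2)
    refine hQJ₁.trans (hc' ▸ ?_)
    rintro _ ⟨x, hx, rfl⟩
    exact W.mul_mem (W.mul_mem hcW (hJW hx)) (W.inv_mem hcW)
  obtain ⟨J, ⟨hJm, hJπ, hLJ, hJW⟩, hmax⟩ := Set.exists_max_image 𝒥
    (fun J => rpart r J * (Nat.card G + 1) + Nat.card J) (Set.toFinite _) h𝒥ne
  have hrmax : ∀ J' ∈ 𝒥, rpart r J' ≤ rpart r J := by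
    intro J' hJ'
    have h1 := hmax J' hJ'
    by_contra h
    have h2 := Nat.mul_le_mul_right (Nat.card G + 1) (Nat.succ_le_of_lt (not_le.mp h))
    have h3 := Subgroup.card_le_card_group J
    rw [Nat.succ_mul] at h2
    omega
  -- `J` is a Hall subgroup of each member containing it
  have hhall : ∀ Z : Subgroup G, Member p A Z → J ≤ Z → Cfsg.IsPiHallOf π J Z := by
    intro Z hZ hJZ
    obtain ⟨J', hJ', hAJ', hJJ'⟩ :=
      Coprime.exists_invariant_hall_ge hZ.2 (S.coprime_card hZ) (S.solvable hZ) hJZ hJm.2 hJπ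
    have hJ'mem : J' ∈ 𝒥 :=
      ⟨ScnSetup.member_of_le hZ hJ'.1 hAJ', hJ'.2.1, hLJ.trans hJJ', fun h => hJW (hJJ'.trans h)⟩
    have h1 := hmax J' hJ'mem
    have h2 : rpart r J ≤ rpart r J' := Nat.pow_le_pow_right hr.out.pos
      ((Nat.factorization_le_iff_dvd Nat.card_pos.ne' Nat.card_pos.ne').mpr (card_dvd_of_le hJJ') r)
    have h3 : Nat.card J' ≤ Nat.card J := by
      have h4 := hrmax J' hJ'mem
      have h5 : rpart r J' = rpart r J := le_antisymm h4 h2
      simp only [h5] at h1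
      omega
    exact (eq_of_le_of_card_ge hJJ' h3).symm ▸ hJ'
  have hJtop : J ≠ ⊤ := S.member_ne_top hJm
  haveI hJsol : Group.IsSolvable J := S.solvable hJm
  -- the invariant Sylow `r`-subgroup
  obtain ⟨T₀, hLT, hAT⟩ := Coprime.exists_invariant_sylow_ge hJm.2 (S.coprime_card hJm)
    (Or.inr hJsol) r hLJ (hRp.to_le hLR) hAL
  set T := (T₀ : Subgroup J).map J.subtype with hTdef
  have hTp : IsPGroup r T := T₀.isPGroup'.map _
  have hTJ : T ≤ J := map_subtype_le _
  have hTcard : Nat.card T = rpart r J := card_sylow_map T₀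
  have hTW : T ≤ W := B.r_members_le S hTp hAT
  have hTR : T ≤ normalizer (R : Set G) := hTW.trans (le_normalizer_fcomp r W)
  have hT2 : Cfsg.PRankLE r 2 T := by
    by_contra h
    exact hJW (B.le_of_rank_three hG hJtop h hTJ hTW)
  have hT0 : T ≠ ⊥ := ne_bot_of_le_ne_bot hL hLT
  have hRT : ¬ R ≤ T := fun h => B.hR (pRankLE_mono hT2 h)
  have hTsyl : ∀ X : Subgroup G, IsPGroup r X → T ≤ X → X ≤ J → X = T := fun X hX hTX hXJ =>
    (eq_of_le_of_card_ge hTX (by rw [hTcard]; exact le_rpart hX (card_dvd_of_le hXJ))).symm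
  -- `S₁ = O_{r'}(J)`
  set S₁ := pCorePrime r J with hS₁def
  have hS₁J : S₁ ≤ J := pCorePrime_le J
  have hS₁s : IsPGroup s S₁ := by
    refine (Cores.isPGroup_iff_isPiNumber hs.out).2 fun q hq hd' => ?_
    rcases hJπ q hq (hd'.trans (card_dvd_of_le hS₁J)) with rfl | h
    · exact absurd (Nat.eq_one_of_dvd_coprimes (coprime_pCorePrime (p := q) J) hd' dvd_rfl) hq.ne_one
    · exact h
  have hAS₁ : A ≤ normalizer (S₁ : Set G) := hJm.2.trans (normalizer_le_normalizer_pCorePrime r J)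
  have hS₁m : Member p A S₁ := ScnSetup.member_of_le hJm hS₁J hAS₁
  -- factorization
  have hfac : J ≤ S₁ ⊔ (J ⊓ normalizer (T : Set G)) := by
    have h := congrArg (Subgroup.map J.subtype) (sup_normalizer_sylow_eq_top hr2
      (hG.1.of_dvd_nat (card_subgroup_dvd_card J)) T₀ fun E hE _ hEc hEe => by
        have h1 := hT2 ((E.map J.subtype).subgroupOf T) (PGroups.isMulCommutative_of_comm fun a ha b hb => by
            obtain ⟨a', ha', hae⟩ := ha
            obtain ⟨b', hb', hbe⟩ := hb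
            change J.subtype a' = (a : G) at hae
            change J.subtype b' = (b : G) at hbe
            refine Subtype.ext ?_
            show (a : G) * b = b * a
            rw [← hae, ← hbe, ← map_mul, ← map_mul, PGroups.comm_of_isMulCommutative hEc ha' hb'])
          (fun a ha => by
            obtain ⟨a', ha', hae⟩ := ha
            change J.subtype a' = (a : G) at hae
            refine Subtype.ext ?_
            rw [SubmonoidClass.coe_pow, ← hae, ← map_pow, hEe a' ha', map_one, OneMemClass.coe_one])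
        rw [Nat.card_congr (subgroupOfEquivOfLe (Subgroup.map_mono hE)).toEquiv,
          Cores.card_map_eq _ J.subtype_injective] at h1
        exact lt_of_le_of_lt h1 (Nat.pow_lt_pow_right hr.out.one_lt (by norm_num)))
    rw [Subgroup.map_sup, ← MonoidHom.range_eq_map, range_subtype] at h
    refine h.ge.trans (sup_le le_sup_left (le_trans ?_ le_sup_right))
    exact le_inf (map_subtype_le _) (le_normalizer_map _)
  -- `N_J(T) ≤ W`
  have hATN : A ≤ normalizer (T : Set G) := hAT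
  have hTNtop : normalizer (T : Set G) ≠ ⊤ := normalizer_ne_top hG.2 hT0 (fun h => hJtop (top_le_iff.mp (h ▸ hTJ)))
  have hY₀W : J ⊓ normalizer (T : Set G) ≤ W := by
    by_contra hY₀
    set Z := pCorePrime p (normalizer (T : Set G)) with hZdef
    have hZm : Member p A Z := ScnSetup.member_core hATN
    have hAY₀ : A ≤ normalizer ((J ⊓ normalizer (T : Set G) : Subgroup G) : Set G) :=
      le_normalizer_inf hJm.2 (hATN.trans le_normalizer)
    have hY₀Z : J ⊓ normalizer (T : Set G) ≤ Z :=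
      S.member_le_core hTNtop hATN (ScnSetup.member_of_le hJm inf_le_left hAY₀) inf_le_right
    obtain ⟨J', hJ', hAJ', hY₀J'⟩ := Coprime.exists_invariant_hall_ge hZm.2 (S.coprime_card hZm)
      (S.solvable hZm) hY₀Z hAY₀ (fun q hq hd' => hJπ q hq (hd'.trans (card_dvd_of_le inf_le_left)))
    have hJ'mem : J' ∈ 𝒥 := ⟨ScnSetup.member_of_le hZm hJ'.1 hAJ', hJ'.2.1,
      (hLT.trans (le_inf hTJ le_normalizer)).trans hY₀J', fun h => hY₀ (hY₀J'.trans h)⟩
    obtain ⟨ρ, hρ, hρN, hρT⟩ := exists_mem_inf_normalizer_notMem hRp hTp hTR hRT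
    set V := R ⊓ normalizer (T : Set G) with hVdef
    have hAV : A ≤ normalizer (V : Set G) :=
      le_normalizer_inf B.A_le_normalizer (hATN.trans le_normalizer)
    have hVZ : V ≤ Z :=
      S.member_le_core hTNtop hATN (ScnSetup.member_of_le B.member_fcomp inf_le_left hAV) inf_le_right
    have hTZ : T ≤ Z := (le_inf hTJ le_normalizer).trans hY₀Z
    have hTVp : IsPGroup r ↥(T ⊔ V) :=
      hTp.to_sup_of_normal_left' (hRp.to_le inf_le_left) (inf_le_right : V ≤ normalizer (T : Set G))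
    have h1 := le_rpart_of_isPiHallOf hJ' (sup_le hTZ hVZ) hrπ hTVp
    have h2 : Nat.card T < Nat.card ↥(T ⊔ V) := by
      refine lt_of_le_of_ne (Subgroup.card_le_of_le le_sup_left) fun h => hρT ?_
      rw [eq_of_le_of_card_ge (le_sup_left : T ≤ T ⊔ V) h.ge]
      exact mem_sup_right ⟨hρ, hρN⟩
    exact absurd (hrmax J' hJ'mem) (not_le.mpr (hTcard ▸ lt_of_lt_of_le h2 h1))
  have hY₀R : J ⊓ normalizer (T : Set G) ≤ normalizer (R : Set G) :=
    hY₀W.trans (le_normalizer_fcomp r W)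
  -- `U = R ∩ T` does not centralize `S₁`
  set U := R ⊓ T with hUdef
  have hUc : ¬ U ≤ centralizer (S₁ : Set G) := by
    intro hUS
    have hJU : J ≤ normalizer (U : Set G) := hfac.trans (sup_le
      ((le_centralizer_iff.mp hUS).trans (centralizer_le_normalizer U))
      (le_normalizer_inf hY₀R (inf_le_right : J ⊓ normalizer (T : Set G) ≤ normalizer (T : Set G))))
    set T₁ := fcomp r J with hT₁def
    have hUT₁ : U ≤ T₁ := le_fcomp (inf_le_right.trans hTJ) hJU (hRp.to_le inf_le_left)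
    have hT₁0 : T₁ ≠ ⊥ := ne_bot_of_le_ne_bot (ne_bot_of_le_ne_bot hL (le_inf hLR hLT)) hUT₁
    have hT₁T : T₁ ≤ T := Subgroup.map_mono (Cores.pCore_le_sylow T₀)
    have hN₁ : normalizer (T₁ : Set G) ≠ ⊤ :=
      normalizer_ne_top hG.2 hT₁0 (fun h => hJtop (top_le_iff.mp (h ▸ fcomp_le r J)))
    have hAN₁ : A ≤ normalizer (T₁ : Set G) := hJm.2.trans (normalizer_le_normalizer_fcomp r J)
    set Z := pCorePrime p (normalizer (T₁ : Set G)) with hZdef
    have hZm : Member p A Z := ScnSetup.member_core hAN₁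
    have hJZ : J ≤ Z := S.member_le_core hN₁ hAN₁ hJm (le_normalizer_fcomp r J)
    have hH := hhall Z hZm hJZ
    have hTZcard : Nat.card T = rpart r Z := by
      refine le_antisymm (le_rpart hTp (card_dvd_of_le (hTJ.trans hJZ))) ?_
      obtain ⟨PZ⟩ : Nonempty (Sylow r Z) := inferInstance
      rw [← card_sylow_map PZ, hTcard]
      exact le_rpart_of_isPiHallOf hH (map_subtype_le _) hrπ (PZ.isPGroup'.map _)
    let TZ : Sylow r Z := Sylow.ofCard (T.subgroupOf Z) (by
      rw [Nat.card_congr (subgroupOfEquivOfLe (hTJ.trans hJZ)).toEquiv, hTZcard, rpart])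
    have hTZ : (TZ : Subgroup Z).map Z.subtype = T := by
      rw [Sylow.coe_ofCard, map_subgroupOf_eq_of_le (hTJ.trans hJZ)]
    set V := R ⊓ normalizer (T₁ : Set G) with hVdef
    have hAV : A ≤ normalizer (V : Set G) :=
      le_normalizer_inf B.A_le_normalizer (hAN₁.trans le_normalizer)
    have hVZ : V ≤ Z :=
      S.member_le_core hN₁ hAN₁ (ScnSetup.member_of_le B.member_fcomp inf_le_left hAV) inf_le_right
    obtain ⟨PV, hVP, hAPV⟩ := Coprime.exists_invariant_sylow_ge hZm.2 (S.coprime_card hZm)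
      (Or.inr (S.solvable hZm)) r hVZ (hRp.to_le inf_le_left) hAV
    obtain ⟨c, hc, hcP⟩ := Coprime.exists_conj_invariant_sylow hZm.2 (S.coprime_card hZm)
      (Or.inr (S.solvable hZm)) r PV TZ hAPV (hTZ.symm ▸ hAT)
    have hcW : (c : G) ∈ W := hKW (S.mem_transK hZm c.2 hc)
    have hcV : (c : G) ∈ normalizer (V : Set G) := by
      refine (le_normalizer_inf (X := R) (Y := normalizer (T₁ : Set G))
        (Z := zpowers (c : G)) ?_ ?_) (mem_zpowers _)
      · exact zpowers_le.mpr (le_normalizer_fcomp r W hcW)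
      · exact zpowers_le.mpr (le_normalizer (pCorePrime_le _ c.2))
    have hVT : V ≤ T := by
      have h1 : ((PV : Subgroup Z).map Z.subtype).map (MulAut.conj (c : G)).toMonoidHom = T := by
        rw [← hTZ, ← hcP]
        show _ = ((PV : Subgroup Z).map (MulAut.conj c).toMonoidHom).map Z.subtype
        rw [Subgroup.map_map, Subgroup.map_map]
        rfl
      rw [← h1]
      exact (Coprime.map_conj_eq hcV).ge.trans (Subgroup.map_mono hVP)
    have hT₁R : T₁ ≤ normalizer (R : Set G) := hT₁T.trans hTR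
    obtain ⟨ρ, hρ, hρN, hρT₁⟩ := exists_mem_inf_normalizer_notMem hRp (isPGroup_fcomp r J) hT₁R
      (fun h => hRT (h.trans hT₁T))
    exact hρT₁ (hUT₁ ⟨hρ, hVT ⟨hρ, hρN⟩⟩)
  -- the `s`-elements of `N_J(T)` lie in `S₁`
  have hin : ∀ y ∈ J, y ∈ centralizer (T : Set G) → IsPGroup s (zpowers y) → y ∈ S₁ := by
    intro y hy hyc hys
    refine (le_pCorePrime hr2 hTJ hTp (fun x hx hxc hxr => ?_) (zpowers_le.mpr hy)
      (coprime_card_of_isPGroup hsr hys) ?_) (mem_zpowers y)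
    · have h1 := hTsyl _ (hxr.to_sup_of_normal_right' hTp
        (zpowers_le.mpr (centralizer_le_normalizer T hxc))) le_sup_right (sup_le (zpowers_le.mpr hx) hTJ)
      exact h1 ▸ mem_sup_left (mem_zpowers x)
    · exact (le_centralizer_iff.mp (zpowers_le.mpr hyc)).trans (centralizer_le_normalizer _)
  have hsy : ∀ y ∈ J ⊓ normalizer (T : Set G), IsPGroup s (zpowers y) → y ∈ S₁ := by
    intro y hy hys
    by_contra hyS
    have hsr' : s < r := lt_of_action hr2 hsr hTp hT2 hys (zpowers_le.mpr hy.2)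
      fun h => hyS (hin y hy.1 (h (mem_zpowers y)) hys)
    have hS₁0 : S₁ ≠ ⊥ := fun h => hUc (by
      rw [h]; intro u _ z hz
      rw [mem_bot.mp hz, one_mul, mul_one])
    have hS₁top : S₁ ≠ ⊤ := fun h => hJtop (top_le_iff.mp (h ▸ hS₁J))
    obtain ⟨W₂, hW₂, hNW₂⟩ :=
      (eq_top_or_exists_le_coatom _).resolve_left (normalizer_ne_top hG.2 hS₁0 hS₁top)
    have hJW₂ : J ≤ W₂ := (le_normalizer_pCorePrime J).trans hNW₂
    have hsmall : SmallFit W₂ := (hcase.resolve_left (not_lt.mpr hsr'.le)) W₂ hW₂ (hAS₁.trans hNW₂)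
      fun e => hJW (e ▸ hJW₂)
    haveI : Group.IsSolvable W₂ := isSolvable_of_ne_top hG.2 hW₂.1
    have hUJ : U ≤ J := inf_le_right.trans hTJ
    have hUn : U ≤ normalizer (S₁ : Set G) := hUJ.trans (le_normalizer_pCorePrime J)
    have hC : ⁅S₁, U⁆ ≤ S₁ := Coprime.commutator_le_left_of_normalizer hUn
    have hCF : ⁅S₁, U⁆ ≤ fcomp s W₂ := le_fcomp_of_small hG.1 hsmall
      (commutator_mono (hS₁J.trans hJW₂) (hUJ.trans hJW₂)) (hS₁s.to_le hC)
    refine absurd hsr' (not_lt.mpr (le_of_lt ?_))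
    have hFs : fcomp s W₂ ≠ ⊥ := by
      intro h0
      rw [h0, le_bot_iff, commutator_comm, commutator_eq_bot_iff_le_centralizer] at hCF
      exact hUc hCF
    refine lt_of_action (pne2_of_card_dvd hG.1 ((prime_dvd_card_fcomp hFs).trans (card_subgroup_dvd_card _)))
      (Ne.symm hsr) (isPGroup_fcomp s W₂) (hsmall s hs.out) (hRp.to_le (inf_le_left : U ≤ R))
      ((hUJ.trans hJW₂).trans (le_normalizer_fcomp s W₂)) fun h => hUc ?_
    exact Coprime.le_centralizer_of_commutator_le hUn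
      (Nat.coprime_comm.mp (by
        obtain ⟨n, hn⟩ := IsPGroup.iff_card.mp (hRp.to_le (inf_le_left : U ≤ R))
        rw [hn]
        exact ((coprime_card_of_isPGroup hsr hS₁s)).pow_right n)) hCF h
  -- `S₁` is a Sylow `s`-subgroup of `J`
  have hJST : J ≤ S₁ ⊔ T := by
    refine hfac.trans (sup_le le_sup_left (Coprime.le_of_exists_sylow_le fun q hq => ?_))
    haveI := Fact.mk hq
    obtain ⟨Q⟩ : Nonempty (Sylow q ↥(J ⊓ normalizer (T : Set G))) := inferInstance
    refine ⟨Q, ?_⟩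
    set Q' := (Q : Subgroup ↥(J ⊓ normalizer (T : Set G))).map (Subgroup.subtype _) with hQ'
    have hQ'le : Q' ≤ J ⊓ normalizer (T : Set G) := map_subtype_le _
    have hQ'p : IsPGroup q Q' := Q.isPGroup'.map _
    intro y hy
    by_cases hy1 : y = 1
    · rw [hy1]; exact one_mem _
    have hyq : IsPGroup q (zpowers y) := hQ'p.to_le (zpowers_le.mpr hy)
    have hqJ : q ∣ Nat.card J := by
      obtain ⟨n, hn⟩ := IsPGroup.iff_card.mp hQ'p
      refine (dvd_pow_self q fun h => hy1 (mem_bot.mp ?_)).trans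
        (hn ▸ card_dvd_of_le (hQ'le.trans inf_le_left))
      have h1 : Q' = ⊥ := card_eq_one.mp (by rw [hn, h, pow_zero])
      exact h1 ▸ hy
    rcases hJπ q hq hqJ with rfl | h
    · have h1 := hTsyl _ (hQ'p.to_sup_of_normal_right' hTp (hQ'le.trans inf_le_right)) le_sup_right
        (sup_le (hQ'le.trans inf_le_left) hTJ)
      exact mem_sup_right (h1 ▸ mem_sup_left hy)
    · obtain rfl : q = s := h
      exact mem_sup_left (hsy y (hQ'le hy) hyq)
  -- a maximal member equal to `S₁`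
  obtain ⟨Q, hQ, hS₁Q⟩ := exists_maxInvSubgroups_ge (ScnSetup.invSubgroups_of_isPGroup (A := A) hS₁s hAS₁)
  have hQp : IsPGroup s Q := isPGroup_of_invSubgroups hs.out hQ.1
  refine ⟨Q, hQ, ?_⟩
  suffices hQS : Q = S₁ by rw [hQS]; exact hLJ.trans (le_normalizer_pCorePrime J)
  by_contra hne
  obtain ⟨x, hx, hxn, hxN⟩ := exists_mem_notMem_normalizer' hQp (lt_of_le_of_ne hS₁Q (Ne.symm hne))
  have hS₁0 : S₁ ≠ ⊥ := fun h => hUc (by
    rw [h]; intro u _ z hz
    rw [mem_bot.mp hz, one_mul, mul_one])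
  have hN₂ : normalizer (S₁ : Set G) ≠ ⊤ :=
    normalizer_ne_top hG.2 hS₁0 (fun h => hJtop (top_le_iff.mp (h ▸ hS₁J)))
  set Z := pCorePrime p (normalizer (S₁ : Set G)) with hZdef
  have hZm : Member p A Z := ScnSetup.member_core hAS₁
  have hJZ : J ≤ Z := S.member_le_core hN₂ hAS₁ hJm (le_normalizer_pCorePrime J)
  have hVZ : Q ⊓ normalizer (S₁ : Set G) ≤ Z := by
    refine S.member_le_core hN₂ hAS₁ (ScnSetup.member_of_le (ScnSetup.member_of_isPGroup hsp hQp hQ.1.2.2)
      inf_le_left ?_) inf_le_right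
    exact le_normalizer_inf hQ.1.2.2 (hAS₁.trans le_normalizer)
  have hVp : IsPGroup s ↥(Q ⊓ normalizer (S₁ : Set G)) := hQp.to_le inf_le_left
  have hV := card_dvd_of_isPiHallOf (hhall Z hZm hJZ) hVZ (Or.inr rfl) hVp
  have hsup : Nat.card J ∣ Nat.card S₁ * Nat.card T := by
    have hd : S₁ ⊓ T = ⊥ := by
      refine (inf_comm _ _).trans (Cores.disjoint_of_isPGroup_of_coprime hTp ?_)
      exact coprime_pCorePrime J
    rw [← Coprime.card_sup (hTJ.trans (le_normalizer_pCorePrime J)) hd]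
    exact card_dvd_of_le hJST
  have hV2 : Nat.card ↥(Q ⊓ normalizer (S₁ : Set G)) ∣ Nat.card S₁ := by
    refine (Nat.Coprime.dvd_of_dvd_mul_right ?_ (hV.trans hsup))
    obtain ⟨n, hn⟩ := IsPGroup.iff_card.mp hVp
    rw [hn]
    exact Nat.Coprime.pow_left n (Nat.coprime_comm.mp (coprime_card_of_isPGroup (Ne.symm hsr) hTp))
  have heq := eq_of_le_of_card_ge (le_inf hS₁Q le_normalizer)
    (Nat.le_of_dvd Nat.card_pos hV2)
  exact hxn (heq ▸ ⟨hx, hxN⟩)

/-- All `s`-members lie in `W`. -/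
theorem s_members_le {s : ℕ} [hs : Fact s.Prime] (hsp : s ≠ p) (hsr : s ≠ r)
    (hcase : r < s ∨ ∀ W₂, IsCoatom W₂ → A ≤ W₂ → W₂ ≠ W → SmallFit W₂)
    {Q : Subgroup G} (hQ : IsPGroup s Q) (hAQ : A ≤ normalizer (Q : Set G)) : Q ≤ W := by
  have hG := S.hG
  have hKW : transK A ≤ W := B.transK_le S
  obtain ⟨Q₀, hQ₀, -⟩ := exists_maxInvSubgroups_ge (ScnSetup.invSubgroups_of_isPGroup (A := A) hQ hAQ)
  suffices hQ₀W : Q₀ ≤ W from S.all_members_le hsp hKW hQ₀ hQ₀W hQ hAQ
  by_contra hQ₀W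
  have hQ₀p : IsPGroup s Q₀ := isPGroup_of_invSubgroups hs.out hQ₀.1
  have hQ₀0 : Q₀ ≠ ⊥ := fun h => hQ₀W (h ▸ bot_le)
  set R := fcomp r W with hRdef
  have hR : R ≤ normalizer (Q₀ : Set G) := by
    refine S.le_of_large_fixed B.member_fcomp fun D hDA hD => ?_
    obtain ⟨H, hHD, hH⟩ := exists_le_card_eq (p := p) (k := 2) (fun b hb => S.hA₁e b (hDA hb)) hD
    refine le_trans (inf_le_inf_left _ (centralizer_le hHD)) ?_
    by_cases hL : R ⊓ centralizer (H : Set G) = ⊥
    · exact hL.le.trans bot_le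
    obtain ⟨Q₁, hQ₁, hLQ⟩ := B.exists_normalized S hsp hsr hcase hQ₀ hQ₀W (hHD.trans hDA) hH hL
    obtain ⟨k, hk, hkeq⟩ := S.transitive hs.out hsp Q₁ hQ₁ Q₀ hQ₀
    intro l hl
    have hkC := piCoreOf_le _ _ hk
    have hkN : k⁻¹ ∈ normalizer ((R ⊓ centralizer (H : Set G) : Subgroup G) : Set G) := by
      refine inv_mem ((le_normalizer_inf (Z := zpowers k) ?_ ?_) (mem_zpowers k))
      · exact zpowers_le.mpr (le_normalizer_fcomp r W (hKW hk))
      · exact zpowers_le.mpr (le_normalizer (centralizer_le ((hHD.trans hDA).trans S.hA₁A) hkC))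
    have h1 : k⁻¹ * l * k ∈ normalizer (Q₁ : Set G) := by
      have h2 := Coprime.conj_mem hkN hl
      rw [inv_inv] at h2
      exact hLQ h2
    rw [hkeq]
    refine Coprime.mem_normalizer_of_map_conj ?_
    rw [Coprime.map_conj_map_conj, show l * k = k * (k⁻¹ * l * k) by group,
      ← Coprime.map_conj_map_conj, Coprime.map_conj_eq h1]
  have hQtop : Q₀ ≠ ⊤ := ne_top_of_isPGroup hG.2 hQ₀p
  exact hQ₀W (le_normalizer.trans (B.le_of_rank_three hG (normalizer_ne_top hG.2 hQ₀0 hQtop) B.hR hR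
    (fcomp_le r W)))

end BigMax

end Cfsg.Agent.H41
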