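import Cfsg.Agent.H41.SCNMain

/-!
The case that no maximal subgroup containing `A` has a Fitting subgroup of rank at least 3.
-/

set_option autoImplicit false

namespace Cfsg.Agent.H41

open Subgroup
open scoped commutatorElement

variable {G : Type*} [Group G] [Finite G] {p : ℕ} [hp : Fact p.Prime] {P : Sylow p G}
  {A A₁ : Subgroup G}

namespace ScnSetup

variable (S : ScnSetup p P A A₁)
include S

theorem not_isPGroup : ¬ IsPGroup p G := fun h =>
  ne_top_of_isPGroup S.hG.2 (h.to_subgroup ⊤) rfl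

theorem inf_derived_normalizer_ne_bot :
    (P : Subgroup G) ⊓ ⁅normalizer ((P : Subgroup G) : Set G), normalizer ((P : Subgroup G) : Set G)⁆ ≠ ⊥ := by
  intro h
  have hP : normalizer ((P : Subgroup G) : Set G) ≤ centralizer ((P : Subgroup G) : Set G) := by
    intro g hg x hx
    have h1 : ⁅g, x⁆ ∈ (P : Subgroup G) ⊓
        ⁅normalizer ((P : Subgroup G) : Set G), normalizer ((P : Subgroup G) : Set G)⁆ :=
      ⟨(P : Subgroup G).mul_mem (Coprime.conj_mem hg hx) ((P : Subgroup G).inv_mem hx),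
        commutator_mem_commutator hg (le_normalizer hx)⟩
    rw [h, mem_bot] at h1
    exact (commutatorElement_eq_one_iff_mul_comm.mp h1).symm
  have hc := MonoidHom.ker_transferSylow_isComplement' P hP
  haveI := S.hG.2.1
  haveI hn : (MonoidHom.transferSylow P hP).ker.Normal := MonoidHom.normal_ker _
  rcases hn.eq_bot_or_eq_top with hK | hK
  · rw [hK, isComplement'_bot_left] at hc
    exact ne_top_of_isPGroup S.hG.2 P.isPGroup' hc
  · rw [hK, isComplement'_top_left] at hc
    exact S.hA0 (le_bot_iff.mp (hc ▸ S.scn.1))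

/-- If every maximal subgroup containing `A` has Fitting rank at most 2, then `A` lies in only one. -/
theorem inUniqueMaximal_of_small (hsmall : ∀ W, IsCoatom W → A ≤ W → SmallFit W) :
    Cfsg.InUniqueMaximal A := by
  classical
  have hG := S.hG
  set X := (P : Subgroup G) ⊓
    ⁅normalizer ((P : Subgroup G) : Set G), normalizer ((P : Subgroup G) : Set G)⁆ with hX
  have hX0 : X ≠ ⊥ := S.inf_derived_normalizer_ne_bot
  have hXP : X ≤ (P : Subgroup G) := inf_le_left
  have hPtop : (P : Subgroup G) ≠ ⊤ := ne_top_of_isPGroup hG.2 P.isPGroup'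
  obtain ⟨M, hM, hNM⟩ := (eq_top_or_exists_le_coatom _).resolve_left
    (normalizer_ne_top hG.2 hX0 (fun h => hPtop (top_le_iff.mp (h ▸ hXP))))
  have hPN : (P : Subgroup G) ≤ normalizer (X : Set G) :=
    le_normalizer_inf le_normalizer
      (le_normalizer.trans ((H42.le_normalizer_commutator le_normalizer le_normalizer)))
  have hPM : (P : Subgroup G) ≤ M := hPN.trans hNM
  have hAM : A ≤ M := S.scn.1.trans hPM
  have hPπ : ∀ q : ℕ, q.Prime → q ∣ Nat.card (P : Subgroup G) → q ∣ Nat.card A := by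
    intro q hq hd
    obtain ⟨n, hn⟩ := IsPGroup.iff_card.mp P.isPGroup'
    rw [hn] at hd
    rw [(Nat.prime_dvd_prime_iff_eq hq hp.out).mp (hq.dvd_of_dvd_pow hd)]
    obtain ⟨m, hm⟩ := IsPGroup.iff_card.mp S.hAp
    rw [hm]
    exact dvd_pow_self p fun h => S.hA0 (card_eq_one.mp (by rw [hm, h, pow_zero]))
  have hsn : (A.subgroupOf (P : Subgroup G)).IsSubnormal :=
    ((normal_subgroupOf_iff_le_normalizer S.scn.1).mpr S.scn.2.1).isSubnormal
  -- the maximal `P`-invariant members lie in `M` and are maximal `A`-members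
  have hQM : ∀ q : ℕ, q.Prime → q ≠ p → ∀ Q ∈ Cfsg.maxInvSubgroups ⊤ (P : Subgroup G) {q},
      Q ≤ M ∧ Q ∈ Cfsg.maxInvSubgroups ⊤ A {q} := by
    intro q hq hqp Q hQ
    haveI := Fact.mk hq
    obtain ⟨-, -, h3, h4⟩ := Cfsg.Agent.S1395.result hG A S.transitivityHypothesis q hq
      (S.not_dvd_card_A hq hqp) (P : Subgroup G) hPtop hPπ S.scn.1 hsn (S.transitive hq hqp)
    have hQA := h3 hQ
    refine ⟨?_, hQA⟩
    have hQq : IsPGroup q Q := isPGroup_of_invSubgroups hq hQ.1
    by_cases hQ0 : Q = ⊥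
    · rw [hQ0]; exact bot_le
    obtain ⟨W₂, hW₂, hNW₂⟩ := (eq_top_or_exists_le_coatom _).resolve_left
      (normalizer_ne_top hG.2 hQ0 (ne_top_of_isPGroup hG.2 hQq))
    have hAW₂ : A ≤ W₂ := hQA.1.2.2.trans hNW₂
    haveI : Group.IsSolvable W₂ := isSolvable_of_ne_top hG.2 hW₂.1
    have hXF : X ≤ fcomp p W₂ := le_fcomp_of_small hG.1 (hsmall W₂ hW₂ hAW₂)
      ((h4 Q hQ).1.trans (commutator_mono hNW₂ hNW₂)) (P.isPGroup'.to_le hXP)
    have hQc : Q ≤ pCorePrime p W₂ := S.member_le_core hW₂.1 hAW₂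
      (member_of_isPGroup hqp hQq hQA.1.2.2) (le_normalizer.trans hNW₂)
    exact (((hQc.trans (pCorePrime_le_centralizer_fcomp p W₂)).trans (centralizer_le hXF)).trans
      (centralizer_le_normalizer X)).trans hNM
  -- `transK A ≤ M`
  have hK : transK A ≤ M := by
    have hPK : (P : Subgroup G) ≤ normalizer (transK A : Set G) :=
      (le_normalizer_centralizer S.scn.2.1).trans (normalizer_le_normalizer_piCoreOf _ _)
    have hKm := S.member_transK
    have hcop : (Nat.card (P : Subgroup G)).Coprime (Nat.card (transK A)) := by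
      obtain ⟨n, hn⟩ := IsPGroup.iff_card.mp P.isPGroup'
      rw [hn]
      exact (hKm.1.pow_right n).symm
    refine Coprime.le_of_exists_sylow_le fun q hq => ?_
    haveI := Fact.mk hq
    obtain ⟨Q, hQ⟩ := Coprime.exists_invariant_sylow hPK hcop (Or.inr (S.solvable hKm)) q
    refine ⟨Q, ?_⟩
    by_cases hqp : q = p
    · subst hqp
      obtain ⟨n, hn⟩ := IsPGroup.iff_card.mp (Q.isPGroup'.map (transK A).subtype)
      rcases Nat.eq_zero_or_pos n with rfl | hn0
      · rw [card_eq_one.mp (by rw [hn, pow_zero] :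
          Nat.card ((Q : Subgroup (transK A)).map (transK A).subtype) = 1)]
        exact bot_le
      · exfalso
        have h2 := coprime_of_le (map_subtype_le (Q : Subgroup (transK A))) hKm.1
        rw [hn, Nat.coprime_pow_left_iff hn0, Nat.coprime_self] at h2
        exact hp.out.ne_one h2
    obtain ⟨Q₁, hQ₁, hle⟩ := exists_maxInvSubgroups_ge
      (invSubgroups_of_isPGroup (A := (P : Subgroup G)) (Q.isPGroup'.map _) hQ)
    exact hle.trans (hQM q hq hqp Q₁ hQ₁).1
  refine S.inUniqueMaximal_of_members hM hAM fun Y hY => S.member_le_of_pMembers hY ?_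
  intro q hq hqp Q _ hQ hAQ
  haveI := Fact.mk hq
  obtain ⟨Q₀, hQ₀, -⟩ := exists_maxInvSubgroups_ge
    (invSubgroups_of_isPGroup (A := (P : Subgroup G)) (IsPGroup.of_bot (p := q) (G := G))
      (le_normalizer_iff.mpr fun a _ x hx => by rw [mem_bot.mp hx]; simp))
  obtain ⟨h1, h2⟩ := hQM q hq hqp Q₀ hQ₀
  exact S.all_members_le hqp hK h2 h1 hQ hAQ

end ScnSetup

end Cfsg.Agent.H41
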