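import Cfsg.Agent.H41.OddStable
import Cfsg.Agent.H41.Basic
import Cfsg.Agent.Thompson.ZJ
import Cfsg.Agent.Thompson.Jay
import Cfsg.Agent.Cores.Constrained
import Cfsg.Agent.Cores.PSolvable

/-!
The `ZJ` factorization `G = O_{p'}(G) N_G(Z(J(S)))` for solvable groups of odd order.
-/

set_option autoImplicit false

namespace Cfsg.Agent.H41

open Subgroup

variable {G : Type*} [Group G]

/-- `zjay` commutes with a homomorphism injective on the subgroup. -/
theorem zjay_map_of_injOn {Q : Type*} [Group Q] (e : ℕ) (f : G →* Q) (S : Subgroup G)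
    (h : Function.Injective (f.comp S.subtype)) :
    Thompson.zjay e (S.map f) = (Thompson.zjay e S).map f := by
  have h1 : Thompson.zjay e S = (Thompson.zjay e (⊤ : Subgroup S)).map S.subtype := by
    rw [← Thompson.zjay_map S.subtype S.subtype_injective, ← MonoidHom.range_eq_map, range_subtype]
  have h2 : S.map f = (⊤ : Subgroup S).map (f.comp S.subtype) := by
    rw [← Subgroup.map_map, ← MonoidHom.range_eq_map S.subtype, range_subtype]
  rw [h2, Thompson.zjay_map _ h, h1, Subgroup.map_map]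

/-- A solvable group of odd order with trivial `p'`-core has `Z(J(S))` normal. -/
theorem zjay_normal_of_odd [Finite G] {p : ℕ} [Fact p.Prime] (hp : p ≠ 2)
    (hodd : Odd (Nat.card G)) [Group.IsSolvable G] (hO : pPrimeCore p G = ⊥) (S : Sylow p G) :
    (Thompson.zjay 0 (S : Subgroup G)).Normal :=
  Thompson.zjay_zero_normal hp
    (Cores.centralizer_pCore_le Cores.isPSolvable_of_isSolvable hO) (stableOnNormal_of_odd hp hodd) S

/-- The `ZJ` factorization. -/
theorem sup_normalizer_zjay_eq_top [Finite G] {p : ℕ} [Fact p.Prime] (hp : p ≠ 2)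
    (hodd : Odd (Nat.card G)) [Group.IsSolvable G] (S : Sylow p G) :
    pPrimeCore p G ⊔ normalizer (Thompson.zjay 0 (S : Subgroup G) : Set G) = ⊤ := by
  set N := pPrimeCore p G with hN
  set q := QuotientGroup.mk' N with hq
  set Z := Thompson.zjay 0 (S : Subgroup G) with hZ
  have hinj : Function.Injective (q.comp (S : Subgroup G).subtype) := by
    rw [injective_iff_map_eq_one]
    intro x hx
    have h1 : (x : G) ∈ (S : Subgroup G) ⊓ N := ⟨x.2, (QuotientGroup.eq_one_iff _).mp hx⟩
    rw [Cores.disjoint_of_isPGroup_of_coprime S.isPGroup' Cores.coprime_card_pPrimeCore, mem_bot] at h1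
    exact Subtype.ext h1
  let S' : Sylow p (G ⧸ N) := S.mapSurjective (QuotientGroup.mk'_surjective N)
  have hodd' : Odd (Nat.card (G ⧸ N)) :=
    hodd.of_dvd_nat (Nat.card_congr (Equiv.refl _) ▸ Subgroup.card_quotient_dvd_card N)
  have hn := zjay_normal_of_odd hp hodd' Cores.pPrimeCore_quotient_pPrimeCore S'
  have himg : Thompson.zjay 0 (S' : Subgroup (G ⧸ N)) = Z.map q :=
    zjay_map_of_injOn 0 q (S : Subgroup G) hinj
  rw [himg] at hn
  haveI : (Z ⊔ N).Normal := by
    have h1 := hn.comap q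
    rwa [Subgroup.comap_map_eq, hq, QuotientGroup.ker_mk'] at h1
  have hcard : Nat.card ↥(Z ⊔ N) = Nat.card Z * Nat.card N := by
    have h1 := Cores.card_sup_mul_card_inf Z N
    have h2 : Z ⊓ N = ⊥ := le_bot_iff.mp (le_trans (inf_le_inf_right N Thompson.zjay_le)
      (Cores.disjoint_of_isPGroup_of_coprime S.isPGroup' Cores.coprime_card_pPrimeCore).le)
    rwa [h2, card_eq_one.mpr rfl, mul_one] at h1
  have hZp : IsPGroup p (Z.subgroupOf (Z ⊔ N)) :=
    (S.isPGroup'.to_le Thompson.zjay_le).comap_subtype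
  have hidx : ¬ p ∣ (Z.subgroupOf (Z ⊔ N)).index := by
    have h1 : Nat.card Z * (Z.subgroupOf (Z ⊔ N)).index = Nat.card Z * Nat.card N := by
      rw [← hcard, ← Subgroup.card_mul_index (Z.subgroupOf (Z ⊔ N)),
        Nat.card_congr (subgroupOfEquivOfLe (le_sup_left : Z ≤ Z ⊔ N)).toEquiv]
    rw [Nat.eq_of_mul_eq_mul_left Nat.card_pos h1, ← (Fact.out : p.Prime).coprime_iff_not_dvd]
    exact Cores.coprime_card_pPrimeCore.symm
  have hfr := Sylow.normalizer_sup_eq_top (hZp.toSylow hidx)
  rw [IsPGroup.toSylow_coe, subgroupOf_map_subtype, inf_eq_left.mpr le_sup_left] at hfr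
  rw [eq_top_iff, ← hfr]
  exact sup_le le_sup_right (sup_le ((le_normalizer (H := Z)).trans le_sup_right) le_sup_left)

end Cfsg.Agent.H41
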